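import Groth.Agent.ArtFunLib.Misc
import Groth.Agent.AdicLemmas.Basic

/-!
# Power series rings over `Λ`
-/

set_option autoImplicit false
set_option linter.unusedSectionVars false

open CategoryTheory ArtFun ArtFun.Art IsLocalRing

namespace Groth.Agent.ArtFunLib

universe u v

variable {Λ : Type u} {k : Type u} [CommRing Λ] [Field k] [Algebra Λ k]
variable {σ : Type} [Finite σ] {B : Type u} [CommRing B] [Algebra Λ B] (K : Ideal B) [IsAdicComplete K B]

theorem ps_exists_lift (b : σ → B) (hb : ∀ i, b i ∈ K) :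
    ∃ g : MvPowerSeries σ Λ →ₐ[Λ] B, ∀ i, g (MvPowerSeries.X i) = b i := by
  let J := MvPolynomial.idealOfVars σ Λ
  let f : MvPolynomial σ Λ →ₐ[Λ] B := MvPolynomial.aeval b
  have hf : J.map f ≤ K := by
    rw [Ideal.map_le_iff_le_comap]
    refine Ideal.span_le.mpr (Set.range_subset_iff.mpr fun i => ?_)
    change f (MvPolynomial.X i) ∈ K
    rw [MvPolynomial.aeval_X]
    exact hb i
  obtain ⟨G, hG⟩ := AdicRingLib.exists_algHom_completion (R := Λ) J K f hf
  refine ⟨G.comp ((MvPowerSeries.toAdicCompletionAlgEquiv σ Λ).restrictScalars Λ).toAlgHom, fun i => ?_⟩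
  have e := (MvPowerSeries.toAdicCompletionAlgEquiv σ Λ).commutes (MvPolynomial.X i)
  rw [show algebraMap (MvPolynomial σ Λ) (MvPowerSeries σ Λ) (MvPolynomial.X i) = MvPowerSeries.X i by
    simp [MvPowerSeries.algebraMap_apply']] at e
  change G (MvPowerSeries.toAdicCompletionAlgEquiv σ Λ (MvPowerSeries.X i)) = b i
  rw [e, hG, MvPolynomial.aeval_X]

theorem ps_ext {g g' : MvPowerSeries σ Λ →ₐ[Λ] B} (hg : ∀ i, g (MvPowerSeries.X i) ∈ K)
    (h : ∀ i, g (MvPowerSeries.X i) = g' (MvPowerSeries.X i)) : g = g' := by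
  let J := MvPolynomial.idealOfVars σ Λ
  let e := (MvPowerSeries.toAdicCompletionAlgEquiv σ Λ).restrictScalars Λ
  have he : ∀ p, e.symm (algebraMap (MvPolynomial σ Λ) _ p) = algebraMap (MvPolynomial σ Λ) (MvPowerSeries σ Λ) p :=
    fun p => (MvPowerSeries.toAdicCompletionAlgEquiv σ Λ).symm.commutes p
  have hX : ∀ i, algebraMap (MvPolynomial σ Λ) (MvPowerSeries σ Λ) (MvPolynomial.X i) = MvPowerSeries.X i := fun i => by
    simp [MvPowerSeries.algebraMap_apply']
  have key : g.comp e.symm.toAlgHom = g'.comp e.symm.toAlgHom := by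
    refine AdicRingLib.algHom_completion_ext (K := K) (MvPolynomial.idealOfVars_fg σ Λ) (fun p hp => ?_) fun p => ?_
    · change p ∈ Ideal.span (Set.range MvPolynomial.X) at hp
      change g (e.symm (algebraMap _ _ p)) ∈ K
      rw [he]
      refine (Ideal.span_le.mpr (Set.range_subset_iff.mpr fun i => ?_) :
        Ideal.span (Set.range MvPolynomial.X) ≤ K.comap ((g.toRingHom).comp (algebraMap (MvPolynomial σ Λ) _))) hp
      change g (algebraMap (MvPolynomial σ Λ) (MvPowerSeries σ Λ) (MvPolynomial.X i)) ∈ K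
      rw [hX]
      exact hg i
    · change g (e.symm (algebraMap _ _ p)) = g' (e.symm (algebraMap _ _ p))
      rw [he]
      have : g.comp (IsScalarTower.toAlgHom Λ (MvPolynomial σ Λ) (MvPowerSeries σ Λ)) =
          g'.comp (IsScalarTower.toAlgHom Λ (MvPolynomial σ Λ) (MvPowerSeries σ Λ)) :=
        MvPolynomial.algHom_ext fun i => by
          change g (algebraMap (MvPolynomial σ Λ) (MvPowerSeries σ Λ) (MvPolynomial.X i)) =
            g' (algebraMap (MvPolynomial σ Λ) (MvPowerSeries σ Λ) (MvPolynomial.X i))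
          rw [hX]; exact h i
      exact DFunLike.congr_fun this p
  refine AlgHom.ext fun x => ?_
  rw [← e.symm_apply_apply x]
  exact DFunLike.congr_fun key (e x)

omit [Finite σ] in
lemma isAdicComplete_art (A : Art Λ k) : IsAdicComplete (maximalIdeal A) A := (artCRing A).isAdicComplete

/-- Power series satisfy the lifting property against `Art`. -/
theorem ps_existsUnique (hk : Function.Surjective (algebraMap Λ k)) {resP : MvPowerSeries σ Λ →ₐ[Λ] k}
    (hres : ∀ i, resP (MvPowerSeries.X i) = 0) (A : Art Λ k) (b : σ → A) (hb : ∀ i, A.res (b i) = 0) :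
    ∃! φ : HomSet (MvPowerSeries σ Λ) resP A, ∀ i, φ.1 (MvPowerSeries.X i) = b i := by
  have := isAdicComplete_art A
  obtain ⟨g, hg⟩ := ps_exists_lift (Λ := Λ) (maximalIdeal A) b fun i => (mem_maximalIdeal_iff A _).mpr (hb i)
  have : IsAdicComplete (⊥ : Ideal k) k := {}
  refine ⟨⟨g, ps_ext (⊥ : Ideal k) (fun i => ?_) fun i => ?_⟩, hg, fun φ hφ => Subtype.ext ?_⟩
  · rw [AlgHom.comp_apply, hg, hb]; exact zero_mem _
  · rw [AlgHom.comp_apply, hg, hb, hres]
  · exact ps_ext (maximalIdeal A) (fun i => by rw [hφ]; exact (mem_maximalIdeal_iff A _).mpr (hb i))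
      fun i => (hφ i).trans (hg i).symm

/-- Power series over a complete local `Λ` as a coefficient ring. -/
theorem exists_psCRing [IsNoetherianRing Λ] [IsLocalRing Λ] [IsAdicComplete (maximalIdeal Λ) Λ]
    (hk : Function.Surjective (algebraMap Λ k)) (n : ℕ) :
    ∃ (res : MvPowerSeries (Fin n) Λ →ₐ[Λ] k), Function.Surjective res ∧ (∀ i, res (MvPowerSeries.X i) = 0) ∧
      IsAdicComplete (maximalIdeal (MvPowerSeries (Fin n) Λ)) (MvPowerSeries (Fin n) Λ) := by
  let P := MvPowerSeries (Fin n) Λ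
  let c : P →ₐ[Λ] Λ := { (MvPowerSeries.constantCoeff (σ := Fin n) (R := Λ)) with
    commutes' := fun r => MvPowerSeries.constantCoeff_C r }
  have hcX : ∀ i, c (MvPowerSeries.X i) = 0 := fun i => MvPowerSeries.constantCoeff_X i
  refine ⟨(Algebra.ofId Λ k).comp c, fun x => ?_, fun i => ?_, ?_⟩
  · obtain ⟨r, rfl⟩ := hk x
    exact ⟨algebraMap Λ P r, AlgHom.commutes _ r⟩
  · rw [AlgHom.comp_apply, hcX, map_zero]
  have hXm : ∀ i, algebraMap (MvPolynomial (Fin n) Λ) (MvPowerSeries (Fin n) Λ) (MvPolynomial.X i) = MvPowerSeries.X i :=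
    fun i => by simp [MvPowerSeries.algebraMap_apply']
  have hcp : ∀ p : MvPolynomial (Fin n) Λ,
      c (algebraMap (MvPolynomial (Fin n) Λ) (MvPowerSeries (Fin n) Λ) p) = MvPolynomial.constantCoeff p := fun p => by
    have : c.comp (IsScalarTower.toAlgHom Λ (MvPolynomial (Fin n) Λ) (MvPowerSeries (Fin n) Λ)) =
        MvPolynomial.aeval fun _ => (0 : Λ) := MvPolynomial.algHom_ext fun i => by
      rw [MvPolynomial.aeval_X]
      exact (congrArg c (hXm i)).trans (hcX i)
    refine (DFunLike.congr_fun this p).trans ?_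
    simp
  let I : Ideal P := Ideal.span (Set.range MvPowerSeries.X)
  have hIker : I = RingHom.ker c.toRingHom := by
    refine le_antisymm (Ideal.span_le.mpr (Set.range_subset_iff.mpr fun i => hcX i)) fun f hf => ?_
    let e := (MvPowerSeries.toAdicCompletionAlgEquiv (Fin n) Λ).restrictScalars Λ
    have hJ := MvPolynomial.idealOfVars_fg (Fin n) Λ
    obtain ⟨p, hp⟩ := Ideal.Quotient.mk_surjective (AdicCompletion.eval (MvPolynomial.idealOfVars (Fin n) Λ) _ 1 (e f))
    have hmem : e f - algebraMap (MvPolynomial (Fin n) Λ) _ p ∈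
        (MvPolynomial.idealOfVars (Fin n) Λ ^ 1 • ⊤ : Submodule (MvPolynomial (Fin n) Λ) _) := by
      rw [AdicCompletion.pow_smul_top_eq_ker_eval hJ, LinearMap.mem_ker, map_sub, sub_eq_zero, ← hp]
      rfl
    rw [pow_one, Ideal.smul_top_eq_map, Submodule.restrictScalars_mem] at hmem
    have hJI : (MvPolynomial.idealOfVars (Fin n) Λ).map (algebraMap (MvPolynomial (Fin n) Λ) P) = I := by
      rw [MvPolynomial.idealOfVars, Ideal.map_span, ← Set.range_comp]
      exact congrArg (fun s => Ideal.span (Set.range s)) (funext hXm)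
    have h2 : f - algebraMap (MvPolynomial (Fin n) Λ) P p ∈ I := by
      rw [← hJI]
      have := Ideal.mem_map_of_mem (MvPowerSeries.toAdicCompletionAlgEquiv (Fin n) Λ).symm.toAlgHom.toRingHom hmem
      rw [Ideal.map_map, AlgHom.toRingHom_eq_coe, AlgHom.comp_algebraMap] at this
      refine (congrArg (· ∈ _) ?_).mp this
      refine (map_sub (MvPowerSeries.toAdicCompletionAlgEquiv (Fin n) Λ).symm _ _).trans ?_
      congr 1
      · exact (MvPowerSeries.toAdicCompletionAlgEquiv (Fin n) Λ).symm_apply_apply f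
      · exact (MvPowerSeries.toAdicCompletionAlgEquiv (Fin n) Λ).symm.commutes p
    have h3 : p ∈ MvPolynomial.idealOfVars (Fin n) Λ := by
      have h4 : c (algebraMap (MvPolynomial (Fin n) Λ) P p) = 0 := by
        have := (Ideal.span_le.mpr (Set.range_subset_iff.mpr fun i => hcX i) : I ≤ RingHom.ker c.toRingHom) h2
        rw [RingHom.mem_ker, map_sub, show c.toRingHom f = 0 from hf, zero_sub, neg_eq_zero] at this
        exact this
      rw [← pow_one (MvPolynomial.idealOfVars (Fin n) Λ), MvPolynomial.mem_pow_idealOfVars_iff']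
      intro x hx
      rw [show x = 0 from (Finsupp.degree_eq_zero_iff x).mp (by omega)]
      exact (hcp p).symm.trans h4
    rw [← sub_add_cancel f (algebraMap (MvPolynomial (Fin n) Λ) P p)]
    exact add_mem h2 (hJI ▸ Ideal.mem_map_of_mem _ h3)
  have hcs : Function.Surjective c := fun r => ⟨algebraMap Λ P r, c.commutes r⟩
  let eq : (P ⧸ I) ≃+* Λ := (Ideal.quotEquivOfEq hIker).trans (RingHom.quotientKerEquivOfSurjective hcs)
  have hmax : ((maximalIdeal P).map (Ideal.Quotient.mk I)).map eq = maximalIdeal Λ := by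
    rw [← Ideal.map_coe eq, Ideal.map_map,
      show (eq : P ⧸ I →+* Λ).comp (Ideal.Quotient.mk I) = c.toRingHom from RingHom.ext fun x => rfl]
    refine le_antisymm ?_ fun l hl => ?_
    · rw [Ideal.map_le_iff_le_comap]
      intro f hf
      rw [Ideal.mem_comap, mem_maximalIdeal] at *
      exact fun hu => hf (MvPowerSeries.isUnit_iff_constantCoeff.mpr hu)
    · refine (Ideal.mem_map_iff_of_surjective _ hcs).mpr ⟨algebraMap Λ P l, ?_, c.commutes l⟩
      rw [mem_maximalIdeal] at hl ⊢
      exact fun hu => hl (by simpa [c.commutes l] using hu.map c)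
  have : IsAdicComplete I P := inferInstanceAs (IsAdicComplete (Ideal.span (Set.range MvPowerSeries.X)) P)
  have : IsAdicComplete ((maximalIdeal P).map (Ideal.Quotient.mk I)) (P ⧸ I) := by
    rw [← IsAdicComplete.congr_ringEquiv _ eq, hmax]
    infer_instance
  exact AdicLemmas.isAdicComplete_of_quotient I _

end Groth.Agent.ArtFunLib
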