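import Groth.Prelude.Def_ArtFun3
import Groth.Prelude.Def_ArtFun5
import Mathlib

/-!
# The category of Artinian local algebras: surjections, small extensions, lengths
-/

set_option autoImplicit false
set_option linter.unusedSectionVars false

open CategoryTheory ArtFun ArtFun.Art IsLocalRing

namespace Groth.Agent.ArtFunLib

universe u v

variable {Λ : Type u} {k : Type u} [CommRing Λ] [Field k] [Algebra Λ k]

lemma apply_mem_maximalIdeal_iff {A B : Art Λ k} (f : A ⟶ B) (a : A) :
    f a ∈ maximalIdeal B ↔ a ∈ maximalIdeal A := by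
  rw [mem_maximalIdeal_iff, mem_maximalIdeal_iff, res_app]

lemma ker_le_maximalIdeal {A B : Art Λ k} (f : A ⟶ B) : RingHom.ker f.toAlgHom ≤ maximalIdeal A := by
  intro a ha
  rw [← apply_mem_maximalIdeal_iff f, show f a = 0 from ha]
  exact Ideal.zero_mem _

lemma isNilpotent_maximalIdeal (A : Art Λ k) : IsNilpotent (maximalIdeal A) :=
  isArtinianRing_iff_isNilpotent_maximalIdeal _ |>.mp inferInstance

lemma exists_pow_eq_bot (A : Art Λ k) : ∃ N : ℕ, maximalIdeal A ^ N = ⊥ := isNilpotent_maximalIdeal A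

lemma isIso_of_bijective {A B : Art Λ k} (f : A ⟶ B) (hf : Function.Bijective f) : IsIso f := by
  let e := AlgEquiv.ofBijective f.toAlgHom hf
  have he : A.res.comp (e.symm : B →ₐ[Λ] A) = B.res := by
    refine AlgHom.ext fun b => ?_
    obtain ⟨a, rfl⟩ := hf.2 b
    rw [res_app]
    exact congrArg A.res (e.symm_apply_apply a)
  exact ⟨⟨⟨(e.symm : B →ₐ[Λ] A), he⟩, Art.hom_ext (AlgHom.ext fun a => e.symm_apply_apply a),
    Art.hom_ext (AlgHom.ext fun b => e.apply_symm_apply b)⟩⟩

lemma bijective_of_isIso {A B : Art Λ k} (f : A ⟶ B) [IsIso f] : Function.Bijective f :=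
  ⟨fun a a' h => by
    have : (f ≫ inv f) a = (f ≫ inv f) a' := congrArg (inv f).toAlgHom h
    rwa [IsIso.hom_inv_id] at this, fun b => ⟨inv f b, by
    change (inv f ≫ f) b = b
    rw [IsIso.inv_hom_id]; rfl⟩⟩

lemma exists_lift_res (B : Art Λ k) (b : B) {A : Art Λ k} {f : B ⟶ A} (t : B) (a : B)
    (htm : ∀ m ∈ maximalIdeal B, m * t = 0) (h : B.res a = B.res b) : b * t = a * t := by
  rw [← sub_eq_zero, ← sub_mul]
  exact htm _ (by rw [mem_maximalIdeal_iff, map_sub, h, sub_self])

/-- A small extension is a surjection whose kernel is spanned by a socle element. -/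
lemma isSmallExt_iff {A B : Art Λ k} (p : B ⟶ A) :
    IsSmallExt p ↔ Function.Surjective p ∧ ∃ t : B, t ≠ 0 ∧ (∀ m ∈ maximalIdeal B, m * t = 0) ∧
      RingHom.ker p.toAlgHom = Ideal.span {t} := by
  constructor
  · rintro ⟨hs, hne, hpr, hm⟩
    obtain ⟨t, ht⟩ := hpr.principal
    refine ⟨hs, t, fun h0 => hne (by rw [ht, h0]; simp), fun m hm' => ?_, ht⟩
    have : m * t ∈ maximalIdeal B * RingHom.ker p.toAlgHom :=
      Ideal.mul_mem_mul hm' (by rw [ht]; exact Ideal.mem_span_singleton_self t)
    rwa [hm] at this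
  · rintro ⟨hs, t, ht0, htm, ht⟩
    refine ⟨hs, fun h0 => ht0 ?_, ⟨⟨t, ht⟩⟩, ?_⟩
    · have h1 : t ∈ RingHom.ker p.toAlgHom := by rw [ht]; exact Ideal.mem_span_singleton_self t
      rwa [h0, Ideal.mem_bot] at h1
    · rw [ht, eq_bot_iff, Ideal.mul_le]
      intro m hm x hx
      obtain ⟨r, rfl⟩ := Ideal.mem_span_singleton.mp hx
      rw [Ideal.mem_bot, ← mul_assoc, htm m hm, zero_mul]

lemma exists_socle_element {B : Type u} [CommRing B] [IsLocalRing B] [IsArtinianRing B]
    {K J : Ideal B} (hKJ : K < J) : ∃ t ∈ J, t ∉ K ∧ ∀ m ∈ maximalIdeal B, m * t ∈ K := by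
  classical
  obtain ⟨N, hN⟩ := (isArtinianRing_iff_isNilpotent_maximalIdeal B).mp inferInstance
  have hex : ∃ n, maximalIdeal B ^ n * J ≤ K := ⟨N, by rw [hN, Ideal.zero_eq_bot, Ideal.bot_mul]; exact bot_le⟩
  obtain ⟨n, hn⟩ : ∃ n, Nat.find hex = n + 1 := by
    refine Nat.exists_eq_succ_of_ne_zero fun h0 => hKJ.not_ge ?_
    have := Nat.find_spec hex
    rwa [h0, pow_zero, Ideal.one_eq_top, Ideal.top_mul] at this
  have hmax := Nat.find_spec hex
  rw [hn, pow_succ', mul_assoc] at hmax
  obtain ⟨t, ht, htK⟩ := SetLike.not_le_iff_exists.mp (Nat.find_min hex (show n < Nat.find hex by omega))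
  exact ⟨t, Ideal.mul_le_right ht, htK, fun m hm => hmax (Ideal.mul_mem_mul hm ht)⟩

/-- Induction over surjections: isomorphisms, small extensions and composites suffice. -/
theorem surjective_induction {P : ∀ ⦃A B : Art Λ k⦄, (B ⟶ A) → Prop}
    (hiso : ∀ ⦃A B : Art Λ k⦄ (e : B ⟶ A), IsIso e → P e)
    (hsmall : ∀ ⦃A B : Art Λ k⦄ (p : B ⟶ A), IsSmallExt p → P p)
    (hcomp : ∀ ⦃A B C : Art Λ k⦄ (p : C ⟶ B) (q : B ⟶ A),
      Function.Surjective p → Function.Surjective q → P p → P q → P (p ≫ q))
    ⦃A B : Art Λ k⦄ (f : B ⟶ A) (hf : Function.Surjective f) : P f := by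
  have key : ∀ K : Ideal B, ∀ (hKJ : K ≤ RingHom.ker f.toAlgHom),
      P (quotFactor (hKJ.trans (ker_le_maximalIdeal f)) f hKJ) := by
    intro K
    induction K using IsNoetherian.induction with
    | hgt K ih =>
      intro hKJ
      have hKm := hKJ.trans (ker_le_maximalIdeal f)
      rcases hKJ.eq_or_lt with h | h
      · refine hiso _ (isIso_of_bijective _ ⟨(injective_iff_map_eq_zero _).mpr fun x hx => ?_, fun a => ?_⟩)
        · obtain ⟨b, rfl⟩ := Ideal.Quotient.mk_surjective x
          refine Ideal.Quotient.eq_zero_iff_mem.mpr ?_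
          rw [h]
          exact hx
        · obtain ⟨b, rfl⟩ := hf a
          exact ⟨Ideal.Quotient.mk K b, rfl⟩
      · obtain ⟨t, htJ, htK, htm⟩ := exists_socle_element h
        let K' := K ⊔ Ideal.span {t}
        have hK'J : K' ≤ RingHom.ker f.toAlgHom := sup_le hKJ ((Ideal.span_singleton_le_iff_mem _).mpr htJ)
        have hK'm := hK'J.trans (ker_le_maximalIdeal f)
        have hlt : K < K' := lt_of_le_of_ne le_sup_left fun he => htK (he ▸ Ideal.mem_sup_right (Ideal.mem_span_singleton_self t))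
        have hq : K ≤ RingHom.ker (quotMk B K' hK'm).toAlgHom := fun x hx =>
          Ideal.Quotient.eq_zero_iff_mem.mpr (hlt.le hx)
        let q := quotFactor hKm (quotMk B K' hK'm) hq
        have hqs : Function.Surjective q := fun x => by
          obtain ⟨b, rfl⟩ := Ideal.Quotient.mk_surjective x
          exact ⟨Ideal.Quotient.mk K b, rfl⟩
        have hsm : IsSmallExt q := by
          refine (isSmallExt_iff q).mpr ⟨hqs, Ideal.Quotient.mk K t, ?_, ?_, ?_⟩
          · exact fun h0 => htK (Ideal.Quotient.eq_zero_iff_mem.mp h0)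
          · intro m hm
            obtain ⟨b, rfl⟩ := Ideal.Quotient.mk_surjective m
            have hb : b ∈ maximalIdeal B := (apply_mem_maximalIdeal_iff (quotMk B K hKm) b).mp hm
            exact (map_mul (Ideal.Quotient.mk K) b t).symm.trans (Ideal.Quotient.eq_zero_iff_mem.mpr (htm b hb))
          · refine le_antisymm (fun x hx => ?_) ((Ideal.span_singleton_le_iff_mem _).mpr ?_)
            · obtain ⟨b, rfl⟩ := Ideal.Quotient.mk_surjective x
              have hb : b ∈ K' := Ideal.Quotient.eq_zero_iff_mem.mp hx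
              obtain ⟨c, hc, d, hd, rfl⟩ := Submodule.mem_sup.mp hb
              rw [map_add, Ideal.Quotient.eq_zero_iff_mem.mpr hc, zero_add]
              obtain ⟨r, rfl⟩ := Ideal.mem_span_singleton.mp hd
              rw [map_mul]
              exact Ideal.mul_mem_right _ _ (Ideal.mem_span_singleton_self _)
            · exact Ideal.Quotient.eq_zero_iff_mem.mpr (Ideal.mem_sup_right (Ideal.mem_span_singleton_self t))
        have he : q ≫ quotFactor hK'm f hK'J = quotFactor hKm f hKJ :=
          Art.hom_ext (AlgHom.ext fun x => by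
            obtain ⟨b, rfl⟩ := Ideal.Quotient.mk_surjective x
            rfl)
        rw [← he]
        refine hcomp _ _ hqs (fun a => ?_) (hsmall q hsm) (ih K' hlt hK'J)
        obtain ⟨b, rfl⟩ := hf a
        exact ⟨Ideal.Quotient.mk K' b, rfl⟩
  rw [← quotMk_quotFactor (bot_le.trans (ker_le_maximalIdeal f)) f bot_le]
  refine hcomp _ _ (quotMk_surjective _ _ _) ?_ (hiso _ (isIso_of_bijective _
    ⟨(injective_iff_map_eq_zero _).mpr fun x hx => ?_, quotMk_surjective _ _ _⟩)) (key ⊥ bot_le)
  · intro a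
    obtain ⟨b, rfl⟩ := hf a
    exact ⟨Ideal.Quotient.mk ⊥ b, rfl⟩
  · exact Ideal.mem_bot.mp (Ideal.Quotient.eq_zero_iff_mem.mp hx)

/-! ### Lengths -/

section Length

variable [Module.Finite Λ k]

lemma isArtinian_residue : IsArtinian Λ k := by
  let P := RingHom.ker (algebraMap Λ k)
  have hP : P.IsPrime := RingHom.ker_isPrime _
  let _ : Algebra (Λ ⧸ P) k := (RingHom.kerLift (algebraMap Λ k)).toAlgebra
  have _ : IsScalarTower Λ (Λ ⧸ P) k := IsScalarTower.of_algebraMap_eq fun x => rfl
  have hinj : Function.Injective (algebraMap (Λ ⧸ P) k) := RingHom.kerLift_injective _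
  have _ : Module.Finite (Λ ⧸ P) k := Module.Finite.of_restrictScalars_finite Λ (Λ ⧸ P) k
  have hF : IsField (Λ ⧸ P) := isField_of_isIntegral_of_isField hinj (Field.toIsField k)
  let _ := hF.toField
  have : IsArtinian (Λ ⧸ P) k := inferInstance
  exact isArtinian_of_surjective_algebraMap (R := Λ ⧸ P) (S := Λ) Ideal.Quotient.mk_surjective

lemma isFiniteLength_residue [IsNoetherianRing Λ] : IsFiniteLength Λ k :=
  isFiniteLength_iff_isNoetherian_isArtinian.mpr ⟨inferInstance, isArtinian_residue⟩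

/-- A finite length module over an object of `Art` is Artinian over `Λ`. -/
lemma isArtinian_of_isFiniteLength (A : Art Λ k) {M : Type u} [AddCommGroup M] [Module A M] [Module Λ M]
    [IsScalarTower Λ A M] (h : IsFiniteLength A M) : IsArtinian Λ M := by
  revert ‹Module Λ M› ‹IsScalarTower Λ A M›
  induction h with
  | of_subsingleton => intros; infer_instance
  | @of_simple_quotient M _ _ N hsimp _ ih =>
    intro _ _
    have hN : IsArtinian Λ (N.restrictScalars Λ) := ih
    have hq : IsArtinian Λ (M ⧸ N) := by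
      obtain ⟨I, hI, ⟨e⟩⟩ := isSimpleModule_iff_quot_maximal.mp hsimp
      rw [IsLocalRing.eq_maximalIdeal hI] at e
      let g : (A ⧸ maximalIdeal A) →ₗ[Λ] k :=
        (Ideal.Quotient.liftₐ _ A.res fun a ha => (A.mem_maximalIdeal_iff a).mp ha).toLinearMap
      have hg : Function.Injective g := by
        refine (injective_iff_map_eq_zero g).mpr fun x hx => ?_
        obtain ⟨a, rfl⟩ := Ideal.Quotient.mk_surjective x
        exact Ideal.Quotient.eq_zero_iff_mem.mpr ((A.mem_maximalIdeal_iff a).mpr hx)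
      have := isArtinian_residue (Λ := Λ) (k := k)
      exact isArtinian_of_injective (g ∘ₗ (e.restrictScalars Λ).toLinearMap) (hg.comp e.injective)
    exact isArtinian_of_range_eq_ker (N.restrictScalars Λ).subtype ((N.mkQ).restrictScalars Λ)
      (by ext; simp)

lemma isArtinian_art (A : Art Λ k) : IsArtinian Λ A :=
  isArtinian_of_isFiniteLength A (isFiniteLength_iff_isNoetherian_isArtinian.mpr ⟨inferInstance, inferInstance⟩)

end Length

end Groth.Agent.ArtFunLib
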