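import Groth.Agent.ArtFunLib.Basic

/-!
# Coefficient rings: truncations, formal elements, maps into complete rings
-/

set_option autoImplicit false
set_option linter.unusedSectionVars false

open CategoryTheory ArtFun ArtFun.Art IsLocalRing

namespace Groth.Agent.ArtFunLib

universe u v

variable {Λ : Type u} {k : Type u} [CommRing Λ] [Field k] [Algebra Λ k]
variable {R : CRing Λ k}

lemma res_homSet {S : Type u} [CommRing S] [Algebra Λ S] {resS : S →ₐ[Λ] k} {A : Art Λ k}
    (φ : HomSet S resS A) (s : S) : A.res (φ.1 s) = resS s := DFunLike.congr_fun φ.2 s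

lemma HomSet.ext' {S : Type u} [CommRing S] [Algebra Λ S] {resS : S →ₐ[Λ] k} {A : Art Λ k}
    {φ ψ : HomSet S resS A} (h : ∀ s, φ.1 s = ψ.1 s) : φ = ψ := Subtype.ext (AlgHom.ext h)

lemma map_maximalIdeal_le {A : Art Λ k} (φ : HomSet R.carrier R.res A) :
    (maximalIdeal R.carrier).map φ.1 ≤ maximalIdeal A := by
  rw [Ideal.map_le_iff_le_comap]
  intro a ha
  rw [Ideal.mem_comap, mem_maximalIdeal_iff, res_homSet]
  exact (CRing.mem_maximalIdeal_iff R a).mp ha

lemma apply_mem_pow {A : Art Λ k} (φ : HomSet R.carrier R.res A) {n : ℕ} {a : R.carrier}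
    (ha : a ∈ maximalIdeal R.carrier ^ n) : φ.1 a ∈ maximalIdeal A ^ n := by
  refine Ideal.pow_right_mono (map_maximalIdeal_le φ) n ?_
  rw [← Ideal.map_pow]
  exact Ideal.mem_map_of_mem _ ha

/-- A morphism to an object of `Art` factors through a truncation. -/
lemma exists_mpow_le_ker {A : Art Λ k} (φ : HomSet R.carrier R.res A) :
    ∃ N, CRing.mpow R N ≤ RingHom.ker φ.1 := by
  obtain ⟨N, hN⟩ := exists_pow_eq_bot A
  refine ⟨N, fun a ha => ?_⟩
  have : φ.1 a ∈ maximalIdeal A ^ N := Ideal.pow_le_pow_right (Nat.le_succ N) (apply_mem_pow φ ha)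
  rw [hN, Ideal.mem_bot] at this
  exact this

/-- The factorisation through a truncation. -/
noncomputable def truncFactor {A : Art Λ k} (φ : HomSet R.carrier R.res A) {N : ℕ}
    (h : CRing.mpow R N ≤ RingHom.ker φ.1) : R.trunc N ⟶ A :=
  ⟨Ideal.Quotient.liftₐ (CRing.mpow R N) φ.1 (fun _ ha => h ha), AlgHom.ext fun x => by
    obtain ⟨a, rfl⟩ := Ideal.Quotient.mk_surjective x
    exact res_homSet φ a⟩

lemma map_truncFactor {A : Art Λ k} (φ : HomSet R.carrier R.res A) {N : ℕ}
    (h : CRing.mpow R N ≤ RingHom.ker φ.1) : HomSet.map (truncFactor φ h) (R.truncHom N) = φ :=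
  HomSet.ext' fun _ => rfl

lemma trunc_hom_ext {A : Art Λ k} {N : ℕ} {f g : R.trunc N ⟶ A}
    (h : HomSet.map f (R.truncHom N) = HomSet.map g (R.truncHom N)) : f = g :=
  Art.hom_ext (AlgHom.ext fun x => by
    obtain ⟨a, rfl⟩ := Ideal.Quotient.mk_surjective x
    exact congrArg (fun ψ : HomSet R.carrier R.res A => ψ.1 a) h)

lemma truncHom_surjective (N : ℕ) : Function.Surjective (R.truncHom N).1 := Ideal.Quotient.mk_surjective

lemma truncHom_eq_zero_iff (N : ℕ) (a : R.carrier) :
    (R.truncHom N).1 a = 0 ↔ a ∈ maximalIdeal R.carrier ^ (N + 1) := Ideal.Quotient.eq_zero_iff_mem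

lemma mpow_le_ker_truncHom {m n : ℕ} (h : m ≤ n) :
    CRing.mpow R n ≤ RingHom.ker (R.truncHom m).1 := fun _ ha =>
  (truncHom_eq_zero_iff m _).mpr (Ideal.pow_le_pow_right (Nat.succ_le_succ h) ha)

/-- The transition map between truncations. -/
noncomputable def truncLE (R : CRing Λ k) {m n : ℕ} (h : m ≤ n) : R.trunc n ⟶ R.trunc m :=
  truncFactor (R.truncHom m) (mpow_le_ker_truncHom h)

lemma map_truncLE {m n : ℕ} (h : m ≤ n) : HomSet.map (truncLE R h) (R.truncHom n) = R.truncHom m :=
  map_truncFactor _ _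

lemma truncLE_surjective {m n : ℕ} (h : m ≤ n) : Function.Surjective (truncLE R h) := fun x => by
  obtain ⟨a, rfl⟩ := truncHom_surjective m x
  exact ⟨(R.truncHom n).1 a, rfl⟩

/-- A compatible sequence over the truncations is compatible with all transition maps. -/
lemma map_truncLE_eq {G : Art Λ k ⥤ Type v} (x : ∀ n, G.obj (R.trunc n))
    (hx : ∀ n, G.map (R.truncMap n) (x (n + 1)) = x n) {m n : ℕ} (h : m ≤ n) :
    G.map (truncLE R h) (x n) = x m := by
  induction n, h using Nat.le_induction with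
  | base =>
    rw [show truncLE R (le_refl m) = 𝟙 _ from trunc_hom_ext (HomSet.ext' fun _ => rfl), G.map_id]
    rfl
  | succ n h ih =>
    rw [show truncLE R (h.trans (Nat.le_succ n)) = R.truncMap n ≫ truncLE R h from
      trunc_hom_ext (HomSet.ext' fun _ => rfl), G.map_comp]
    change G.map (truncLE R h) (G.map (R.truncMap n) (x (n + 1))) = _
    rw [hx, ih]

section Families

variable {F : Art Λ k ⥤ Type v}

lemma family_app_eq (ξ : Family R.carrier R.res F) {A : Art Λ k} (φ : HomSet R.carrier R.res A) {N : ℕ}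
    (h : CRing.mpow R N ≤ RingHom.ker φ.1) :
    ξ.app A φ = F.map (truncFactor φ h) (ξ.toFormalElt.elt N) := by
  conv_lhs => rw [← map_truncFactor φ h, ξ.natural]
  rfl

lemma family_ext {ξ ξ' : Family R.carrier R.res F} (h : ∀ n, ξ.app _ (R.truncHom n) = ξ'.app _ (R.truncHom n)) :
    ξ = ξ' := by
  have : ξ.app = ξ'.app := funext fun A => funext fun φ => by
    obtain ⟨N, hN⟩ := exists_mpow_le_ker φ
    rw [family_app_eq ξ φ hN, family_app_eq ξ' φ hN]
    exact congrArg (F.map (truncFactor φ hN)) (h N)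
  cases ξ; cases ξ'; cases this; rfl

lemma family_ext' {S : Type u} [CommRing S] [Algebra Λ S] {resS : S →ₐ[Λ] k} {ξ ξ' : Family S resS F}
    (h : ∀ (A : Art Λ k) (φ : HomSet S resS A), ξ.app A φ = ξ'.app A φ) : ξ = ξ' := by
  have : ξ.app = ξ'.app := funext fun A => funext (h A)
  cases ξ; cases ξ'; cases this; rfl

lemma exists_family_of_formal (w : FormalElt F R) : ∃ ξ : Family R.carrier R.res F, ξ.toFormalElt = w := by
  choose N hN using fun (A : Art Λ k) (φ : HomSet R.carrier R.res A) => exists_mpow_le_ker φ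
  have indep : ∀ {A : Art Λ k} (φ : HomSet R.carrier R.res A) {M M' : ℕ} (h : CRing.mpow R M ≤ RingHom.ker φ.1)
      (h' : CRing.mpow R M' ≤ RingHom.ker φ.1), M ≤ M' →
      F.map (truncFactor φ h) (w.elt M) = F.map (truncFactor φ h') (w.elt M') := fun φ M M' h h' hMM' => by
    rw [← map_truncLE_eq w.elt w.compat hMM']
    conv_rhs => rw [show truncFactor φ h' = truncLE R hMM' ≫ truncFactor φ h from
      trunc_hom_ext (HomSet.ext' fun _ => rfl), F.map_comp]
    rfl
  have indep' : ∀ {A : Art Λ k} (φ : HomSet R.carrier R.res A) {M M' : ℕ} (h : CRing.mpow R M ≤ RingHom.ker φ.1)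
      (h' : CRing.mpow R M' ≤ RingHom.ker φ.1),
      F.map (truncFactor φ h) (w.elt M) = F.map (truncFactor φ h') (w.elt M') := fun φ M M' h h' =>
    (le_total M M').elim (indep φ h h') fun e => (indep φ h' h e).symm
  refine ⟨{ app := fun A φ => F.map (truncFactor φ (hN A φ)) (w.elt (N A φ)), natural := fun {A B} f φ => ?_ }, ?_⟩
  · have hle : CRing.mpow R (N A φ) ≤ RingHom.ker (HomSet.map f φ).1 := fun a ha => by
      change f (φ.1 a) = 0
      rw [show φ.1 a = 0 from hN A φ ha, map_zero]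
    rw [indep' _ (hN B _) hle, show truncFactor (HomSet.map f φ) hle = truncFactor φ (hN A φ) ≫ f from
      trunc_hom_ext (HomSet.ext' fun _ => rfl), F.map_comp]
    rfl
  · refine FormalElt.ext' fun n => ?_
    change F.map (truncFactor (R.truncHom n) (hN _ _)) (w.elt _) = w.elt n
    rw [indep' _ (hN _ (R.truncHom n)) (mpow_le_ker_truncHom (le_refl n)),
      show truncFactor (R.truncHom n) (mpow_le_ker_truncHom (le_refl n)) = 𝟙 _ from
        trunc_hom_ext (HomSet.ext' fun _ => rfl), F.map_id]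
    rfl

theorem bijective_toFormalElt :
    Function.Bijective (fun ξ : Family R.carrier R.res F => ξ.toFormalElt) :=
  ⟨fun _ _ h => family_ext fun n => congrArg (fun w : FormalElt F R => w.elt n) h, exists_family_of_formal⟩

/-- A family from a compatible system of elements. -/
lemma exists_family_of_compat (x : ∀ n, F.obj (R.trunc n)) (hx : ∀ n, F.map (R.truncMap n) (x (n + 1)) = x n) :
    ∃ ξ : Family R.carrier R.res F, ∀ n, ξ.app _ (R.truncHom n) = x n := by
  obtain ⟨ξ, hξ⟩ := exists_family_of_formal ⟨x, hx⟩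
  exact ⟨ξ, fun n => congrArg (fun w : FormalElt F R => w.elt n) hξ⟩

end Families

section Lift

variable {S : Type u} [CommRing S] [Algebra Λ S] {resS : S →ₐ[Λ] k}

lemma isHausdorff_cring (R : CRing Λ k) : IsHausdorff (maximalIdeal R.carrier) R.carrier :=
  R.isAdicComplete.toIsHausdorff

lemma eq_of_forall_truncHom {a b : R.carrier} (h : ∀ n, (R.truncHom n).1 a = (R.truncHom n).1 b) : a = b := by
  have := R.isAdicComplete
  refine (IsHausdorff.eq_iff_smodEq (I := maximalIdeal R.carrier)).2 fun n => ?_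
  rw [SModEq.sub_mem, smul_eq_mul, Ideal.mul_top]
  refine Ideal.pow_le_pow_right (Nat.le_succ n) ((truncHom_eq_zero_iff n _).mp ?_)
  rw [map_sub, h n, sub_self]

lemma algHom_ext_trunc {f g : S →ₐ[Λ] R.carrier}
    (h : ∀ n s, (R.truncHom n).1 (f s) = (R.truncHom n).1 (g s)) : f = g :=
  AlgHom.ext fun s => eq_of_forall_truncHom fun n => h n s

/-- Compatible maps to the truncations glue to a map to the complete ring. -/
theorem exists_lift_trunc (ψ : ∀ n, HomSet S resS (R.trunc n))
    (hψ : ∀ n, HomSet.map (R.truncMap n) (ψ (n + 1)) = ψ n) :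
    ∃ (g : S →ₐ[Λ] R.carrier) (_ : R.res.comp g = resS), ∀ n s, (R.truncHom n).1 (g s) = (ψ n).1 s := by
  have := R.isAdicComplete
  let m := maximalIdeal R.carrier
  have hle : ∀ n, CRing.mpow R n ≤ m ^ n := fun n => Ideal.pow_le_pow_right (Nat.le_succ n)
  let f : ∀ n, S →ₐ[Λ] R.carrier ⧸ m ^ n := fun n => (Ideal.Quotient.factorₐ Λ (hle n)).comp (ψ n).1
  have hψ' : ∀ {a b : ℕ} (h : a ≤ b), HomSet.map (truncLE R h) (ψ b) = ψ a := fun {a b} h => by
    induction b, h using Nat.le_induction with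
    | base =>
      exact HomSet.ext' fun s => by
        obtain ⟨x, hx⟩ := truncHom_surjective a ((ψ a).1 s)
        change truncLE R (le_refl a) ((ψ a).1 s) = _
        rw [← hx]; rfl
    | succ b h ih =>
      rw [← ih, ← hψ b]
      exact HomSet.ext' fun s => by
        obtain ⟨x, hx⟩ := truncHom_surjective (b + 1) ((ψ (b + 1)).1 s)
        change truncLE R (h.trans (Nat.le_succ b)) ((ψ (b + 1)).1 s) = truncLE R h (R.truncMap b ((ψ (b + 1)).1 s))
        rw [← hx]; rfl
  have hf : ∀ {a b : ℕ} (h : a ≤ b),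
      (Ideal.Quotient.factorₐ Λ (Ideal.pow_le_pow_right h)).comp (f b) = f a := fun {a b} h =>
    AlgHom.ext fun s => by
      obtain ⟨x, hx⟩ := truncHom_surjective b ((ψ b).1 s)
      have e : (ψ a).1 s = (R.truncHom a).1 x := by
        rw [← hψ' h]
        change truncLE R h ((ψ b).1 s) = _
        rw [← hx]; rfl
      change Ideal.Quotient.factor (Ideal.pow_le_pow_right h) (Ideal.Quotient.factor (hle b) ((ψ b).1 s)) =
        Ideal.Quotient.factor (hle a) ((ψ a).1 s)
      rw [← hx, e]
      rfl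

  let g := IsAdicComplete.liftAlgHom m f hf
  have hg : ∀ n s, (R.truncHom n).1 (g s) = (ψ n).1 s := fun n s => by
    obtain ⟨x, hx⟩ := truncHom_surjective (n + 1) ((ψ (n + 1)).1 s)
    have e : Ideal.Quotient.mk (m ^ (n + 1)) (g s) = f (n + 1) s := IsAdicComplete.mk_liftAlgHom m f hf _ s
    rw [← hψ n]
    change _ = R.truncMap n ((ψ (n + 1)).1 s)
    change Ideal.Quotient.mk (m ^ (n + 1)) (g s) =
      Ideal.Quotient.factor (hle (n + 1)) ((ψ (n + 1)).1 s) at e
    rw [← hx] at e ⊢
    exact e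
  refine ⟨g, AlgHom.ext fun s => ?_, hg⟩
  exact (res_homSet (R.truncHom 0) (g s)).symm.trans (by rw [hg]; exact res_homSet (ψ 0) s)

end Lift

section Surjective

variable {R' : CRing Λ k}

lemma res_comp_apply {S : Type u} [CommRing S] [Algebra Λ S] {resS : S →ₐ[Λ] k} {g : S →ₐ[Λ] R.carrier}
    (hg : R.res.comp g = resS) (s : S) : R.res (g s) = resS s := DFunLike.congr_fun hg s

lemma map_maximal_le {g : R'.carrier →ₐ[Λ] R.carrier} (hg : R.res.comp g = R'.res) :
    (maximalIdeal R'.carrier).map g ≤ maximalIdeal R.carrier := by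
  rw [Ideal.map_le_iff_le_comap]
  intro a ha
  rw [Ideal.mem_comap, CRing.mem_maximalIdeal_iff, res_comp_apply hg]
  exact (CRing.mem_maximalIdeal_iff R' a).mp ha

/-- A map of coefficient rings which is surjective modulo the square of the maximal ideal is surjective. -/
theorem surjective_of_surjective_sq (g : R'.carrier →ₐ[Λ] R.carrier) (hg : R.res.comp g = R'.res)
    (h : Function.Surjective fun a => (R.truncHom 1).1 (g a)) : Function.Surjective g := by
  have := R'.isAdicComplete
  let m := maximalIdeal R.carrier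
  let M := (maximalIdeal R'.carrier).map g.toRingHom
  have hM : M ≤ m := map_maximal_le hg
  have hsq : m ≤ M ⊔ m • m := by
    intro x hx
    obtain ⟨a, ha⟩ := h ((R.truncHom 1).1 x)
    have hd : x - g a ∈ m ^ 2 := (truncHom_eq_zero_iff 1 _).mp (by
      rw [map_sub]
      exact sub_eq_zero.mpr ha.symm)
    have ha' : a ∈ maximalIdeal R'.carrier := by
      rw [CRing.mem_maximalIdeal_iff, ← res_comp_apply hg, ← CRing.mem_maximalIdeal_iff R]
      have h2 := sub_mem hx (Ideal.pow_le_self two_ne_zero hd)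
      rwa [sub_sub_cancel] at h2
    refine Submodule.mem_sup.mpr ⟨g a, Ideal.mem_map_of_mem _ ha', x - g a, ?_, add_sub_cancel _ _⟩
    rwa [smul_eq_mul, ← sq]
  have hmM : m ≤ M := Submodule.le_of_le_smul_of_le_jacobson_bot (IsNoetherian.noetherian _)
    (maximalIdeal_le_jacobson _) hsq
  have : IsHausdorff ((maximalIdeal R'.carrier).map g.toRingHom) R.carrier :=
    IsHausdorff.of_le_jacobson _ _ (hM.trans (maximalIdeal_le_jacobson _))
  refine surjective_of_mk_map_comp_surjective (I := maximalIdeal R'.carrier) g.toRingHom fun q => ?_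
  obtain ⟨x, rfl⟩ := Ideal.Quotient.mk_surjective q
  obtain ⟨a, ha⟩ := R'.res_surjective (R.res x)
  refine ⟨a, Ideal.Quotient.eq.mpr (hmM ?_)⟩
  change g a - x ∈ maximalIdeal R.carrier
  rw [CRing.mem_maximalIdeal_iff, map_sub, res_comp_apply hg, ha, sub_self]

end Surjective

end Groth.Agent.ArtFunLib
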