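import Groth.Agent.ArtFunLib.Basic

/-!
# Fibre products in the category of Artinian local algebras
-/

set_option autoImplicit false
set_option linter.unusedSectionVars false

open CategoryTheory ArtFun ArtFun.Art IsLocalRing

namespace Groth.Agent.ArtFunLib

universe u v

variable {Λ : Type u} {k : Type u} [CommRing Λ] [Field k] [Algebra Λ k]

section Exists

variable [Module.Finite Λ k]

/-- Fibre products over a surjection exist. -/
theorem exists_fibreProd {A A₁ A₂ : Art Λ k} (f₁ : A₁ ⟶ A) (f₂ : A₂ ⟶ A) (hf₂ : Function.Surjective f₂) :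
    ∃ (B : Art Λ k) (p₁ : B ⟶ A₁) (p₂ : B ⟶ A₂), IsFibreProd p₁ p₂ f₁ f₂ := by
  let S : Subalgebra Λ (A₁ × A₂) :=
    AlgHom.equalizer (f₁.toAlgHom.comp (AlgHom.fst Λ A₁ A₂)) (f₂.toAlgHom.comp (AlgHom.snd Λ A₁ A₂))
  have hmem : ∀ x : A₁ × A₂, x ∈ S ↔ f₁ x.1 = f₂ x.2 := fun x => Iff.rfl
  let π₁ : S →ₐ[Λ] A₁ := (AlgHom.fst Λ A₁ A₂).comp S.val
  let π₂ : S →ₐ[Λ] A₂ := (AlgHom.snd Λ A₁ A₂).comp S.val
  have hres : ∀ s : S, A₁.res (π₁ s) = A₂.res (π₂ s) := fun s => by
    rw [← res_app f₁ (π₁ s), ← res_app f₂ (π₂ s)]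
    exact congrArg A.res s.2
  have hunit : ∀ s : S, IsUnit s ↔ IsUnit (π₁ s) := by
    intro s
    refine ⟨fun h => h.map π₁, fun h => ?_⟩
    have h2 : IsUnit (π₂ s) := by
      by_contra hn
      have h0 := (A₂.mem_maximalIdeal_iff _).mp ((mem_maximalIdeal _).mpr hn)
      rw [← hres, ← A₁.mem_maximalIdeal_iff] at h0
      exact (mem_maximalIdeal _).mp h0 h
    obtain ⟨a, ha⟩ := h.exists_right_inv
    obtain ⟨b, hb⟩ := h2.exists_right_inv
    have hS : (a, b) ∈ S := by
      rw [hmem]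
      have hs : f₁ (π₁ s) = f₂ (π₂ s) := s.2
      have e1 : f₁ (π₁ s) * f₁ a = 1 := by rw [← map_mul, ha, map_one]
      have e2 : f₂ (π₂ s) * f₂ b = 1 := by rw [← map_mul, hb, map_one]
      rw [← hs] at e2
      exact (h.map f₁.toAlgHom).mul_left_cancel (e1.trans e2.symm)
    exact IsUnit.of_mul_eq_one (⟨(a, b), hS⟩ : S) (Subtype.ext (Prod.ext ha hb))
  have : Nontrivial S := ⟨⟨0, 1, fun h => zero_ne_one (α := A₁) (congrArg π₁ h |>.trans (map_one π₁) |>.symm.trans (map_zero π₁) |>.symm)⟩⟩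
  have : IsLocalRing S := IsLocalRing.of_nonunits_add fun x y hx hy => by
    simp only [mem_nonunits_iff, hunit] at hx hy ⊢
    rw [map_add]
    exact IsLocalRing.nonunits_add hx hy
  have := isArtinian_art (k := k) A₁
  have := isArtinian_art (k := k) A₂
  have hArt : IsArtinian Λ S := isArtinian_of_injective S.val.toLinearMap Subtype.val_injective
  have : IsArtinianRing S := isArtinian_of_tower Λ hArt
  have hsurj : Function.Surjective (A₁.res.comp π₁) := fun c => by
    obtain ⟨a, ha⟩ := A₁.res_surjective c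
    obtain ⟨b, hb⟩ := hf₂ (f₁ a)
    exact ⟨⟨(a, b), (hmem _).mpr hb.symm⟩, ha⟩
  refine ⟨Art.of S (A₁.res.comp π₁) hsurj, homMk π₁ rfl, homMk π₂ (AlgHom.ext fun s => (hres s).symm),
    ⟨Art.hom_ext (AlgHom.ext fun s => s.2), fun x y h1 h2 => Subtype.ext (Prod.ext h1 h2),
      fun a b h => ⟨⟨(a, b), (hmem _).mpr h⟩, rfl, rfl⟩⟩⟩

end Exists

variable {B A A' A'' : Art Λ k} {p' : B ⟶ A'} {p'' : B ⟶ A''} {f' : A' ⟶ A} {f'' : A'' ⟶ A}

/-- The universal property. -/
theorem exists_lift (h : IsFibreProd p' p'' f' f'') {C : Art Λ k} (g' : C ⟶ A') (g'' : C ⟶ A'')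
    (w : g' ≫ f' = g'' ≫ f'') : ∃ g : C ⟶ B, g ≫ p' = g' ∧ g ≫ p'' = g'' := by
  have hw : ∀ c, f' (g' c) = f'' (g'' c) := fun c => by
    change (g' ≫ f') c = (g'' ≫ f'') c; rw [w]
  choose g h1 h2 using fun c => h.surj (g' c) (g'' c) (hw c)
  let G : C →ₐ[Λ] B :=
    { toFun := g
      map_one' := h.inj _ _ (by rw [h1]; simp) (by rw [h2]; simp)
      map_mul' := fun x y => h.inj _ _ (by simp [h1, map_mul]) (by simp [h2, map_mul])
      map_zero' := h.inj _ _ (by rw [h1]; simp) (by rw [h2]; simp)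
      map_add' := fun x y => h.inj _ _ (by simp [h1, map_add]) (by simp [h2, map_add])
      commutes' := fun r => h.inj _ _ (by rw [h1]; simp) (by rw [h2]; simp) }
  refine ⟨⟨G, AlgHom.ext fun c => ?_⟩, Art.hom_ext (AlgHom.ext h1), Art.hom_ext (AlgHom.ext h2)⟩
  change B.res (g c) = C.res c
  rw [← res_app p' (g c), h1, res_app]

lemma hom_ext_fibre (h : IsFibreProd p' p'' f' f'') {C : Art Λ k} {g g₀ : C ⟶ B}
    (h1 : g ≫ p' = g₀ ≫ p') (h2 : g ≫ p'' = g₀ ≫ p'') : g = g₀ :=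
  Art.hom_ext (AlgHom.ext fun c => h.inj _ _
    (congrArg (fun φ : C ⟶ A' => φ c) h1) (congrArg (fun φ : C ⟶ A'' => φ c) h2))

lemma surjective_fst (h : IsFibreProd p' p'' f' f'') (hs : Function.Surjective f'') :
    Function.Surjective p' := fun a => by
  obtain ⟨a'', ha⟩ := hs (f' a)
  obtain ⟨b, hb, -⟩ := h.surj a a'' ha.symm
  exact ⟨b, hb⟩

lemma IsFibreProd.symm' (h : IsFibreProd p' p'' f' f'') : IsFibreProd p'' p' f'' f' :=
  ⟨h.w.symm, fun x y h1 h2 => h.inj x y h2 h1, fun a b hab => by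
    obtain ⟨z, h1, h2⟩ := h.surj b a hab.symm
    exact ⟨z, h2, h1⟩⟩

/-- Base change of a small extension is small. -/
theorem isSmallExt_fst (h : IsFibreProd p' p'' f' f'') (hf : IsSmallExt f'') : IsSmallExt p' := by
  obtain ⟨hs, t, ht0, htm, ht⟩ := (isSmallExt_iff f'').mp hf
  have htk : f'' t = 0 := by
    change t ∈ RingHom.ker f''.toAlgHom
    rw [ht]; exact Ideal.mem_span_singleton_self t
  obtain ⟨τ, hτ1, hτ2⟩ := h.surj 0 t (by rw [map_zero, htk])
  refine (isSmallExt_iff p').mpr ⟨surjective_fst h hs, τ, fun h0 => ht0 ?_, fun m hm => ?_, ?_⟩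
  · rw [← hτ2, h0, map_zero]
  · refine h.inj _ _ (by rw [map_mul, hτ1, mul_zero, map_zero]) ?_
    rw [map_mul, hτ2, map_zero, htm _ ((apply_mem_maximalIdeal_iff p'' m).mpr hm)]
  · refine le_antisymm (fun b hb => ?_) ((Ideal.span_singleton_le_iff_mem _).mpr hτ1)
    have hb' : p' b = 0 := hb
    have : p'' b ∈ RingHom.ker f''.toAlgHom := by
      change f'' (p'' b) = 0
      rw [← h.w_apply, hb', map_zero]
    rw [ht] at this
    obtain ⟨r, hr⟩ := Ideal.mem_span_singleton.mp this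
    obtain ⟨b', hb''⟩ := B.res_surjective (A''.res r)
    refine Ideal.mem_span_singleton.mpr ⟨b', h.inj _ _ (by rw [hb', map_mul, hτ1, zero_mul]) ?_⟩
    rw [hr, map_mul, hτ2, mul_comm t, mul_comm t]
    exact exists_lift_res A'' r (f := f'') t (p'' b') htm (by rw [res_app, hb''])

/-- Squares over a composite split into two squares. -/
theorem exists_split [Module.Finite Λ k] {C : Art Λ k} {g : A'' ⟶ C} {q : C ⟶ A}
    (h : IsFibreProd p' p'' f' (g ≫ q)) (hq : Function.Surjective q) :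
    ∃ (B' : Art Λ k) (u : B ⟶ B') (v' : B' ⟶ A') (v'' : B' ⟶ C),
      u ≫ v' = p' ∧ IsFibreProd v' v'' f' q ∧ IsFibreProd u p'' v'' g := by
  obtain ⟨B', v', v'', hv⟩ := exists_fibreProd f' q hq
  obtain ⟨u, hu1, hu2⟩ := exists_lift hv p' (p'' ≫ g) (by rw [Category.assoc, h.w])
  refine ⟨B', u, v', v'', hu1, hv, ⟨hu2, fun x y h1 h2 => h.inj x y ?_ h2, fun b' a'' hb => ?_⟩⟩
  · rw [← hu1]; exact congrArg v'.toAlgHom h1
  · obtain ⟨x, hx1, hx2⟩ := h.surj (v' b') a'' (by
      rw [Art.comp_apply, ← hb, hv.w_apply])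
    refine ⟨x, hv.inj _ _ ?_ ?_, hx2⟩
    · change (u ≫ v') x = v' b'
      rw [hu1, hx1]
    · change (u ≫ v'') x = v'' b'
      rw [hu2, Art.comp_apply, hx2, hb]

/-- For a small extension `p : B → A` with kernel generated by `t`, the difference map
`B ×_A B → k[ε]` identifies `B ×_A B` with `B ×_k k[ε]`. -/
theorem exists_diff {B A Q : Art Λ k} {p : B ⟶ A} {t : B} (ht0 : t ≠ 0)
    (htm : ∀ m ∈ maximalIdeal B, m * t = 0) (ht : RingHom.ker p.toAlgHom = Ideal.span {t})
    {p₁ p₂ : Q ⟶ B} (hQ : IsFibreProd p₁ p₂ p p) :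
    ∃ δ : Q ⟶ dual Λ k, IsFibreProd p₁ δ (toBase B) (toBase (dual Λ k)) ∧
      ∀ (z : Q) (b : B), B.res b = TrivSqZeroExt.snd (δ z) → p₂ z - p₁ z = b * t := by
  have hex : ∀ z : Q, ∃ r : B, p₂ z - p₁ z = r * t := fun z => by
    have : p₂ z - p₁ z ∈ RingHom.ker p.toAlgHom := by
      change p (p₂ z - p₁ z) = 0
      rw [map_sub, sub_eq_zero, hQ.w_apply]
    rw [ht] at this
    obtain ⟨r, hr⟩ := Ideal.mem_span_singleton.mp this
    exact ⟨r, hr.trans (mul_comm _ _)⟩
  choose r hr using hex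
  have hun : ∀ a b : B, a * t = b * t → B.res a = B.res b := fun a b hab => by
    have h1 : (a - b) * t = 0 := by rw [sub_mul, hab, sub_self]
    rw [← sub_eq_zero, ← map_sub, ← B.mem_maximalIdeal_iff]
    by_contra hu
    exact ht0 ((notMem_maximalIdeal.mp hu).mul_right_eq_zero.mp h1)
  have hc : ∀ a b : B, B.res a = B.res b → a * t = b * t := fun a b hab => exists_lift_res B a (f := p) t b htm hab.symm
  let d : Q → DualNumber k := fun z => (Q.res z, B.res (r z))
  have hd : ∀ (z : Q) (b : B), p₂ z - p₁ z = b * t → d z = (Q.res z, B.res b) := fun z b hb =>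
    Prod.ext rfl (hun _ _ ((hr z).symm.trans hb))
  let D : Q →ₐ[Λ] DualNumber k :=
    { toFun := d
      map_one' := (hd 1 0 (by rw [map_one, map_one, sub_self, zero_mul])).trans
        (TrivSqZeroExt.ext (map_one Q.res) (map_zero B.res))
      map_zero' := (hd 0 0 (by rw [map_zero, map_zero, sub_self, zero_mul])).trans
        (TrivSqZeroExt.ext (map_zero Q.res) (map_zero B.res))
      map_add' := fun x y => (hd (x + y) (r x + r y) (by
        rw [map_add, map_add, add_mul, ← hr, ← hr]; ring)).trans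
          (TrivSqZeroExt.ext (map_add Q.res _ _) (map_add B.res _ _))
      map_mul' := fun x y => (hd (x * y) (r x * p₂ y + p₁ x * r y) (by
        rw [map_mul, map_mul, add_mul, mul_assoc (p₁ x), ← hr, mul_right_comm, ← hr]; ring)).trans
          (TrivSqZeroExt.ext (map_mul Q.res _ _) (by
            change B.res (r x * p₂ y + p₁ x * r y) = Q.res x • B.res (r y) + MulOpposite.op (Q.res y) • B.res (r x)
            rw [map_add, map_mul, map_mul, res_app, res_app, smul_eq_mul, MulOpposite.smul_eq_mul_unop]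
            rw [MulOpposite.unop_op, add_comm]))
      commutes' := fun l => (hd (algebraMap Λ Q l) 0 (by
        rw [AlgHom.commutes, AlgHom.commutes, sub_self, zero_mul])).trans
          (TrivSqZeroExt.ext (Q.res.commutes l) (map_zero B.res)) }
  refine ⟨homMk D (AlgHom.ext fun z => rfl), ⟨?_, fun x y h1 h2 => ?_, fun a c hac => ?_⟩, fun z b hb => ?_⟩
  · rw [eq_toBase (p₁ ≫ toBase B), eq_toBase (_ ≫ toBase (dual Λ k))]
  · refine hQ.inj x y h1 ?_
    have h3 : B.res (r x) = B.res (r y) := congrArg TrivSqZeroExt.snd h2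
    have := hc _ _ h3
    rw [← hr, ← hr, h1, sub_left_inj] at this
    exact this
  · obtain ⟨b, hb⟩ := B.res_surjective c.snd
    have hpt : p t = 0 := by
      change t ∈ RingHom.ker p.toAlgHom
      rw [ht]; exact Ideal.mem_span_singleton_self t
    obtain ⟨z, h1, h2⟩ := hQ.surj a (a + b * t) (by rw [map_add, map_mul, hpt, mul_zero, add_zero])
    refine ⟨z, h1, (hd z b (by rw [h2, h1, add_sub_cancel_left])).trans (TrivSqZeroExt.ext ?_ hb)⟩
    change Q.res z = c.fst
    rw [← res_app p₁ z, h1]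
    exact hac
  · rw [hr z]
    exact hc _ _ hb.symm

end Groth.Agent.ArtFunLib
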