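import Groth.Agent.ArtFunLib.Pres
import Groth.Agent.ArtFunLib.PS
import Groth.Prelude.Def_W4sfdMinVersal
import Groth.Prelude.Def_CAlgX

/-!
# Lifting along surjections of coefficient rings; formal smoothness of free coefficient rings
-/

set_option autoImplicit false
set_option linter.unusedSectionVars false

open CategoryTheory ArtFun ArtFun.Art IsLocalRing

namespace Groth.Agent.ArtFunLib

universe u v

variable {Λ : Type u} {k : Type u} [CommRing Λ] [Field k] [Algebra Λ k] [Module.Finite Λ k] [IsNoetherianRing Λ]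

/-- Formal lifting along a surjection of coefficient rings. -/
theorem exists_formal_lift {F : ArtFun.Art Λ k ⥤ Type v}
    (hRS : ∀ ⦃B A A₁ A₂ : ArtFun.Art Λ k⦄ (p₁ : B ⟶ A₁) (p₂ : B ⟶ A₂) (f₁ : A₁ ⟶ A) (f₂ : A₂ ⟶ A)
        (h : ArtFun.Art.IsFibreProd p₁ p₂ f₁ f₂), Function.Surjective f₂ → Function.Bijective (ArtFun.cmp F h))
    (R : CRing Λ k) (ξ : ArtFun.Family R.carrier R.res F) (hξ : ArtFun.IsVersal ξ)
    (A' A : CRing Λ k) (g : A'.carrier →ₐ[Λ] A.carrier) (hg : A.res.comp g = A'.res)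
    (hgs : Function.Surjective g) (η' : ArtFun.FormalElt F A')
    (φ : R.carrier →ₐ[Λ] A.carrier) (hφ : A.res.comp φ = R.res)
    (hsq : (ξ.along φ hφ).toFormalElt = η'.push g hg) :
    ∃ (ψ : R.carrier →ₐ[Λ] A'.carrier) (hψ : A'.res.comp ψ = R.res),
      g.comp ψ = φ ∧ (ξ.along ψ hψ).toFormalElt = η' := by
  let gn := fun n => CRing.truncMapOfHom g hg n
  have hgn : ∀ n, gn (n + 1) ≫ A.truncMap n = A'.truncMap n ≫ gn n := CRing.truncMapOfHom_truncMap g hg
  let φn : ∀ n, ArtFun.HomSet R.carrier R.res (A.trunc n) := fun n => homPre φ hφ (A.truncHom n)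
  have hsq' : ∀ n, ξ.app _ (φn n) = F.map (gn n) (η'.elt n) := fun n =>
    congrArg (fun w : ArtFun.FormalElt F A => w.elt n) hsq
  have hstart : ∃ ψ : ArtFun.HomSet R.carrier R.res (A'.trunc 0),
      ArtFun.HomSet.map (gn 0) ψ = φn 0 ∧ ξ.app _ ψ = η'.elt 0 := by
    have := trunc_zero_isIso A'
    have := trunc_zero_isIso A
    have : IsIso (gn 0) := by
      have e : gn 0 ≫ ArtFun.Art.toBase (A.trunc 0) = ArtFun.Art.toBase (A'.trunc 0) := ArtFun.Art.eq_toBase _
      exact IsIso.of_isIso_fac_right e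
    refine ⟨ArtFun.HomSet.map (inv (gn 0)) (φn 0), hom_to_trunc_zero_subsingleton A _ _, ?_⟩
    rw [ξ.natural, hsq', map_map, IsIso.hom_inv_id, map_id_apply]
  have hstep : ∀ n (ψ : ArtFun.HomSet R.carrier R.res (A'.trunc n)),
      ArtFun.HomSet.map (gn n) ψ = φn n → ξ.app _ ψ = η'.elt n →
      ∃ ψ' : ArtFun.HomSet R.carrier R.res (A'.trunc (n + 1)), ArtFun.HomSet.map (A'.truncMap n) ψ' = ψ ∧
        ArtFun.HomSet.map (gn (n + 1)) ψ' = φn (n + 1) ∧ ξ.app _ ψ' = η'.elt (n + 1) := by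
    intro n ψ hψ1 hψ2
    obtain ⟨P, q', q'', hP⟩ := exists_fibreProd (gn n) (A.truncMap n) (truncMap_surjective A n)
    obtain ⟨q, hq1, hq2⟩ := exists_lift hP (A'.truncMap n) (gn (n + 1)) (hgn n).symm
    have hqs : Function.Surjective q := fun p => by
      obtain ⟨a, ha⟩ := truncHom_surjective n (q' p)
      obtain ⟨b, hb⟩ := truncHom_surjective (n + 1) (q'' p)
      have h1 : (A.truncHom n).1 (g a) = (A.truncHom n).1 b := by
        have h2 := hP.w_apply p
        rw [← ha, ← hb] at h2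
        exact h2
      have h3 : b - g a ∈ IsLocalRing.maximalIdeal A.carrier ^ (n + 1) :=
        (truncHom_eq_zero_iff n _).mp (by rw [map_sub, h1, sub_self])
      have hle : IsLocalRing.maximalIdeal A.carrier ≤ (IsLocalRing.maximalIdeal A'.carrier).map g := fun x hx => by
        obtain ⟨y, rfl⟩ := hgs x
        refine Ideal.mem_map_of_mem _ ?_
        rw [CRing.mem_maximalIdeal_iff, ← res_comp_apply hg]
        exact (CRing.mem_maximalIdeal_iff A _).mp hx
      have h4 := Ideal.pow_right_mono hle (n + 1) h3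
      rw [← Ideal.map_pow, Ideal.mem_map_iff_of_surjective _ hgs] at h4
      obtain ⟨c, hc, hcd⟩ := h4
      refine ⟨(A'.truncHom (n + 1)).1 (a + c), hP.inj _ _ ?_ ?_⟩
      · refine (congrArg (fun f : A'.trunc (n + 1) ⟶ A'.trunc n => f ((A'.truncHom (n + 1)).1 (a + c))) hq1).trans ?_
        change (A'.truncHom n).1 (a + c) = q' p
        rw [map_add, (truncHom_eq_zero_iff n c).mpr hc, add_zero, ha]
      · refine (congrArg (fun f : A'.trunc (n + 1) ⟶ A.trunc (n + 1) => f ((A'.truncHom (n + 1)).1 (a + c))) hq2).trans ?_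
        change (A.truncHom (n + 1)).1 (g (a + c)) = q'' p
        rw [map_add g, hcd, add_sub_cancel, hb]
    obtain ⟨χ, hχ1, hχ2⟩ := (cmp_surjective_iff hP).mp (hR_isLeftExact R.res q' q'' _ _ hP).2 ψ (φn (n + 1))
      (hψ1.trans (HomSet.ext' fun r => rfl))
    obtain ⟨ψ', h1, h2⟩ := hξ q hqs χ (η'.elt (n + 1)) (by
      refine (cmp_injective_iff hP).mp (hRS _ _ _ _ hP (truncMap_surjective A n)).1 _ _ ?_ ?_
      · rw [map_map, hq1, η'.compat, ← ξ.natural, ← hψ2]
        exact congrArg (ξ.app _) hχ1.symm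
      · rw [map_map, hq2, ← ξ.natural, ← hsq']
        exact congrArg (ξ.app _) hχ2.symm)
    refine ⟨ψ', ?_, ?_, h2⟩
    · rw [← hq1]
      refine Eq.trans ?_ hχ1
      rw [← h1]
      exact HomSet.ext' fun r => rfl
    · rw [← hq2]
      refine Eq.trans ?_ hχ2
      rw [← h1]
      exact HomSet.ext' fun r => rfl
  choose ψ₀ hψ₀1 hψ₀2 using hstart
  choose next hn1 hn2 hn3 using hstep
  let seq : ∀ n, {ψ : ArtFun.HomSet R.carrier R.res (A'.trunc n) //
      ArtFun.HomSet.map (gn n) ψ = φn n ∧ ξ.app _ ψ = η'.elt n} :=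
    Nat.rec ⟨ψ₀, hψ₀1, hψ₀2⟩ fun n p => ⟨next n p.1 p.2.1 p.2.2, hn2 n _ _ _, hn3 n _ _ _⟩
  obtain ⟨ψ, hψ, hψn⟩ := exists_lift_trunc (fun n => (seq n).1) fun n => hn1 n _ _ _
  refine ⟨ψ, hψ, algHom_ext_trunc fun n r => ?_, ArtFun.FormalElt.ext' fun n => ?_⟩
  · refine Eq.trans ?_ (congrArg (fun χ : ArtFun.HomSet R.carrier R.res (A.trunc n) => χ.1 r) (seq n).2.1)
    change (A.truncHom n).1 (g (ψ r)) = gn n ((seq n).1.1 r)
    rw [← hψn]
    rfl
  · exact (congrArg (ξ.app _) (HomSet.ext' (hψn n) : homPre ψ hψ (A'.truncHom n) = (seq n).1)).trans (seq n).2.2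

/-- Lifts to a surjection exist out of a coefficient ring with smooth `h_R`. -/
theorem exists_lift_of_smooth (R : CRing Λ k) (hR' : IsSmoothFunctor (hR R.carrier R.res))
    (A' A : CRing Λ k) (g : A'.carrier →ₐ[Λ] A.carrier) (hg : A.res.comp g = A'.res) (hgs : Function.Surjective g)
    (φ : R.carrier →ₐ[Λ] A.carrier) (hφ : A.res.comp φ = R.res) :
    ∃ (ψ : R.carrier →ₐ[Λ] A'.carrier) (_ : A'.res.comp ψ = R.res), g.comp ψ = φ := by
  let F : ArtFun.Art Λ k ⥤ Type u := (Functor.const _).obj PUnit.{u+1}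
  let ξ : ArtFun.Family R.carrier R.res F := { app := fun _ _ => PUnit.unit, natural := fun _ _ => rfl }
  have hsub : ∀ X : ArtFun.Art Λ k, Subsingleton (F.obj X) := fun X => ⟨fun a b => rfl⟩
  have hξ : ArtFun.IsVersal ξ := fun B X μ hμ χ y _ => by
    obtain ⟨ψ, hψ⟩ := hR' μ hμ χ
    exact ⟨ψ, hψ, @Subsingleton.elim _ (hsub B) _ _⟩
  obtain ⟨ψ, hψ, h, -⟩ := exists_formal_lift
    (fun B X X₁ X₂ p₁ p₂ f₁ f₂ h _ => ⟨fun a b _ => @Subsingleton.elim _ (hsub B) a b,
      fun z => ⟨PUnit.unit, Subtype.ext (Prod.ext (@Subsingleton.elim _ (hsub X₁) _ _) (@Subsingleton.elim _ (hsub X₂) _ _))⟩⟩)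
    R ξ hξ A' A g hg hgs ⟨fun _ => PUnit.unit, fun _ => rfl⟩ φ hφ
    (ArtFun.FormalElt.ext' fun n => @Subsingleton.elim _ (hsub _) _ _)
  exact ⟨ψ, hψ, h⟩

omit [Module.Finite Λ k] in
/-- A coefficient ring free on variables is formally smooth. -/
theorem isAdicFormallySmooth_free (σ : Type u) [Finite σ] (c : σ → k) (hc : Algebra.adjoin Λ (Set.range c) = ⊤)
    (S : CRing Λ k) (X : σ → S.carrier) (hX : ∀ i, S.res (X i) = c i)
    (hfree : ∀ (A : ArtFun.Art Λ k) (b : σ → A), (∀ i, A.res (b i) = c i) →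
      ∃! φ : HomSet S.carrier S.res A, ∀ i, φ.1 (X i) = b i) :
    CAlgX.IsAdicFormallySmooth Λ S.carrier (maximalIdeal S.carrier) := by
  intro A _ _ J hJ ψ ⟨N, hN⟩
  classical
  let π : MvPolynomial σ Λ →ₐ[Λ] k := MvPolynomial.aeval c
  have hπ : Function.Surjective π := by
    rw [← AlgHom.range_eq_top, ← Algebra.adjoin_range_eq_range_aeval, hc]
  let P := RingHom.ker π
  have : P.IsMaximal := RingHom.ker_isMaximal_of_surjective π hπ
  let πS : MvPolynomial σ Λ →ₐ[Λ] S.carrier := MvPolynomial.aeval X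
  have hπS : S.res.comp πS = π := MvPolynomial.algHom_ext fun i => by simp [πS, π, hX]
  have hPm : ∀ p ∈ P, πS p ∈ maximalIdeal S.carrier := fun p hp => by
    rw [CRing.mem_maximalIdeal_iff]
    exact (DFunLike.congr_fun hπS p).trans hp
  let M := 2 * (N + 1)
  let I := P ^ M
  have hIP : I ≤ P := Ideal.pow_le_self (by omega)
  let resQ : MvPolynomial σ Λ ⧸ I →ₐ[Λ] k := Ideal.Quotient.liftₐ I π fun p hp => hIP hp
  have hunit : ∀ p, π p ≠ 0 → IsUnit (Ideal.Quotient.mk I p) := fun p hp => by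
    have hsup : I ⊔ Ideal.span {p} = ⊤ := by
      by_contra hne
      obtain ⟨Q, hQ, hle⟩ := Ideal.exists_le_maximal _ hne
      have hPQ : P ≤ Q := (hQ.isPrime.pow_le_iff (by omega)).mp (le_sup_left.trans hle)
      have : p ∈ P := (Ideal.IsMaximal.eq_of_le ‹_› hQ.ne_top hPQ).symm ▸ hle (Ideal.mem_sup_right (Ideal.mem_span_singleton_self p))
      exact hp this
    obtain ⟨a, ha, b, hb, hab⟩ := Submodule.mem_sup.mp ((Ideal.eq_top_iff_one _).mp hsup)
    obtain ⟨r, rfl⟩ := Ideal.mem_span_singleton.mp hb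
    refine IsUnit.of_mul_eq_one (Ideal.Quotient.mk I r) ?_
    rw [← map_mul, ← map_one (Ideal.Quotient.mk I), ← hab, map_add, Ideal.Quotient.eq_zero_iff_mem.mpr ha, zero_add]
  have : Nontrivial (MvPolynomial σ Λ ⧸ I) :=
    Ideal.Quotient.nontrivial_iff.2 fun h => (‹P.IsMaximal›).ne_top (top_le_iff.1 (h ▸ hIP))
  have : IsLocalRing (MvPolynomial σ Λ ⧸ I) := IsLocalRing.of_nonunits_add fun a b ha hb => by
    obtain ⟨a, rfl⟩ := Ideal.Quotient.mk_surjective a
    obtain ⟨b, rfl⟩ := Ideal.Quotient.mk_surjective b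
    have h0 : ∀ p, Ideal.Quotient.mk I p ∈ nonunits _ → π p = 0 := fun p hp => not_not.mp fun h => hp (hunit p h)
    intro hu
    have h1 := hu.map resQ
    rw [← map_add] at h1
    change IsUnit (π (a + b)) at h1
    rw [map_add, h0 a ha, h0 b hb, add_zero] at h1
    exact not_isUnit_zero h1
  have : IsArtinianRing (MvPolynomial σ Λ ⧸ I) := by
    rw [isArtinianRing_iff_isNilpotent_maximalIdeal]
    refine ⟨M, ?_⟩
    rw [Ideal.zero_eq_bot, ← le_bot_iff]
    calc maximalIdeal (MvPolynomial σ Λ ⧸ I) ^ M ≤ (P.map (Ideal.Quotient.mk I)) ^ M := by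
          refine Ideal.pow_right_mono (fun x hx => ?_) M
          obtain ⟨p, rfl⟩ := Ideal.Quotient.mk_surjective x
          exact Ideal.mem_map_of_mem _ (not_not.mp fun h => hx (hunit p h) : π p = 0)
      _ = I.map (Ideal.Quotient.mk I) := (Ideal.map_pow _ _ _).symm
      _ = ⊥ := Ideal.map_quotient_self _
  let Q : ArtFun.Art Λ k := Art.of (MvPolynomial σ Λ ⧸ I) resQ fun z => by
    obtain ⟨p, hp⟩ := hπ z
    exact ⟨Ideal.Quotient.mk I p, hp⟩
  obtain ⟨φ, hφ, -⟩ := hfree Q (fun i => Ideal.Quotient.mk I (MvPolynomial.X i)) fun i => by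
    change π (MvPolynomial.X i) = c i
    simp [π]
  choose a ha using fun i => Ideal.Quotient.mk_surjective (ψ (X i))
  let f : MvPolynomial σ Λ →ₐ[Λ] A := MvPolynomial.aeval a
  have hfψ : (Ideal.Quotient.mkₐ Λ J).comp f = ψ.comp πS := MvPolynomial.algHom_ext fun i => by simp [f, πS, ha]
  have hfP : ∀ p ∈ P ^ N, f p ∈ J := fun p hp => by
    rw [← Ideal.Quotient.eq_zero_iff_mem]
    refine (DFunLike.congr_fun hfψ p).trans (hN _ ?_)
    have h1 : (P ^ N).map πS ≤ maximalIdeal S.carrier ^ N := by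
      rw [Ideal.map_pow]
      exact Ideal.pow_right_mono (Ideal.map_le_iff_le_comap.mpr hPm) N
    exact h1 (Ideal.mem_map_of_mem _ hp)
  have hfI : ∀ p ∈ I, f p = 0 := fun p hp => by
    have h1 : p ∈ P ^ N * P ^ N := by
      rw [← pow_add]
      exact Ideal.pow_le_pow_right (by omega) hp
    have h2 : f p ∈ J * J := by
      have h3 : (P ^ N * P ^ N).map f ≤ J * J := by
        rw [Ideal.map_mul]
        exact Ideal.mul_mono (Ideal.map_le_iff_le_comap.mpr hfP) (Ideal.map_le_iff_le_comap.mpr hfP)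
      exact h3 (Ideal.mem_map_of_mem _ h1)
    rw [← sq, hJ] at h2
    exact h2
  let χ : S.carrier →ₐ[Λ] A := (Ideal.Quotient.liftₐ I f hfI).comp φ.1
  refine ⟨χ, AlgHom.ext fun s => ?_⟩
  let e : Q ⟶ S.trunc (M - 1) := ⟨Ideal.Quotient.liftₐ I ((S.truncHom (M - 1)).1.comp πS) (fun p hp => by
      refine (truncHom_eq_zero_iff _ _).mpr ?_
      rw [show M - 1 + 1 = M by omega]
      have h1 : I.map πS ≤ maximalIdeal S.carrier ^ M := by
        rw [Ideal.map_pow]
        exact Ideal.pow_right_mono (Ideal.map_le_iff_le_comap.mpr hPm) M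
      exact h1 (Ideal.mem_map_of_mem _ hp)), AlgHom.ext fun q => by
    obtain ⟨p, rfl⟩ := Ideal.Quotient.mk_surjective q
    change (S.trunc (M - 1)).res ((S.truncHom (M - 1)).1 (πS p)) = π p
    rw [res_homSet]
    exact DFunLike.congr_fun hπS p⟩
  obtain ⟨φ₁, -, huniq⟩ := hfree (S.trunc (M - 1)) (fun i => (S.truncHom (M - 1)).1 (X i))
    fun i => (res_homSet _ _).trans (hX i)
  have he : HomSet.map e φ = S.truncHom (M - 1) := (huniq _ fun i => by
    change e (φ.1 (X i)) = _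
    rw [hφ]
    change (S.truncHom (M - 1)).1 (πS (MvPolynomial.X i)) = _
    simp [πS]).trans (huniq _ fun i => rfl).symm
  obtain ⟨p, hp⟩ := Ideal.Quotient.mk_surjective (φ.1 s)
  have hs : s - πS p ∈ maximalIdeal S.carrier ^ N := by
    refine Ideal.pow_le_pow_right (by omega) ((truncHom_eq_zero_iff (M - 1) _).mp ?_)
    rw [map_sub, sub_eq_zero]
    refine (congrArg (fun χ : HomSet S.carrier S.res (S.trunc (M - 1)) => χ.1 s) he).symm.trans ?_
    change e (φ.1 s) = _
    rw [← hp]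
    rfl
  calc Ideal.Quotient.mk J (χ s) = Ideal.Quotient.mk J (f p) := by
        change Ideal.Quotient.mk J (Ideal.Quotient.liftₐ I f hfI (φ.1 s)) = _
        rw [← hp]
        rfl
    _ = ψ (πS p) := DFunLike.congr_fun hfψ p
    _ = ψ s := by
        rw [← sub_eq_zero, ← map_sub]
        exact hN _ (by rw [← neg_sub]; exact neg_mem hs)

/-- Smoothness of `h_R` is formal smoothness. -/
theorem isSmoothFunctor_iff_formallySmooth (R : CRing Λ k) :
    IsSmoothFunctor (hR R.carrier R.res) ↔ CAlgX.IsAdicFormallySmooth Λ R.carrier (maximalIdeal R.carrier) := by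
  constructor
  · intro h
    classical
    obtain ⟨a, c, hc⟩ := exists_residue_generators (Λ := Λ) (k := k)
    obtain ⟨b, m, hm⟩ := Submodule.fg_iff_exists_fin_generating_family.mp (IsNoetherian.noetherian (maximalIdeal R.carrier))
    choose e he using fun i => R.res_surjective (c i)
    let x : ULift.{u} (Fin a ⊕ Fin b) → R.carrier := fun i => Sum.elim e m i.down
    have hcc : Algebra.adjoin Λ (Set.range fun i => R.res (x i)) = ⊤ := top_le_iff.mp (hc ▸ Algebra.adjoin_mono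
      (Set.range_subset_iff.mpr fun i => ⟨⟨Sum.inl i⟩, he i⟩))
    obtain ⟨S, X, hX, hfree⟩ := exists_free _ (fun i => R.res (x i)) hcc
    choose ψ hψ hψu using fun n => hfree (R.trunc n) (fun i => (R.truncHom n).1 (x i)) fun i => res_homSet _ _
    obtain ⟨π, hπ, hπn⟩ := exists_lift_trunc ψ fun n => hψu n _ fun i => by
      change R.truncMap n ((ψ (n + 1)).1 (X i)) = _
      rw [hψ]; rfl
    have hπX : ∀ i, π (X i) = x i := fun i => eq_of_forall_truncHom fun n => (hπn n _).trans (hψ n i)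
    have hπs : Function.Surjective π := by
      refine surjective_of_cotangent π hπ (le_sup_of_le_left (le_sup_of_le_right ?_))
      rw [← hm]
      refine Submodule.span_le.mpr (Set.range_subset_iff.mpr fun i => ?_)
      rw [SetLike.mem_coe, ← show π (X ⟨Sum.inr i⟩) = m i from hπX _]
      refine Ideal.mem_map_of_mem _ ?_
      rw [CRing.mem_maximalIdeal_iff, hX, ← CRing.mem_maximalIdeal_iff, show x ⟨Sum.inr i⟩ = m i from rfl, ← hm]
      exact Submodule.subset_span (Set.mem_range_self i)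
    obtain ⟨s, hs, hπsec⟩ := exists_lift_of_smooth R h S R π hπ hπs (AlgHom.id Λ _) (AlgHom.comp_id _)
    intro A _ _ J hJ ψ' ⟨N, hN⟩
    obtain ⟨χ, hχ⟩ := isAdicFormallySmooth_free _ _ hcc S X hX hfree A J hJ (ψ'.comp π)
      ⟨N, fun z hz => hN _ (by
        refine Ideal.pow_right_mono (map_maximal_le hπ) N ?_
        rw [← Ideal.map_pow]
        exact Ideal.mem_map_of_mem _ hz)⟩
    refine ⟨χ.comp s, ?_⟩
    rw [← AlgHom.comp_assoc, hχ, AlgHom.comp_assoc, hπsec, AlgHom.comp_id]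
  · intro h B A μ hμ
    refine surjective_induction (P := fun A B μ => Function.Surjective ((hR R.carrier R.res).map μ)) ?_ ?_ ?_ μ hμ
    · exact fun A B e _ => (map_bijective_of_isIso e).2
    · intro A B p hp (φ : HomSet R.carrier R.res A)
      obtain ⟨hps, t, ht0, htm, htk⟩ := (isSmallExt_iff p).mp hp
      let eA := Ideal.quotientKerAlgEquivOfSurjective (f := p.toAlgHom) hps
      obtain ⟨N, hN⟩ := exists_mpow_le_ker φ
      obtain ⟨χ, hχ⟩ := h B (RingHom.ker p.toAlgHom) (by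
          have hm := hp.2.2.2
          rw [eq_bot_iff, ← hm, sq]
          exact Ideal.mul_mono_left (ker_le_maximalIdeal p))
        (eA.symm.toAlgHom.comp φ.1) ⟨N + 1, fun z hz => by
          rw [AlgHom.comp_apply, show φ.1 z = 0 from hN hz, map_zero]⟩
      have hpc : ∀ r, p (χ r) = φ.1 r := fun r => by
        have h1 : eA.symm (φ.1 r) = Ideal.Quotient.mk _ (χ r) := (DFunLike.congr_fun hχ r).symm
        rw [AlgEquiv.symm_apply_eq] at h1
        exact h1.symm
      refine ⟨⟨χ, AlgHom.ext fun r => ?_⟩, HomSet.ext' hpc⟩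
      exact (Art.res_app p (χ r)).symm.trans ((congrArg A.res (hpc r)).trans (res_homSet φ r))
    · intro A B C p q _ _ hp hq φ
      obtain ⟨z, rfl⟩ := hq φ
      obtain ⟨w, rfl⟩ := hp z
      exact ⟨w, (map_map p q w).symm⟩

end Groth.Agent.ArtFunLib
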