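import Groth.Agent.ArtFunLib.Complete
import Groth.Agent.AdicRingLib.Maps
import Groth.Agent.RegLocal.Complete

/-!
# Quotients of coefficient rings, Chevalley's lemma, free coefficient rings
-/

set_option autoImplicit false
set_option linter.unusedSectionVars false

open CategoryTheory ArtFun ArtFun.Art IsLocalRing

namespace Groth.Agent.ArtFunLib

universe u v

variable {Λ : Type u} {k : Type u} [CommRing Λ] [Field k] [Algebra Λ k]

section Quotient

variable (R : CRing Λ k) (J : Ideal R.carrier) (hJ : J ≤ maximalIdeal R.carrier)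

lemma isAdicComplete_quotient : IsAdicComplete (maximalIdeal R.carrier) (R.carrier ⧸ J) := by
  have := R.isAdicComplete
  have hH : IsHausdorff (maximalIdeal R.carrier) (R.carrier ⧸ J) :=
    IsHausdorff.of_isLocalRing _ _ (maximalIdeal.isMaximal R.carrier).ne_top
  refine { toIsHausdorff := hH, toIsPrecomplete := AdicCompletion.of_surjective_iff.mp fun y => ?_ }
  obtain ⟨x', hx'⟩ := AdicCompletion.map_surjective (I := maximalIdeal R.carrier) (Submodule.mkQ_surjective J) y
  obtain ⟨x, rfl⟩ := AdicCompletion.of_surjective (maximalIdeal R.carrier) R.carrier x'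
  exact ⟨J.mkQ x, (AdicCompletion.map_of _ _ _).symm.trans hx'⟩

include hJ in
lemma nontrivial_quotient : Nontrivial (R.carrier ⧸ J) :=
  Ideal.Quotient.nontrivial_iff.2 fun h => (maximalIdeal.isMaximal R.carrier).ne_top (top_le_iff.1 (h ▸ hJ))

/-- The quotient of a coefficient ring. -/
noncomputable def quotCRing : CRing Λ k :=
  haveI := nontrivial_quotient R J hJ
  haveI : IsLocalRing (R.carrier ⧸ J) :=
    IsLocalRing.of_surjective' (Ideal.Quotient.mk J) Ideal.Quotient.mk_surjective
  { carrier := R.carrier ⧸ J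
    res := Ideal.Quotient.liftₐ J R.res fun a ha => (CRing.mem_maximalIdeal_iff R a).1 (hJ ha)
    res_surjective := fun c => by
      obtain ⟨a, ha⟩ := R.res_surjective c
      exact ⟨Ideal.Quotient.mk J a, ha⟩
    isAdicComplete := by
      have h := isAdicComplete_quotient R J
      rw [← IsAdicComplete.map_algebraMap_iff (S := R.carrier ⧸ J)] at h
      have e : (maximalIdeal R.carrier).map (algebraMap R.carrier (R.carrier ⧸ J)) = maximalIdeal (R.carrier ⧸ J) := by
        refine le_antisymm (Ideal.map_le_iff_le_comap.mpr fun a ha => ?_) fun x hx => ?_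
        · rw [Ideal.mem_comap, mem_maximalIdeal]
          intro hu
          obtain ⟨y, hy⟩ := hu.exists_right_inv
          obtain ⟨b, rfl⟩ := Ideal.Quotient.mk_surjective y
          rw [Ideal.Quotient.algebraMap_eq, ← map_mul, ← map_one (Ideal.Quotient.mk J), Ideal.Quotient.eq] at hy
          have h1 := sub_mem (Ideal.mul_mem_right b _ ha) (hJ hy)
          rw [sub_sub_cancel] at h1
          exact (maximalIdeal.isMaximal R.carrier).ne_top ((Ideal.eq_top_iff_one _).mpr h1)
        obtain ⟨a, rfl⟩ := Ideal.Quotient.mk_surjective x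
        refine Ideal.mem_map_of_mem _ ?_
        rw [mem_maximalIdeal] at hx ⊢
        exact fun hu => hx (hu.map _)
      rwa [e] at h }

/-- The projection to the quotient. -/
noncomputable def quotProj : R.carrier →ₐ[Λ] (quotCRing R J hJ).carrier := Ideal.Quotient.mkₐ Λ J

lemma res_comp_quotProj : (quotCRing R J hJ).res.comp (quotProj R J hJ) = R.res :=
  Ideal.Quotient.liftₐ_comp _ _ _

lemma quotProj_surjective : Function.Surjective (quotProj R J hJ) := Ideal.Quotient.mk_surjective

lemma quotProj_eq_zero_iff (a : R.carrier) : quotProj R J hJ a = 0 ↔ a ∈ J := Ideal.Quotient.eq_zero_iff_mem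

/-- A morphism killing `J` factors through the quotient. -/
lemma exists_quot_factor {A : Art Λ k} (φ : HomSet R.carrier R.res A) (h : J ≤ RingHom.ker φ.1) :
    ∃ ψ : HomSet (quotCRing R J hJ).carrier (quotCRing R J hJ).res A, ∀ a, ψ.1 (quotProj R J hJ a) = φ.1 a :=
  ⟨⟨Ideal.Quotient.liftₐ J φ.1 (fun _ ha => h ha), AlgHom.ext fun x => by
    obtain ⟨a, rfl⟩ := Ideal.Quotient.mk_surjective x
    exact res_homSet φ a⟩, fun _ => rfl⟩

end Quotient

section Chevalley

variable {R : CRing Λ k}

lemma mem_of_forall_mem_sup_pow (J : Ideal R.carrier) {x : R.carrier}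
    (h : ∀ n, x ∈ J ⊔ maximalIdeal R.carrier ^ n) : x ∈ J := by
  have := isAdicComplete_quotient R J
  refine Ideal.Quotient.eq_zero_iff_mem.mp (IsHausdorff.haus (I := maximalIdeal R.carrier) inferInstance _ fun n => ?_)
  rw [SModEq.zero, Ideal.smul_top_eq_map, Submodule.restrictScalars_mem]
  obtain ⟨a, ha, b, hb, hab⟩ := Submodule.mem_sup.mp (h n)
  rw [← hab, map_add, Ideal.Quotient.eq_zero_iff_mem.mpr ha, zero_add]
  exact Ideal.mem_map_of_mem _ hb

lemma exists_stable (J : ℕ → Ideal R.carrier) (hJ : Antitone J) (m : ℕ) :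
    ∃ n₀, ∀ n, n₀ ≤ n → J n ⊔ maximalIdeal R.carrier ^ (m + 1) = J n₀ ⊔ maximalIdeal R.carrier ^ (m + 1) := by
  let M := maximalIdeal R.carrier ^ (m + 1)
  have hA : IsArtinianRing (R.carrier ⧸ M) := CRing.isArtinianRing_quot_mpow R m
  obtain ⟨n₀, hn₀⟩ := IsArtinian.monotone_stabilizes (R := R.carrier ⧸ M) (M := R.carrier ⧸ M)
    ⟨fun n => OrderDual.toDual ((J n).map (Ideal.Quotient.mk M)), fun a b h => Ideal.map_mono (hJ h)⟩
  refine ⟨n₀, fun n hn => ?_⟩
  have e : (J n₀).map (Ideal.Quotient.mk M) = (J n).map (Ideal.Quotient.mk M) := hn₀ n hn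
  have key : ∀ I : Ideal R.carrier, Ideal.comap (Ideal.Quotient.mk M) (I.map (Ideal.Quotient.mk M)) = I ⊔ M :=
    fun I => by rw [Ideal.comap_map_of_surjective' _ Ideal.Quotient.mk_surjective, Ideal.mk_ker]
  rw [← key, ← key, e]

/-- Chevalley's lemma. -/
theorem chevalley (J : ℕ → Ideal R.carrier) (hJ : Antitone J) (m : ℕ) :
    ∃ n, J n ≤ (⨅ i, J i) ⊔ maximalIdeal R.carrier ^ (m + 1) := by
  have := R.isAdicComplete
  let M := maximalIdeal R.carrier
  choose ν hν using exists_stable J hJ
  refine ⟨ν m, fun x hx => ?_⟩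
  have step : ∀ (j : ℕ) (y : R.carrier), y ∈ J (ν (m + j)) ⊔ M ^ (m + j + 1) →
      ∃ y' ∈ J (ν (m + j + 1)) ⊔ M ^ (m + j + 1 + 1), y' - y ∈ M ^ (m + j + 1) := by
    intro j y hy
    rw [← hν (m + j) _ (le_max_left _ (ν (m + j + 1)))] at hy
    obtain ⟨a, ha, b, hb, rfl⟩ := Submodule.mem_sup.mp hy
    refine ⟨a, Ideal.mem_sup_left (hJ (le_max_right _ _) ha), ?_⟩
    rw [sub_add_cancel_left]
    exact neg_mem hb
  choose! next hnext1 hnext2 using step
  let seq : ℕ → R.carrier := Nat.rec x fun j y => next j y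
  have hseq : ∀ j, seq j ∈ J (ν (m + j)) ⊔ M ^ (m + j + 1) := fun j => by
    induction j with
    | zero => exact Ideal.mem_sup_left hx
    | succ j ih => exact hnext1 j (seq j) ih
  have hdiff : ∀ j, seq (j + 1) - seq j ∈ M ^ (m + j + 1) := fun j => hnext2 j (seq j) (hseq j)
  have hd' : ∀ a b, a ≤ b → seq b - seq a ∈ M ^ (m + a + 1) := fun a b h => by
    induction b, h using Nat.le_induction with
    | base => rw [sub_self]; exact zero_mem _
    | succ b h ih =>
      rw [← sub_add_sub_cancel (seq (b + 1)) (seq b) (seq a)]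
      exact add_mem (Ideal.pow_le_pow_right (by omega) (hdiff b)) ih
  obtain ⟨L, hL⟩ := IsPrecomplete.prec (I := M) (M := R.carrier) inferInstance (f := seq) fun {a b} h => by
    rw [SModEq.comm, SModEq.sub_mem, smul_eq_mul, Ideal.mul_top]
    exact Ideal.pow_le_pow_right (by omega) (hd' a b h)
  have hL' : ∀ j, seq j - L ∈ M ^ j := fun j => by
    have := hL j
    rwa [SModEq.sub_mem, smul_eq_mul, Ideal.mul_top] at this
  have hmem : L ∈ ⨅ i, J i := Ideal.mem_iInf.mpr fun i => by
    refine mem_of_forall_mem_sup_pow (J i) fun n => ?_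
    have hn1 : seq n ∈ J i ⊔ M ^ (m + n + 1) := by
      have hsup : J (ν (m + n)) ≤ J i ⊔ M ^ (m + n + 1) := fun z hz => ?_
      exact sup_le hsup le_sup_right (hseq n)
      have : z ∈ J (max (ν (m + n)) i) ⊔ M ^ (m + n + 1) := by
        rw [hν (m + n) _ (le_max_left _ _)]
        exact Ideal.mem_sup_left hz
      exact sup_le_sup_right (hJ (le_max_right _ _)) _ this
    rw [← sub_sub_cancel (seq n) L]
    have hle : J i ⊔ M ^ (m + n + 1) ≤ J i ⊔ M ^ n := sup_le_sup_left (Ideal.pow_le_pow_right (by omega)) _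
    exact sub_mem (hle hn1) (Ideal.mem_sup_right (hL' n))
  refine Submodule.mem_sup.mpr ⟨L, hmem, x - L, ?_, add_sub_cancel _ _⟩
  rw [← sub_add_sub_cancel x (seq (m + 1)) L]
  exact add_mem (by simpa [seq] using Ideal.pow_le_pow_right (by omega) (neg_mem (hd' 0 (m + 1) (Nat.zero_le _))))
    (hL' (m + 1))

end Chevalley

section Free

variable [IsNoetherianRing Λ]

instance instIsAdicCompleteBot : IsAdicComplete (⊥ : Ideal k) k := {}

/-- A coefficient ring freely generated by elements with prescribed residues. -/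
theorem exists_free (σ : Type u) [Finite σ] (c : σ → k) (hc : Algebra.adjoin Λ (Set.range c) = ⊤) :
    ∃ (S : CRing Λ k) (X : σ → S.carrier), (∀ i, S.res (X i) = c i) ∧
      ∀ (A : Art Λ k) (b : σ → A), (∀ i, A.res (b i) = c i) →
        ∃! φ : HomSet S.carrier S.res A, ∀ i, φ.1 (X i) = b i := by
  let π : MvPolynomial σ Λ →ₐ[Λ] k := MvPolynomial.aeval c
  have hπ : Function.Surjective π := by
    rw [← AlgHom.range_eq_top, ← Algebra.adjoin_range_eq_range_aeval, hc]
  let P := RingHom.ker π
  have hPm : P.IsMaximal := RingHom.ker_isMaximal_of_surjective _ hπ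
  have hPfg : P.FG := IsNoetherian.noetherian P
  let C := AdicCompletion P (MvPolynomial σ Λ)
  have hCmax : (P.map (algebraMap _ C)).IsMaximal := AdicCompletion.isMaximal_map_of_le P P le_rfl hPfg
  have hCc : IsAdicComplete (P.map (algebraMap _ C)) C := AdicCompletion.isAdicComplete_self P hPfg
  have hCl : IsLocalRing C := _root_.isLocalRing_of_isAdicComplete_maximal (P.map (algebraMap _ C))
  have hCn : IsNoetherianRing C := RegLocal.isNoetherianRing_adicCompletion P hPfg
  have hCm : maximalIdeal C = P.map (algebraMap _ C) := (IsLocalRing.eq_maximalIdeal hCmax).symm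
  obtain ⟨resC, hresC⟩ := AdicRingLib.exists_algHom_completion (R := Λ) P (⊥ : Ideal k) π
    (by rw [Ideal.map_le_iff_le_comap]; intro x hx; exact Ideal.mem_bot.mpr hx)
  have hresS : Function.Surjective resC := fun a => by
    obtain ⟨p, rfl⟩ := hπ a
    exact ⟨algebraMap _ C p, hresC p⟩
  let S : CRing Λ k :=
    { carrier := C, res := resC, res_surjective := hresS, isAdicComplete := by rw [hCm]; exact hCc }
  refine ⟨S, fun i => algebraMap _ C (MvPolynomial.X i), fun i => (hresC _).trans (by simp [π]), fun A b hb => ?_⟩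
  let f : MvPolynomial σ Λ →ₐ[Λ] A := MvPolynomial.aeval b
  have hfres : A.res.comp f = π := MvPolynomial.algHom_ext fun i => by simp [f, π, hb]
  have hfP : P.map f ≤ maximalIdeal A := by
    rw [Ideal.map_le_iff_le_comap]
    intro p hp
    rw [Ideal.mem_comap, mem_maximalIdeal_iff]
    exact (DFunLike.congr_fun hfres p).trans hp
  obtain ⟨N, hN⟩ := exists_pow_eq_bot A
  have : IsAdicComplete (maximalIdeal A) A := by
    refine { toIsHausdorff := ⟨fun x hx => ?_⟩, toIsPrecomplete := ⟨fun g hg => ⟨g N, fun n => ?_⟩⟩ }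
    · have := hx N
      rwa [SModEq.zero, smul_eq_mul, Ideal.mul_top, hN, Ideal.mem_bot] at this
    · rcases le_total n N with h | h
      · exact hg h
      · have := hg h
        rw [SModEq.sub_mem, hN] at this
        rw [SModEq.sub_mem, ← neg_sub]
        refine neg_mem ?_
        simp only [smul_eq_mul, Ideal.bot_mul, Ideal.mem_bot] at this
        rw [this]; exact zero_mem _
  obtain ⟨G, hG⟩ := AdicRingLib.exists_algHom_completion (R := Λ) P (maximalIdeal A) f hfP
  have hGres : A.res.comp G = resC := by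
    refine AdicRingLib.algHom_completion_ext (K := (⊥ : Ideal k)) hPfg (fun p hp => Ideal.mem_bot.mpr ?_) fun p => ?_
    · rw [AlgHom.comp_apply, hG]
      exact (DFunLike.congr_fun hfres p).trans hp
    · rw [AlgHom.comp_apply, hG, hresC]
      exact DFunLike.congr_fun hfres p
  refine ⟨⟨G, hGres⟩, fun i => (hG _).trans (MvPolynomial.aeval_X _ _), fun φ hφ => Subtype.ext ?_⟩
  refine AdicRingLib.algHom_completion_ext (K := maximalIdeal A) hPfg (fun p hp => ?_) fun p => ?_
  · rw [mem_maximalIdeal_iff, res_homSet φ]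
    exact (hresC p).trans hp
  · have : φ.1.comp (IsScalarTower.toAlgHom Λ (MvPolynomial σ Λ) C) = f :=
      MvPolynomial.algHom_ext fun i => (hφ i).trans (MvPolynomial.aeval_X _ _).symm
    exact (DFunLike.congr_fun this p).trans (hG p).symm

/-- Finitely many residues generating `k`. -/
lemma exists_residue_generators [Module.Finite Λ k] :
    ∃ (r : ℕ) (c : Fin r → k), Algebra.adjoin Λ (Set.range c) = ⊤ := by
  obtain ⟨r, c, hc⟩ := Module.Finite.exists_fin (R := Λ) (M := k)
  refine ⟨r, c, eq_top_iff.mpr fun x _ => ?_⟩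
  exact Algebra.span_le_adjoin Λ (Set.range c) (hc ▸ Submodule.mem_top)

end Free

end Groth.Agent.ArtFunLib
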