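import Groth.Agent.ArtFunLib.FibreProd

/-!
# Schlessinger conditions, morphisms of functors, smoothness
-/

set_option autoImplicit false
set_option linter.unusedSectionVars false

open CategoryTheory ArtFun ArtFun.Art IsLocalRing

namespace Groth.Agent.ArtFunLib

universe u v w

variable {Λ : Type u} {k : Type u} [CommRing Λ] [Field k] [Algebra Λ k]
variable {F : Art Λ k ⥤ Type v} {G : Art Λ k ⥤ Type w}

lemma map_map {A B C : Art Λ k} (f : A ⟶ B) (g : B ⟶ C) (x : F.obj A) :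
    F.map g (F.map f x) = F.map (f ≫ g) x := by rw [F.map_comp]; rfl

lemma map_id_apply (A : Art Λ k) (x : F.obj A) : F.map (𝟙 A) x = x := by rw [F.map_id]; rfl

lemma map_bijective_of_isIso {A B : Art Λ k} (f : A ⟶ B) [IsIso f] : Function.Bijective (F.map f) :=
  ⟨fun x y h => by
    have := congrArg (F.map (inv f)) h
    rwa [map_map, map_map, IsIso.hom_inv_id, map_id_apply, map_id_apply] at this,
    fun x => ⟨F.map (inv f) x, by rw [map_map, IsIso.inv_hom_id, map_id_apply]⟩⟩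

lemma cmp_surjective_iff {B A A' A'' : Art Λ k} {p' : B ⟶ A'} {p'' : B ⟶ A''} {f' : A' ⟶ A} {f'' : A'' ⟶ A}
    (h : IsFibreProd p' p'' f' f'') :
    Function.Surjective (cmp F h) ↔ ∀ a' a'', F.map f' a' = F.map f'' a'' →
      ∃ z, F.map p' z = a' ∧ F.map p'' z = a'' := by
  constructor
  · intro hs a' a'' e
    obtain ⟨z, hz⟩ := hs ⟨(a', a''), e⟩
    exact ⟨z, congrArg (fun q => q.1.1) hz, congrArg (fun q => q.1.2) hz⟩
  · rintro hs ⟨⟨a', a''⟩, e⟩
    obtain ⟨z, h1, h2⟩ := hs a' a'' e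
    exact ⟨z, FibProd.ext h1 h2⟩

lemma cmp_injective_iff {B A A' A'' : Art Λ k} {p' : B ⟶ A'} {p'' : B ⟶ A''} {f' : A' ⟶ A} {f'' : A'' ⟶ A}
    (h : IsFibreProd p' p'' f' f'') :
    Function.Injective (cmp F h) ↔ ∀ x y, F.map p' x = F.map p' y → F.map p'' x = F.map p'' y → x = y :=
  ⟨fun hi x y h1 h2 => hi (FibProd.ext h1 h2),
    fun hi x y e => hi x y (congrArg (fun q => q.1.1) e) (congrArg (fun q => q.1.2) e)⟩

variable (F) in
/-- The comparison map is bijective for every square over a surjection. -/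
def RS : Prop :=
  ∀ ⦃B A A' A'' : Art Λ k⦄ (p' : B ⟶ A') (p'' : B ⟶ A'') (f' : A' ⟶ A) (f'' : A'' ⟶ A)
    (h : IsFibreProd p' p'' f' f''), Function.Surjective f'' → Function.Bijective (cmp F h)

lemma isIso_fst {B A A' A'' : Art Λ k} {p' : B ⟶ A'} {p'' : B ⟶ A''} {f' : A' ⟶ A} {f'' : A'' ⟶ A}
    (h : IsFibreProd p' p'' f' f'') [IsIso f''] : IsIso p' := by
  have hb := bijective_of_isIso f''
  exact isIso_of_bijective _ ⟨fun x y e => h.inj x y e (hb.1 (by rw [← h.w_apply, ← h.w_apply, e])),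
    surjective_fst h hb.2⟩

lemma cmp_bijective_of_isIso {B A A' A'' : Art Λ k} {p' : B ⟶ A'} {p'' : B ⟶ A''} {f' : A' ⟶ A} {f'' : A'' ⟶ A}
    (h : IsFibreProd p' p'' f' f'') [IsIso f''] : Function.Bijective (cmp F h) := by
  have := isIso_fst h
  refine ⟨(cmp_injective_iff h).mpr fun x y e _ => (map_bijective_of_isIso p').1 e,
    (cmp_surjective_iff h).mpr fun a' a'' e => ?_⟩
  obtain ⟨z, hz⟩ := (map_bijective_of_isIso (F := F) p').2 a'
  refine ⟨z, hz, (map_bijective_of_isIso f'').1 ?_⟩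
  rw [map_map, ← h.w, ← map_map, hz, e]

section Finite

variable [Module.Finite Λ k]

/-- `(S1)` follows from the case of small extensions. -/
theorem s1_of_hbar (hbar : Hbar F) : S1 F := by
  intro B A A' A'' p' p'' f' f'' h hf
  refine surjective_induction (P := fun A A'' f'' => ∀ ⦃B A' : Art Λ k⦄ (p' : B ⟶ A') (p'' : B ⟶ A'')
      (f' : A' ⟶ A) (h : IsFibreProd p' p'' f' f''), Function.Surjective (cmp F h))
    ?_ ?_ ?_ f'' hf p' p'' f' h
  · intro _ _ e _ _ _ _ _ _ h; exact (cmp_bijective_of_isIso h).2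
  · intro _ _ p hp _ _ p' p'' f' h; exact hbar p' p'' f' p h hp
  · intro A C A'' g q _ hq hg hPq B A' p' p'' f' h
    obtain ⟨B', u, v', v'', hu, hv, hu'⟩ := exists_split h hq
    refine (cmp_surjective_iff h).mpr fun a' a'' e => ?_
    rw [← map_map g q] at e
    obtain ⟨b', h1, h2⟩ := (cmp_surjective_iff hv).mp (hPq v' v'' f' hv) a' (F.map g a'') e
    obtain ⟨z, h3, h4⟩ := (cmp_surjective_iff hu').mp (hg u p'' v'' hu') b' a'' h2
    exact ⟨z, by rw [← hu, ← map_map, h3, h1], h4⟩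

/-- Bijectivity of the comparison maps follows from the case of small extensions. -/
theorem rs_of_small
    (hs : ∀ ⦃B A A' A'' : Art Λ k⦄ (p' : B ⟶ A') (p'' : B ⟶ A'') (f' : A' ⟶ A) (f'' : A'' ⟶ A)
      (h : IsFibreProd p' p'' f' f''), IsSmallExt f'' → Function.Bijective (cmp F h)) : RS F := by
  intro B A A' A'' p' p'' f' f'' h hf
  refine surjective_induction (P := fun A A'' f'' => ∀ ⦃B A' : Art Λ k⦄ (p' : B ⟶ A') (p'' : B ⟶ A'')
      (f' : A' ⟶ A) (h : IsFibreProd p' p'' f' f''), Function.Bijective (cmp F h))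
    ?_ ?_ ?_ f'' hf p' p'' f' h
  · intro _ _ e _ _ _ _ _ _ h; exact cmp_bijective_of_isIso h
  · intro _ _ p hp _ _ p' p'' f' h; exact hs p' p'' f' p h hp
  · intro A C A'' g q _ hq hg hPq B A' p' p'' f' h
    obtain ⟨B', u, v', v'', hu, hv, hu'⟩ := exists_split h hq
    refine ⟨(cmp_injective_iff h).mpr fun x y h1 h2 => ?_, (cmp_surjective_iff h).mpr fun a' a'' e => ?_⟩
    · refine (cmp_injective_iff hu').mp (hg u p'' v'' hu').1 x y ?_ h2
      refine (cmp_injective_iff hv).mp (hPq v' v'' f' hv).1 _ _ ?_ ?_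
      · rw [map_map, map_map, hu]; exact h1
      · rw [map_map, map_map, hu'.w, ← map_map p'' g, h2, map_map]
    rw [← map_map g q] at e
    obtain ⟨b', h1, h2⟩ := (cmp_surjective_iff hv).mp (hPq v' v'' f' hv).2 a' (F.map g a'') e
    obtain ⟨z, h3, h4⟩ := (cmp_surjective_iff hu').mp (hg u p'' v'' hu').2 b' a'' h2
    exact ⟨z, by rw [← hu, ← map_map, h3, h1], h4⟩

end Finite

/-- The difference map of a diagonal element is zero. -/
lemma diag_comp_diff {B Q : Art Λ k} {t : B} (ht0 : t ≠ 0) {p₁ p₂ : Q ⟶ B} {δ : Q ⟶ dual Λ k}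
    (hδ : ∀ (z : Q) (b : B), B.res b = TrivSqZeroExt.snd (δ z) → p₂ z - p₁ z = b * t)
    {Δ : B ⟶ Q} (h1 : Δ ≫ p₁ = 𝟙 B) (h2 : Δ ≫ p₂ = 𝟙 B) : Δ ≫ δ = toBase B ≫ baseToDual := by
  refine Art.hom_ext (AlgHom.ext fun b => ?_)
  have hfst : TrivSqZeroExt.fst (δ (Δ b)) = B.res b := (res_app δ (Δ b)).trans (res_app Δ b)
  obtain ⟨c, hc⟩ := B.res_surjective (TrivSqZeroExt.snd (δ (Δ b)))
  have e := hδ (Δ b) c hc
  rw [show p₁ (Δ b) = b from congrArg (fun φ : B ⟶ B => φ b) h1,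
    show p₂ (Δ b) = b from congrArg (fun φ : B ⟶ B => φ b) h2, sub_self] at e
  have hc0 : B.res c = 0 := by
    rw [← B.mem_maximalIdeal_iff]
    by_contra hu
    exact ht0 ((notMem_maximalIdeal.mp hu).mul_right_eq_zero.mp e.symm)
  exact TrivSqZeroExt.ext hfst (hc.symm.trans hc0)

section Torsor

variable [Module.Finite Λ k] (hF0 : H0 F)
include hF0

lemma map_toBase_eq {A A' : Art Λ k} (x : F.obj A) (y : F.obj A') : F.map (toBase A) x = F.map (toBase A') y :=
  @Subsingleton.elim _ hF0.2 _ _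

lemma zero_eq {A A' : Art Λ k} (x : F.obj A) (y : F.obj A') :
    F.map (toBase A ≫ baseToDual) x = F.map (toBase A' ≫ baseToDual) y := by
  rw [← map_map, ← map_map, map_toBase_eq hF0 x y]

/-- A functor satisfying `(H̄)`, `(H_ε)`, `(H)` turns squares over small extensions into fibre products. -/
theorem rs_of_schlessinger (hbar : Hbar F) (heps : Heps F) (hsq : HSq F) : RS F := by
  refine rs_of_small fun B A A' A'' p' p'' f' f'' h hf => ⟨(cmp_injective_iff h).mpr fun x y h1 h2 => ?_,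
    hbar p' p'' f' f'' h hf⟩
  obtain ⟨-, t, ht0, htm, ht⟩ := (isSmallExt_iff f'').mp hf
  have hfs := hf.1
  obtain ⟨Q'', q₁, q₂, hQ''⟩ := exists_fibreProd f'' f'' hfs
  have hp := isSmallExt_fst h hf
  obtain ⟨Q, r₁, r₂, hQ⟩ := exists_fibreProd p' p' hp.1
  obtain ⟨δ'', hδ''f, hδ''⟩ := exists_diff ht0 htm ht hQ''
  have hw : r₁ ≫ p'' ≫ f'' = r₂ ≫ p'' ≫ f'' := by
    rw [← h.w, ← Category.assoc, ← Category.assoc, hQ.w]
  obtain ⟨π, hπ1, hπ2⟩ := exists_lift hQ'' (r₁ ≫ p'') (r₂ ≫ p'') (by rw [Category.assoc, Category.assoc, hw])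
  obtain ⟨Δ, hΔ1, hΔ2⟩ := exists_lift hQ (𝟙 B) (𝟙 B) rfl
  obtain ⟨Δ'', hΔ''1, hΔ''2⟩ := exists_lift hQ'' (𝟙 A'') (𝟙 A'') rfl
  obtain ⟨w, hw1, hw2⟩ := (cmp_surjective_iff hQ).mp (hbar r₁ r₂ p' p' hQ hp) x y h1
  -- the difference of `w` vanishes
  have hπw : F.map π w = F.map Δ'' (F.map p'' x) := by
    refine (cmp_injective_iff hQ'').mp (hsq q₁ q₂ f'' hQ'' hf).1 _ _ ?_ ?_
    · rw [map_map, hπ1, ← map_map, hw1, map_map, hΔ''1, map_id_apply]
    · rw [map_map, hπ2, ← map_map, hw2, map_map, hΔ''2, map_id_apply, h2]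
  have hQB : IsFibreProd r₁ (π ≫ δ'') (toBase B) (toBase (dual Λ k)) := by
    refine ⟨by rw [eq_toBase (r₁ ≫ toBase B), eq_toBase ((π ≫ δ'') ≫ toBase _)], fun a b e1 e2 => ?_, fun a c e => ?_⟩
    · refine hQ.inj a b e1 (h.inj _ _ ?_ ?_)
      · rw [← hQ.w_apply, ← hQ.w_apply, e1]
      · have := hδ''f.inj (π a) (π b) ?_ e2
        · have h' := congrArg q₂.toAlgHom this
          change (π ≫ q₂) a = (π ≫ q₂) b at h'
          rwa [hπ2] at h'
        · change (π ≫ q₁) a = (π ≫ q₁) b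
          rw [hπ1, Art.comp_apply, Art.comp_apply, e1]
    · obtain ⟨z, hz1, hz2⟩ := hδ''f.surj (p'' a) c (by
        change A''.res (p'' a) = _
        rw [res_app]; exact e)
      obtain ⟨a₂, ha1, ha2⟩ := h.surj (p' a) (q₂ z) (by rw [h.w_apply, ← hz1, hQ''.w_apply])
      obtain ⟨q, hq1, hq2⟩ := hQ.surj a a₂ ha1.symm
      refine ⟨q, hq1, ?_⟩
      rw [Art.comp_apply, ← hz2]
      refine congrArg δ''.toAlgHom (hQ''.inj _ _ ?_ ?_)
      · change (π ≫ q₁) q = _
        rw [hπ1, Art.comp_apply, hq1, hz1]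
      · change (π ≫ q₂) q = _
        rw [hπ2, Art.comp_apply, hq2, ha2]
  have key : w = F.map Δ x := by
    refine (cmp_injective_iff hQB).mp (heps r₁ (π ≫ δ'') hQB).1 _ _ ?_ ?_
    · rw [hw1, map_map, hΔ1, map_id_apply]
    · have e : Δ ≫ π = p'' ≫ Δ'' := by
        refine hom_ext_fibre hQ'' ?_ ?_
        · rw [Category.assoc, Category.assoc, hπ1, hΔ''1, ← Category.assoc, hΔ1, Category.id_comp, Category.comp_id]
        · rw [Category.assoc, Category.assoc, hπ2, hΔ''2, ← Category.assoc, hΔ2, Category.id_comp, Category.comp_id]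
      rw [← map_map π, hπw, map_map Δ, ← Category.assoc, e, map_map, map_map, Category.assoc]
  rw [← hw2, key, map_map, hΔ2, map_id_apply]

end Torsor

/-! ### Morphisms of functors with values in possibly different universes -/

/-- A natural family of maps `G → F`. -/
structure Mor (G : Art Λ k ⥤ Type w) (F : Art Λ k ⥤ Type v) where
  /-- components -/
  app : ∀ A, G.obj A → F.obj A
  natural : ∀ {A B : Art Λ k} (f : A ⟶ B) (x : G.obj A), app B (G.map f x) = F.map f (app A x)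

/-- A natural transformation as a morphism. -/
def Mor.ofNatTrans {G F : Art Λ k ⥤ Type v} (η : G ⟶ F) : Mor G F where
  app A x := η.app A x
  natural f x := NatTrans.naturality_apply η f x

/-- A family as a morphism out of `h_R`. -/
def Mor.ofFamily {R : Type u} [CommRing R] [Algebra Λ R] {resR : R →ₐ[Λ] k} (ξ : Family R resR F) :
    Mor (hR R resR) F where
  app A x := ξ.app A x
  natural f x := ξ.natural f x

/-- Lifting along one map. -/
def Mor.LiftsAlong (η : Mor G F) {B A : Art Λ k} (μ : B ⟶ A) : Prop :=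
  ∀ (x : G.obj A) (y : F.obj B), F.map μ y = η.app A x → ∃ z, G.map μ z = x ∧ η.app B z = y

/-- Smoothness. -/
def Mor.Smooth (η : Mor G F) : Prop :=
  ∀ ⦃B A : Art Λ k⦄ (μ : B ⟶ A), Function.Surjective μ → η.LiftsAlong μ

lemma relCmp_surjective_iff {F' : Art Λ k ⥤ Type v} (η : F' ⟶ F) {B A : Art Λ k} (μ : B ⟶ A) :
    Function.Surjective (relCmp η μ) ↔ (Mor.ofNatTrans η).LiftsAlong μ := by
  constructor
  · intro h x y e
    obtain ⟨z, hz⟩ := h ⟨(x, y), e.symm⟩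
    exact ⟨z, congrArg (fun q => q.1.1) hz, congrArg (fun q => q.1.2) hz⟩
  · rintro h ⟨⟨x, y⟩, e⟩
    obtain ⟨z, h1, h2⟩ := h x y e.symm
    exact ⟨z, Subtype.ext (Prod.ext h1 h2)⟩

lemma isSmooth_iff {F' : Art Λ k ⥤ Type v} (η : F' ⟶ F) : IsSmooth η ↔ (Mor.ofNatTrans η).Smooth :=
  forall_congr' fun _ => forall_congr' fun _ => forall_congr' fun μ => forall_congr' fun _ =>
    relCmp_surjective_iff η μ

lemma isVersal_iff {R : Type u} [CommRing R] [Algebra Λ R] {resR : R →ₐ[Λ] k} (ξ : Family R resR F) :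
    IsVersal ξ ↔ (Mor.ofFamily ξ).Smooth := Iff.rfl

theorem Mor.smooth_of_small (η : Mor G F) (h : ∀ ⦃B A : Art Λ k⦄ (μ : B ⟶ A), IsSmallExt μ → η.LiftsAlong μ) :
    η.Smooth := by
  intro B A μ hμ
  refine surjective_induction (P := fun A B μ => η.LiftsAlong μ) ?_ (fun _ _ p hp => h p hp) ?_ μ hμ
  · intro A B e _ x y hy
    obtain ⟨z, hz⟩ := (map_bijective_of_isIso (F := G) e).2 x
    exact ⟨z, hz, (map_bijective_of_isIso e).1 (by rw [← η.natural, hz, hy])⟩
  · intro A C B p q _ _ hp hq x y hy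
    rw [← map_map] at hy
    obtain ⟨z, h1, h2⟩ := hq x _ hy
    obtain ⟨z', h3, h4⟩ := hp z y h2.symm
    exact ⟨z', by rw [← map_map, h3, h1], h4⟩

theorem Mor.app_surjective (η : Mor G F) (hη : η.Smooth) (h0 : Function.Surjective (η.app (base Λ k)))
    (A : Art Λ k) : Function.Surjective (η.app A) := fun y => by
  obtain ⟨x, hx⟩ := h0 (F.map (toBase A) y)
  obtain ⟨z, -, hz⟩ := hη (toBase A) A.res_surjective x y hx.symm
  exact ⟨z, hz⟩

/-- The criterion: liftings exist and the tangent map is surjective. -/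
theorem Mor.smooth_of_criterion [Module.Finite Λ k] (η : Mor G F) (hbar : Hbar F) (heps : Heps F)
    (hG0 : H0 G) (hGeps : Heps G) (ht : Function.Surjective (η.app (dual Λ k)))
    (hlift : ∀ ⦃B A : Art Λ k⦄ (μ : B ⟶ A), IsSmallExt μ → ∀ x : G.obj A,
      (∃ y, F.map μ y = η.app A x) → ∃ z, G.map μ z = x) : η.Smooth := by
  refine η.smooth_of_small fun B A μ hμ x y hy => ?_
  obtain ⟨z₀, hz₀⟩ := hlift μ hμ x ⟨y, hy⟩
  obtain ⟨-, t, ht0, htm, htk⟩ := (isSmallExt_iff μ).mp hμ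
  obtain ⟨Q, p₁, p₂, hQ⟩ := exists_fibreProd μ μ hμ.1
  obtain ⟨δ, hδ, -⟩ := exists_diff ht0 htm htk hQ
  obtain ⟨w, hw1, hw2⟩ := (cmp_surjective_iff hQ).mp (hbar p₁ p₂ μ μ hQ hμ) (η.app B z₀) y
    (by rw [← η.natural, hz₀, hy])
  obtain ⟨θ, hθ⟩ := ht (F.map δ w)
  obtain ⟨wG, hG1, hG2⟩ := (cmp_surjective_iff hδ).mp (hGeps p₁ δ hδ).2 z₀ θ (map_toBase_eq hG0 _ _)
  have hw : η.app Q wG = w := by
    refine (cmp_injective_iff hδ).mp (heps p₁ δ hδ).1 _ _ ?_ ?_
    · rw [← η.natural, hG1, hw1]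
    · rw [← η.natural, hG2, hθ]
  refine ⟨G.map p₂ wG, ?_, by rw [η.natural, hw, hw2]⟩
  rw [map_map, ← hQ.w, ← map_map, hG1, hz₀]

/-- Injectivity from injectivity on the tangent space. -/
theorem Mor.app_injective [Module.Finite Λ k] (η : Mor G F) (hF0 : H0 F) (hsq : HSq F)
    (hG0 : H0 G) (hGbar : Hbar G) (hGeps : Heps G) (ht : Function.Injective (η.app (dual Λ k)))
    (A : Art Λ k) : Function.Injective (η.app A) := by
  refine surjective_induction (P := fun A B _ => Function.Injective (η.app A) → Function.Injective (η.app B))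
    ?_ ?_ ?_ (toBase A) A.res_surjective (fun x y _ => @Subsingleton.elim _ hG0.2 x y)
  · intro A B e _ hA x y hxy
    exact (map_bijective_of_isIso e).1 (hA (by rw [η.natural, η.natural, hxy]))
  · intro A B p hp hA x y hxy
    obtain ⟨-, t, ht0, htm, htk⟩ := (isSmallExt_iff p).mp hp
    obtain ⟨Q, p₁, p₂, hQ⟩ := exists_fibreProd p p hp.1
    obtain ⟨δ, hδ, hδ'⟩ := exists_diff ht0 htm htk hQ
    obtain ⟨Δ, hΔ1, hΔ2⟩ := exists_lift hQ (𝟙 B) (𝟙 B) rfl
    obtain ⟨w, hw1, hw2⟩ := (cmp_surjective_iff hQ).mp (hGbar p₁ p₂ p p hQ hp) x y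
      (hA (by rw [η.natural, η.natural, hxy]))
    have hw : η.app Q w = F.map Δ (η.app B x) := by
      refine (cmp_injective_iff hQ).mp (hsq p₁ p₂ p hQ hp).1 _ _ ?_ ?_
      · rw [← η.natural, hw1, map_map, hΔ1, map_id_apply]
      · rw [← η.natural, hw2, map_map, hΔ2, map_id_apply, hxy]
    have key : w = G.map Δ x := by
      refine (cmp_injective_iff hδ).mp (hGeps p₁ δ hδ).1 _ _ ?_ (ht ?_)
      · rw [hw1, map_map, hΔ1, map_id_apply]
      · rw [η.natural, hw, map_map, η.natural, η.natural, map_map]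
    rw [← hw2, key, map_map, hΔ2, map_id_apply]
  · intro _ _ _ p q _ _ hp hq hA; exact hp (hq hA)

end Groth.Agent.ArtFunLib
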