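import Groth.Agent.ArtFunLib.Tangent
import Groth.Agent.ArtFunLib.Free

/-!
# The functor `h_R`
-/

set_option autoImplicit false
set_option linter.unusedSectionVars false

open CategoryTheory ArtFun ArtFun.Art IsLocalRing

namespace Groth.Agent.ArtFunLib

universe u v

variable {Λ : Type u} {k : Type u} [CommRing Λ] [Field k] [Algebra Λ k]
variable {S : Type u} [CommRing S] [Algebra Λ S] (resS : S →ₐ[Λ] k)

lemma hR_map_apply {A B : Art Λ k} (f : A ⟶ B) (φ : HomSet S resS A) :
    (hR S resS).map f φ = HomSet.map f φ := rfl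

lemma hR_h0 : H0 (hR S resS) :=
  ⟨⟨⟨resS, AlgHom.id_comp _⟩⟩, ⟨fun φ ψ => HomSet.ext' fun s => (res_homSet φ s).trans (res_homSet ψ s).symm⟩⟩

lemma hR_isLeftExact : IsLeftExact (hR S resS) := by
  intro B A A' A'' p' p'' f' f'' h
  refine ⟨(cmp_injective_iff h).mpr fun φ ψ h1 h2 => HomSet.ext' fun s =>
    h.inj _ _ (congrArg (fun χ : HomSet S resS A' => χ.1 s) h1) (congrArg (fun χ : HomSet S resS A'' => χ.1 s) h2),
    (cmp_surjective_iff h).mpr fun α β e => ?_⟩
  have w : ∀ s, f' (α.1 s) = f'' (β.1 s) := fun s => congrArg (fun χ : HomSet S resS A => χ.1 s) e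
  choose g h1 h2 using fun s => h.surj (α.1 s) (β.1 s) (w s)
  let G : S →ₐ[Λ] B :=
    { toFun := g
      map_one' := h.inj _ _ (by rw [h1]; simp) (by rw [h2]; simp)
      map_mul' := fun x y => h.inj _ _ (by simp [h1, map_mul]) (by simp [h2, map_mul])
      map_zero' := h.inj _ _ (by rw [h1]; simp) (by rw [h2]; simp)
      map_add' := fun x y => h.inj _ _ (by simp [h1, map_add]) (by simp [h2, map_add])
      commutes' := fun r => h.inj _ _ (by rw [h1]; simp) (by rw [h2]; simp) }
  refine ⟨⟨G, AlgHom.ext fun s => ?_⟩, HomSet.ext' h1, HomSet.ext' h2⟩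
  change B.res (g s) = resS s
  rw [← Art.res_app p' (g s), h1, res_homSet]

lemma hR_hbar : Hbar (hR S resS) := fun _ _ _ _ p' p'' f' f'' h _ => (hR_isLeftExact resS p' p'' f' f'' h).2
lemma hR_heps : Heps (hR S resS) := fun _ _ p' p'' h => hR_isLeftExact resS p' p'' _ _ h
lemma hR_hsq : HSq (hR S resS) := fun _ _ _ p₁ p₂ f h _ => hR_isLeftExact resS p₁ p₂ f f h
lemma hR_s1 : S1 (hR S resS) := fun _ _ _ _ p' p'' f' f'' h _ => (hR_isLeftExact resS p' p'' f' f'' h).2

section Tangent

variable (R : CRing Λ k) [Module.Finite Λ k] [IsNoetherianRing Λ]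

/-- Finitely many elements detect morphisms to objects with square-zero maximal ideal. -/
theorem exists_tangent_generators :
    ∃ (r : ℕ) (g : Fin r → R.carrier), ∀ (A : Art Λ k), maximalIdeal A ^ 2 = ⊥ →
      ∀ φ ψ : HomSet R.carrier R.res A, (∀ i, φ.1 (g i) = ψ.1 (g i)) → φ = ψ := by
  obtain ⟨a, c, hc⟩ := exists_residue_generators (Λ := Λ) (k := k)
  choose e he using fun i => R.res_surjective (c i)
  obtain ⟨b, m, hm⟩ := Submodule.fg_iff_exists_fin_generating_family.mp
    (IsNoetherian.noetherian (maximalIdeal R.carrier))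
  refine ⟨a + b, Fin.append e m, fun A hA φ ψ h => ?_⟩
  let D := AlgHom.equalizer φ.1 ψ.1
  have hD : ∀ i, e i ∈ D ∧ ∀ j, m j ∈ D := fun i => ⟨by
    have := h (Fin.castAdd b i)
    rwa [Fin.append_left] at this, fun j => by
    have := h (Fin.natAdd a j)
    rwa [Fin.append_right] at this⟩
  have hm' : ∀ j, m j ∈ D := fun j => by
    have := h (Fin.natAdd a j)
    rwa [Fin.append_right] at this
  have hres : ∀ x : R.carrier, ∃ p ∈ D, x - p ∈ maximalIdeal R.carrier := by
    intro x
    have hx : R.res x ∈ (Algebra.adjoin Λ (Set.range e)).map R.res := by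
      rw [← Algebra.adjoin_image, ← Set.range_comp, show R.res ∘ e = c from funext he, hc]
      exact Algebra.mem_top
    obtain ⟨p, hp, hpx⟩ := Subalgebra.mem_map.mp hx
    refine ⟨p, Algebra.adjoin_le (Set.range_subset_iff.mpr fun i => (hD i).1) hp, ?_⟩
    rw [CRing.mem_maximalIdeal_iff, map_sub, hpx, sub_self]
  have hsq : ∀ x y : R.carrier, x ∈ maximalIdeal R.carrier → y ∈ maximalIdeal R.carrier → x * y ∈ D := by
    intro x y hx hy
    have : ∀ χ : HomSet R.carrier R.res A, χ.1 (x * y) = 0 := fun χ => by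
      have h1 : χ.1 (x * y) ∈ maximalIdeal A ^ 2 := apply_mem_pow χ (by rw [sq]; exact Ideal.mul_mem_mul hx hy)
      rwa [hA, Ideal.mem_bot] at h1
    change φ.1 (x * y) = ψ.1 (x * y)
    rw [this φ, this ψ]
  have hmD : ∀ y ∈ maximalIdeal R.carrier, y ∈ D := by
    intro y hy
    rw [← hm] at hy
    obtain ⟨q, rfl⟩ := (Submodule.mem_span_range_iff_exists_fun _).mp hy
    refine sum_mem fun j _ => ?_
    have hmj : m j ∈ maximalIdeal R.carrier := hm ▸ Submodule.subset_span (Set.mem_range_self j)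
    obtain ⟨p, hp, hpq⟩ := hres (q j)
    rw [smul_eq_mul, ← sub_add_cancel (q j) p, add_mul]
    exact add_mem (hsq _ _ hpq hmj) (mul_mem hp (hm' j))
  refine HomSet.ext' fun x => ?_
  obtain ⟨p, hp, hpx⟩ := hres x
  have : x ∈ D := by
    rw [← sub_add_cancel x p]
    exact add_mem (hmD _ hpx) hp
  exact this

lemma maximalIdeal_dual_sq : maximalIdeal (dual Λ k) ^ 2 = ⊥ := by
  rw [sq, eq_bot_iff, Ideal.mul_le]
  intro x hx y hy
  have hx' : TrivSqZeroExt.fst x = 0 := (mem_maximalIdeal_iff _ x).mp hx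
  have hy' : TrivSqZeroExt.fst y = 0 := (mem_maximalIdeal_iff _ y).mp hy
  refine Ideal.mem_bot.mpr (TrivSqZeroExt.ext ?_ ?_)
  · change TrivSqZeroExt.fst x * TrivSqZeroExt.fst y = 0
    rw [hx', zero_mul]
  · change TrivSqZeroExt.fst x • TrivSqZeroExt.snd y + MulOpposite.op (TrivSqZeroExt.fst y) • TrivSqZeroExt.snd x = 0
    rw [hx', hy', zero_smul, MulOpposite.op_zero, zero_smul, add_zero]

/-- The tangent space of `h_R` is finite-dimensional. -/
theorem finite_tangent [T : TangentStr (hR R.carrier R.res)] :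
    Module.Finite k (TangentSpace (hR R.carrier R.res)) := by
  obtain ⟨r, g, hg⟩ := exists_tangent_generators R
  let sndAt : HomSet R.carrier R.res (dual Λ k) → Fin r → k := fun φ i => TrivSqZeroExt.snd (φ.1 (g i))
  let L : TangentSpace (hR R.carrier R.res) →ₗ[k] (Fin r → k) :=
    { toFun := fun φ => sndAt φ
      map_add' := fun x y => by
        obtain ⟨z, hz1, hz2⟩ := (cmp_surjective_iff (isFibreProd_dual2 (Λ := Λ) (k := k))).mp
          (hR_heps R.res _ _ isFibreProd_dual2).2 x y (@Subsingleton.elim _ (hR_h0 R.res).2 _ _)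
        have e1 : x + y = TangentSpace.mk ((hR R.carrier R.res).map plus z) := by
          rw [← hz1, ← hz2]; exact T.add_eq z
        rw [e1, ← hz1, ← hz2]
        rfl
      map_smul' := fun c x => by
        have e1 : c • x = TangentSpace.mk ((hR R.carrier R.res).map (scale c) x) := T.smul_eq c x
        rw [e1]
        rfl }
  refine Module.Finite.of_injective L fun φ ψ h => hg (dual Λ k) maximalIdeal_dual_sq φ ψ fun i =>
    TrivSqZeroExt.ext ?_ (congrFun h i)
  exact (res_homSet φ _).trans (res_homSet ψ _).symm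

/-- A functor receiving a tangent-surjective morphism from `h_R` has finite-dimensional tangent space. -/
theorem hfin_of_surjective {F : Art Λ k ⥤ Type v} [TangentStr F] (ξ : Family R.carrier R.res F)
    (hs : Function.Surjective (ξ.app (dual Λ k))) : Hfin F := by
  obtain ⟨T⟩ := nonempty_tangentStr (hR_h0 R.res) (hR_heps R.res)
  have := finite_tangent R (T := T)
  obtain ⟨f, hf⟩ := Mor.exists_tangent_linear (TG := T) (hR_h0 R.res) (hR_heps R.res) (Mor.ofFamily ξ)
  refine Module.Finite.of_surjective f fun y => ?_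
  obtain ⟨x, hx⟩ := hs y
  exact ⟨x, (hf x).trans hx⟩

/-- Surjective endomorphisms of Noetherian rings are injective. -/
lemma bijective_of_surjective_endo {A : Type u} [CommRing A] [IsNoetherianRing A] (f : A →+* A)
    (hf : Function.Surjective f) : Function.Bijective f := by
  refine ⟨(injective_iff_map_eq_zero f).mpr fun x hx => ?_, hf⟩
  obtain ⟨n, hn⟩ := monotone_stabilizes_iff_noetherian.mpr ‹IsNoetherianRing A› ⟨fun n => RingHom.ker (f ^ n),
    monotone_nat_of_le_succ fun n y (hy : (f ^ n) y = 0) => show (f ^ (n + 1)) y = 0 by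
      rw [pow_succ', RingHom.coe_mul, Function.comp_apply, hy, map_zero]⟩
  have hfn : Function.Surjective (f ^ n) := by
    rw [RingHom.coe_pow]
    exact hf.iterate n
  obtain ⟨y, rfl⟩ := hfn x
  have h1 : y ∈ RingHom.ker (f ^ (n + 1)) := by
    rw [RingHom.mem_ker, pow_succ', RingHom.coe_mul, Function.comp_apply, hx]
  rw [← (show RingHom.ker (f ^ n) = RingHom.ker (f ^ (n + 1)) from hn (n + 1) n.le_succ)] at h1
  exact h1

end Tangent

end Groth.Agent.ArtFunLib
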