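import Groth.Agent.ArtFunLib.Functor

/-!
# The least ideal carrying a lift
-/

set_option autoImplicit false
set_option linter.unusedSectionVars false

open CategoryTheory ArtFun ArtFun.Art IsLocalRing

namespace Groth.Agent.ArtFunLib

universe u v

variable {Λ : Type u} {k : Type u} [CommRing Λ] [Field k] [Algebra Λ k]

/-- Complements among ideals between `m J` and `J`. -/
lemma exists_complement {B : Type u} [CommRing B] [IsLocalRing B] [IsNoetherianRing B] {J K₁ K₂ : Ideal B}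
    (h1 : maximalIdeal B * J ≤ K₁) (h2 : maximalIdeal B * J ≤ K₂) (hK₁ : K₁ ≤ J) (hK₂ : K₂ ≤ J) :
    ∃ K, K₂ ≤ K ∧ K ≤ J ∧ K₁ ⊔ K = J ∧ K₁ ⊓ K = K₁ ⊓ K₂ := by
  obtain ⟨K, ⟨hK, hKJ, hKi⟩, hmax⟩ := (set_has_maximal_iff_noetherian.mpr inferInstance :
    ∀ a : Set (Ideal B), a.Nonempty → ∃ M' ∈ a, ∀ I ∈ a, ¬ M' < I)
    {K | K₂ ≤ K ∧ K ≤ J ∧ K₁ ⊓ K = K₁ ⊓ K₂} ⟨K₂, le_rfl, hK₂, rfl⟩
  refine ⟨K, hK, hKJ, le_antisymm (sup_le hK₁ hKJ) (fun t ht => ?_), hKi⟩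
  by_contra htK
  have hlt : K < K ⊔ Ideal.span {t} := lt_of_le_of_ne le_sup_left fun he =>
    htK (Ideal.mem_sup_right (he ▸ Ideal.mem_sup_right (Ideal.mem_span_singleton_self t)))
  refine hmax _ ⟨hK.trans le_sup_left, sup_le hKJ ((Ideal.span_singleton_le_iff_mem _).mpr ht),
    le_antisymm (fun z hz => ?_) ((le_of_eq hKi.symm).trans (inf_le_inf_left _ le_sup_left))⟩ hlt
  obtain ⟨hz1, hz2⟩ := Submodule.mem_inf.mp hz
  obtain ⟨a, ha, b, hb, rfl⟩ := Submodule.mem_sup.mp hz2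
  obtain ⟨r, rfl⟩ := Ideal.mem_span_singleton.mp hb
  by_cases hr : r ∈ maximalIdeal B
  · have hmJ : t * r ∈ maximalIdeal B * J := mul_comm r t ▸ Ideal.mul_mem_mul hr ht
    rw [← hKi]
    refine Submodule.mem_inf.mpr ⟨hz1, add_mem ha ?_⟩
    exact hK (h2 hmJ)
  · refine (htK ?_).elim
    have hu : IsUnit r := notMem_maximalIdeal.mp hr
    have : t * r ∈ K₁ ⊔ K := by
      rw [← add_sub_cancel_left a (t * r)]
      exact sub_mem (Ideal.mem_sup_left hz1) (Ideal.mem_sup_right ha)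
    exact (Ideal.mul_unit_mem_iff_mem _ hu).mp this

variable {F : Art Λ k ⥤ Type v}

lemma isFibreProd_quot (B : Art Λ k) {J K₁ K₂ : Ideal B} (hJ : J ≤ maximalIdeal B) (h1 : K₁ ≤ J) (h2 : K₂ ≤ J)
    (hs : J ≤ K₁ ⊔ K₂) :
    IsFibreProd
      (quotFactor (inf_le_left.trans (h1.trans hJ) : K₁ ⊓ K₂ ≤ maximalIdeal B) (quotMk B K₁ (h1.trans hJ))
        (fun _ hx => Ideal.Quotient.eq_zero_iff_mem.mpr hx.1))
      (quotFactor (inf_le_left.trans (h1.trans hJ) : K₁ ⊓ K₂ ≤ maximalIdeal B) (quotMk B K₂ (h2.trans hJ))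
        (fun _ hx => Ideal.Quotient.eq_zero_iff_mem.mpr hx.2))
      (quotFactor (h1.trans hJ) (quotMk B J hJ) (fun _ hx => Ideal.Quotient.eq_zero_iff_mem.mpr (h1 hx)))
      (quotFactor (h2.trans hJ) (quotMk B J hJ) (fun _ hx => Ideal.Quotient.eq_zero_iff_mem.mpr (h2 hx))) where
  w := Art.hom_ext (AlgHom.ext fun x => by obtain ⟨b, rfl⟩ := Ideal.Quotient.mk_surjective x; rfl)
  inj x y e1 e2 := by
    obtain ⟨a, rfl⟩ := Ideal.Quotient.mk_surjective x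
    obtain ⟨b, rfl⟩ := Ideal.Quotient.mk_surjective y
    exact Ideal.Quotient.eq.mpr ⟨Ideal.Quotient.eq.mp e1, Ideal.Quotient.eq.mp e2⟩
  surj x y e := by
    obtain ⟨a, rfl⟩ := Ideal.Quotient.mk_surjective x
    obtain ⟨b, rfl⟩ := Ideal.Quotient.mk_surjective y
    obtain ⟨u, hu, w, hw, huw⟩ := Submodule.mem_sup.mp (hs (Ideal.Quotient.eq.mp e))
    refine ⟨Ideal.Quotient.mk _ (a - u), Ideal.Quotient.eq.mpr ?_, Ideal.Quotient.eq.mpr ?_⟩
    · rw [sub_sub_cancel_left]; exact neg_mem hu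
    · rw [sub_right_comm, ← huw, add_sub_cancel_left]; exact hw

/-- Among the ideals inside the kernel of a semismall extension over which a given element lifts, there is a least one. -/
theorem exists_least (hs1 : S1 F) {B A : Art Λ k} (p : B ⟶ A) (hp : IsSemismallExt p) (x : F.obj A) :
    ∃ (J₀ : Ideal B) (hJ₀ : J₀ ≤ RingHom.ker p.toAlgHom) (hJ₀' : J₀ ≤ maximalIdeal B),
      (∃ y : F.obj (quot B J₀ hJ₀'), F.map (quotFactor hJ₀' p hJ₀) y = x) ∧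
      ∀ (J : Ideal B) (hJ : J ≤ RingHom.ker p.toAlgHom) (hJ' : J ≤ maximalIdeal B),
        (∃ y : F.obj (quot B J hJ'), F.map (quotFactor hJ' p hJ) y = x) → J₀ ≤ J := by
  let Ker := RingHom.ker p.toAlgHom
  have hm : maximalIdeal B * Ker = ⊥ := hp.2
  have hKer : Ker ≤ maximalIdeal B := ker_le_maximalIdeal p
  have _hiso : IsIso (quotFactor hKer p le_rfl) := by
    refine isIso_of_bijective _ ⟨(injective_iff_map_eq_zero _).mpr fun z hz => ?_, fun a => ?_⟩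
    · obtain ⟨b, rfl⟩ := Ideal.Quotient.mk_surjective z
      exact Ideal.Quotient.eq_zero_iff_mem.mpr hz
    · obtain ⟨b, rfl⟩ := hp.1 a
      exact ⟨Ideal.Quotient.mk Ker b, rfl⟩
  let 𝓛 : Set (Ideal B) := {J | ∃ (hJ : J ≤ Ker) (hJ' : J ≤ maximalIdeal B),
    ∃ y : F.obj (quot B J hJ'), F.map (quotFactor hJ' p hJ) y = x}
  have hne : 𝓛.Nonempty := ⟨Ker, le_rfl, hKer, (map_bijective_of_isIso _).2 x⟩
  obtain ⟨J₀, ⟨hJ₀, hJ₀', hy₀⟩, hmin⟩ := IsArtinian.set_has_minimal 𝓛 hne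
  refine ⟨J₀, hJ₀, hJ₀', hy₀, fun J hJ hJ' ⟨y, hy⟩ => ?_⟩
  obtain ⟨y₀, hy₀⟩ := hy₀
  obtain ⟨K, hKK, hKJ, hsup, hinf⟩ := exists_complement (J := Ker) (K₁ := J₀) (K₂ := J)
    (by rw [hm]; exact bot_le) (by rw [hm]; exact bot_le) hJ₀ hJ
  have hK' : K ≤ maximalIdeal B := hKJ.trans hKer
  let yK := F.map (quotFactor hJ' (quotMk B K hK') fun _ hz => Ideal.Quotient.eq_zero_iff_mem.mpr (hKK hz)) y
  let q0 := quotFactor hJ₀' (quotMk B Ker hKer) fun _ hz => Ideal.Quotient.eq_zero_iff_mem.mpr (hJ₀ hz)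
  let qK := quotFactor hK' (quotMk B Ker hKer) fun _ hz => Ideal.Quotient.eq_zero_iff_mem.mpr (hKJ hz)
  have hsq := isFibreProd_quot B hKer hJ₀ hKJ hsup.ge
  have hqK : Function.Surjective qK := fun z => by
    obtain ⟨b, rfl⟩ := Ideal.Quotient.mk_surjective z
    exact ⟨Ideal.Quotient.mk K b, rfl⟩
  have e0 : q0 ≫ quotFactor hKer p le_rfl = quotFactor hJ₀' p hJ₀ :=
    Art.hom_ext (AlgHom.ext fun z => by obtain ⟨b, rfl⟩ := Ideal.Quotient.mk_surjective z; rfl)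
  have eK : (quotFactor hJ' (quotMk B K hK') fun _ hz => Ideal.Quotient.eq_zero_iff_mem.mpr (hKK hz)) ≫ qK ≫
      quotFactor hKer p le_rfl = quotFactor hJ' p hJ :=
    Art.hom_ext (AlgHom.ext fun z => by obtain ⟨b, rfl⟩ := Ideal.Quotient.mk_surjective z; rfl)
  obtain ⟨w, hw1, -⟩ := (cmp_surjective_iff hsq).mp (hs1 _ _ _ _ hsq hqK) y₀ yK
    ((map_bijective_of_isIso (F := F) (quotFactor hKer p le_rfl)).1 (by
      rw [map_map q0, e0, hy₀, map_map qK, map_map, eK, hy]))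
  have hI : J₀ ⊓ K ∈ 𝓛 := ⟨inf_le_left.trans hJ₀, inf_le_left.trans hJ₀', w, by
    rw [← hy₀, ← hw1, map_map]
    exact congrArg (fun g => F.map g w)
      (Art.hom_ext (AlgHom.ext fun z => by obtain ⟨b, rfl⟩ := Ideal.Quotient.mk_surjective z; rfl))⟩
  have : J₀ ⊓ K = J₀ := (eq_or_lt_of_le inf_le_left).resolve_right (hmin _ hI)
  rw [hinf] at this
  exact this ▸ inf_le_right

end Groth.Agent.ArtFunLib
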