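import Groth.Agent.ArtFunLib.HR
import Groth.Agent.ArtFunLib.Least

/-!
# Existence of versal families and hulls
-/

set_option autoImplicit false
set_option linter.unusedSectionVars false

open CategoryTheory ArtFun ArtFun.Art IsLocalRing

namespace Groth.Agent.ArtFunLib

universe u v

variable {Λ : Type u} {k : Type u} [CommRing Λ] [Field k] [Algebra Λ k]

/-- An Artinian quotient of a coefficient ring. -/
structure Lvl (S : CRing Λ k) where
  /-- the ideal -/
  J : Ideal S.carrier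
  le : J ≤ maximalIdeal S.carrier
  pow : ∃ N, maximalIdeal S.carrier ^ (N + 1) ≤ J

namespace Lvl

variable {S : CRing Λ k} (L : Lvl S)

/-- The quotient object. -/
noncomputable def obj : Art Λ k :=
  haveI : Nontrivial (S.carrier ⧸ L.J) := nontrivial_quotient S L.J L.le
  haveI : IsArtinianRing (S.carrier ⧸ L.J) := by
    obtain ⟨N, hN⟩ := L.pow
    have := CRing.isArtinianRing_quot_mpow S N
    exact (Ideal.Quotient.factor_surjective hN).isArtinianRing
  { carrier := S.carrier ⧸ L.J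
    isLocalRing := IsLocalRing.of_surjective' (Ideal.Quotient.mk L.J) Ideal.Quotient.mk_surjective
    res := Ideal.Quotient.liftₐ L.J S.res fun _ ha => (CRing.mem_maximalIdeal_iff S _).1 (L.le ha)
    res_surjective := fun c => by
      obtain ⟨a, ha⟩ := S.res_surjective c
      exact ⟨Ideal.Quotient.mk L.J a, ha⟩ }

/-- The projection. -/
noncomputable def proj : HomSet S.carrier S.res L.obj :=
  ⟨Ideal.Quotient.mkₐ Λ L.J, Ideal.Quotient.liftₐ_comp _ _ _⟩

lemma proj_surjective : Function.Surjective L.proj.1 := Ideal.Quotient.mk_surjective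

lemma proj_eq_zero_iff (a : S.carrier) : L.proj.1 a = 0 ↔ a ∈ L.J := Ideal.Quotient.eq_zero_iff_mem

/-- Factorisation of a morphism killing the ideal. -/
noncomputable def factor {A : Art Λ k} (φ : HomSet S.carrier S.res A) (h : L.J ≤ RingHom.ker φ.1) : L.obj ⟶ A :=
  ⟨Ideal.Quotient.liftₐ L.J φ.1 (fun _ ha => h ha), AlgHom.ext fun x => by
    obtain ⟨a, rfl⟩ := Ideal.Quotient.mk_surjective x
    exact res_homSet φ a⟩

lemma map_factor {A : Art Λ k} (φ : HomSet S.carrier S.res A) (h : L.J ≤ RingHom.ker φ.1) :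
    HomSet.map (L.factor φ h) L.proj = φ := HomSet.ext' fun _ => rfl

lemma hom_ext {A : Art Λ k} {f g : L.obj ⟶ A} (h : HomSet.map f L.proj = HomSet.map g L.proj) : f = g :=
  Art.hom_ext (AlgHom.ext fun x => by
    obtain ⟨a, rfl⟩ := L.proj_surjective x
    exact congrArg (fun ψ : HomSet S.carrier S.res A => ψ.1 a) h)

lemma le_ker_proj {L' : Lvl S} (h : L'.J ≤ L.J) : L'.J ≤ RingHom.ker L.proj.1 := fun a ha =>
  (L.proj_eq_zero_iff a).mpr (h ha)

/-- Transition map. -/
noncomputable def trans {L' : Lvl S} (h : L'.J ≤ L.J) : L'.obj ⟶ L.obj := L'.factor L.proj (L.le_ker_proj h)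

lemma map_trans {L' : Lvl S} (h : L'.J ≤ L.J) : HomSet.map (L.trans h) L'.proj = L.proj := map_factor _ _ _

lemma trans_surjective {L' : Lvl S} (h : L'.J ≤ L.J) : Function.Surjective (L.trans h) := fun x => by
  obtain ⟨a, rfl⟩ := L.proj_surjective x
  exact ⟨L'.proj.1 a, rfl⟩

/-- The level cut out by a map with Artinian target. -/
def ofHom {A : Art Λ k} (φ : HomSet S.carrier S.res A) : Lvl S where
  J := RingHom.ker φ.1
  le a ha := by
    rw [CRing.mem_maximalIdeal_iff, ← res_homSet φ, show φ.1 a = 0 from ha, map_zero]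
  pow := exists_mpow_le_ker φ

end Lvl

variable {F : Art Λ k ⥤ Type v}

/-- One step of the construction. -/
lemma exists_next (hs1 : S1 F) {S : CRing Λ k} (L : Lvl S) (x : F.obj L.obj) :
    ∃ (L' : Lvl S) (h : L'.J ≤ L.J) (x' : F.obj L'.obj), maximalIdeal S.carrier * L.J ≤ L'.J ∧
      F.map (L.trans h) x' = x ∧
      ∀ (K : Lvl S) (hK : K.J ≤ L.J), maximalIdeal S.carrier * L.J ≤ K.J →
        (∃ y, F.map (L.trans hK) y = x) → L'.J ≤ K.J := by
  obtain ⟨N, hN⟩ := L.pow
  let M : Lvl S := ⟨maximalIdeal S.carrier * L.J, Ideal.mul_le_right.trans L.le,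
    ⟨N + 1, by rw [pow_succ' _ (N + 1)]; exact Ideal.mul_mono_right hN⟩⟩
  have hML : M.J ≤ L.J := Ideal.mul_le_right
  let p := L.trans hML
  have hp : IsSemismallExt p := by
    refine ⟨L.trans_surjective hML, ?_⟩
    rw [eq_bot_iff, Ideal.mul_le]
    intro a ha b hb
    obtain ⟨a, rfl⟩ := M.proj_surjective a
    obtain ⟨b, rfl⟩ := M.proj_surjective b
    rw [Ideal.mem_bot, ← map_mul, M.proj_eq_zero_iff]
    refine Ideal.mul_mem_mul ?_ ((L.proj_eq_zero_iff b).mp hb)
    rw [CRing.mem_maximalIdeal_iff, ← res_homSet M.proj, ← Art.mem_maximalIdeal_iff]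
    exact ha
  obtain ⟨J₀, hJ₀, hJ₀', ⟨y, hy⟩, hleast⟩ := exists_least hs1 p hp x
  let φ : HomSet S.carrier S.res (quot M.obj J₀ hJ₀') := HomSet.map (quotMk M.obj J₀ hJ₀') M.proj
  let L' : Lvl S := Lvl.ofHom φ
  have hmem : ∀ a, a ∈ L'.J ↔ M.proj.1 a ∈ J₀ := fun a => Ideal.Quotient.eq_zero_iff_mem
  have h : L'.J ≤ L.J := fun a ha => (L.proj_eq_zero_iff a).mp (hJ₀ ((hmem a).mp ha))
  let e : quot M.obj J₀ hJ₀' ⟶ L'.obj := quotFactor hJ₀' (M.factor L'.proj (fun a ha =>
    (L'.proj_eq_zero_iff a).mpr ((hmem a).mpr (by rw [(M.proj_eq_zero_iff a).mpr ha]; exact zero_mem _))))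
    (fun z hz => by
      obtain ⟨a, rfl⟩ := M.proj_surjective z
      exact (L'.proj_eq_zero_iff a).mpr ((hmem a).mpr hz))
  have he : e ≫ L.trans h = quotFactor hJ₀' p hJ₀ := Art.hom_ext (AlgHom.ext fun z => by
    obtain ⟨z, rfl⟩ := Ideal.Quotient.mk_surjective z
    obtain ⟨a, rfl⟩ := M.proj_surjective z
    rfl)
  refine ⟨L', h, F.map e y, fun a ha => (hmem a).mpr (by rw [(M.proj_eq_zero_iff a).mpr ha]; exact zero_mem _),
    by rw [map_map, he, hy], fun K hK hmK ⟨w, hw⟩ => ?_⟩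
  let J : Ideal M.obj := RingHom.ker (K.trans (L' := M) hmK).toAlgHom
  have hJm : J ≤ maximalIdeal M.obj := ker_le_maximalIdeal _
  have hmemK : ∀ a, a ∈ K.J ↔ M.proj.1 a ∈ J := fun a => (K.proj_eq_zero_iff a).symm
  have hJp : J ≤ RingHom.ker p.toAlgHom := fun z hz => by
    obtain ⟨a, rfl⟩ := M.proj_surjective z
    exact (L.proj_eq_zero_iff a).mpr (hK ((hmemK a).mpr hz))
  let d : K.obj ⟶ quot M.obj J hJm :=
    K.factor (HomSet.map (quotMk M.obj J hJm) M.proj) fun a ha => Ideal.Quotient.eq_zero_iff_mem.mpr ((hmemK a).mp ha)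
  have hd : d ≫ quotFactor hJm p hJp = L.trans hK := Art.hom_ext (AlgHom.ext fun z => by
    obtain ⟨a, rfl⟩ := K.proj_surjective z
    rfl)
  have hle := hleast J hJp hJm ⟨F.map d w, by rw [map_map, hd, hw]⟩
  exact fun a ha => (hmemK a).mpr (hle ((hmem a).mp ha))

variable [Module.Finite Λ k] [IsNoetherianRing Λ]

omit [IsNoetherianRing Λ] in
/-- The heart of the construction: a smooth coefficient ring with a surjection to `k ⊕ k^d` gives a versal family. -/
theorem exists_versal_quotient (h0 : H0 F) (hbar : Hbar F) (heps : Heps F) [TangentStr F]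
    (S : CRing Λ k) (hS : ∀ ⦃B A : Art Λ k⦄ (μ : B ⟶ A), IsSmallExt μ → ∀ φ : HomSet S.carrier S.res A,
      ∃ ψ, HomSet.map μ ψ = φ)
    {d : ℕ} (π : HomSet S.carrier S.res (En Λ k d)) (hπ : Function.Surjective π.1)
    (θ : Fin d → F.obj (dual Λ k))
    (hθ : ⊤ ≤ Submodule.span k ((Set.range fun i => TangentSpace.mk (θ i)) ∪
      Set.range fun σ : base Λ k ⟶ dual Λ k => TangentSpace.mk (F.map σ h0.1.some))) :
    ∃ (J : Ideal S.carrier) (hJ : J ≤ maximalIdeal S.carrier) (ξ : Family (quotCRing S J hJ).carrier (quotCRing S J hJ).res F),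
      IsVersal ξ ∧ ∃ π' : HomSet (quotCRing S J hJ).carrier (quotCRing S J hJ).res (En Λ k d),
        (∀ a, π'.1 (quotProj S J hJ a) = π.1 a) ∧ ξ.app _ π' = enElt h0 heps θ := by
  have hs1 : S1 F := s1_of_hbar hbar
  let L0 : Lvl S := Lvl.ofHom π
  let e0 : L0.obj ⟶ En Λ k d := L0.factor π le_rfl
  have : IsIso e0 := by
    refine isIso_of_bijective _ ⟨(injective_iff_map_eq_zero _).mpr fun z hz => ?_, fun a => ?_⟩
    · obtain ⟨b, rfl⟩ := L0.proj_surjective z
      exact (L0.proj_eq_zero_iff b).mpr hz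
    · obtain ⟨b, rfl⟩ := hπ a
      exact ⟨L0.proj.1 b, rfl⟩
  obtain ⟨x0, hx0⟩ := (map_bijective_of_isIso (F := F) e0).2 (enElt h0 heps θ)
  choose next hnle nx hnm hnx hnleast using exists_next (F := F) (S := S) hs1
  let st : ℕ → Σ' L : Lvl S, F.obj L.obj := Nat.rec ⟨L0, x0⟩ fun _ p => ⟨next p.1 p.2, nx p.1 p.2⟩
  let lv : ℕ → Lvl S := fun n => (st n).1
  let xs : ∀ n, F.obj (lv n).obj := fun n => (st n).2
  have hanti : Antitone fun n => (lv n).J := antitone_nat_of_succ_le fun n => hnle (lv n) (xs n)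
  have hcomp : ∀ {a b : ℕ} (h : a ≤ b), F.map ((lv a).trans (hanti h)) (xs b) = xs a := fun {a b} h => by
    induction b, h using Nat.le_induction with
    | base =>
      rw [show (lv a).trans (L' := lv a) (hanti (le_refl a)) = 𝟙 _ from
        (lv a).hom_ext (HomSet.ext' fun _ => rfl), map_id_apply]
    | succ b h ih =>
      rw [show (lv a).trans (hanti (h.trans b.le_succ)) =
          (lv b).trans (L' := lv (b + 1)) (hnle _ _) ≫ (lv a).trans (hanti h) from
        (lv (b + 1)).hom_ext (HomSet.ext' fun _ => rfl), ← map_map]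
      rw [show F.map ((lv b).trans (L' := lv (b + 1)) (hnle _ _)) (xs (b + 1)) = xs b from hnx _ _, ih]
  let J : Ideal S.carrier := ⨅ n, (lv n).J
  have hJ : J ≤ maximalIdeal S.carrier := (iInf_le _ 0).trans (lv 0).le
  let R := quotCRing S J hJ
  let pr := quotProj S J hJ
  let pc : ∀ {A : Art Λ k}, HomSet R.carrier R.res A → HomSet S.carrier S.res A := fun φ =>
    ⟨φ.1.comp pr, AlgHom.ext fun a => (res_homSet φ _).trans (DFunLike.congr_fun (res_comp_quotProj S J hJ) a)⟩
  have hker : ∀ {A : Art Λ k} (φ : HomSet R.carrier R.res A), ∃ n, (lv n).J ≤ RingHom.ker (pc φ).1 := fun φ => by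
    obtain ⟨N, hN⟩ := exists_mpow_le_ker (pc φ)
    obtain ⟨n, hn⟩ := chevalley (fun n => (lv n).J) hanti N
    refine ⟨n, hn.trans (sup_le (fun a ha => ?_) hN)⟩
    change φ.1 (pr a) = 0
    rw [show pr a = 0 from (quotProj_eq_zero_iff S J hJ a).mpr ha, map_zero]
  choose ν hν using @hker
  have indep : ∀ {A : Art Λ k} (χ : HomSet S.carrier S.res A) {n n' : ℕ} (h : (lv n).J ≤ RingHom.ker χ.1)
      (h' : (lv n').J ≤ RingHom.ker χ.1),
      F.map ((lv n).factor χ h) (xs n) = F.map ((lv n').factor χ h') (xs n') := by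
    intro A χ
    have key : ∀ {n n' : ℕ} (h : (lv n).J ≤ RingHom.ker χ.1) (h' : (lv n').J ≤ RingHom.ker χ.1), n ≤ n' →
        F.map ((lv n).factor χ h) (xs n) = F.map ((lv n').factor χ h') (xs n') := fun {n n'} h h' hnn => by
      rw [← hcomp hnn, map_map]
      exact congrArg (fun g => F.map g (xs n')) ((lv n').hom_ext (HomSet.ext' fun _ => rfl))
    exact fun {n n'} h h' => (le_total n n').elim (key h h') fun e => (key h' h e).symm
  let ξ : Family R.carrier R.res F :=
    { app := fun A φ => F.map ((lv (ν φ)).factor (pc φ) (hν φ)) (xs (ν φ))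
      natural := fun {A B} f φ => by
        have hle : (lv (ν φ)).J ≤ RingHom.ker (pc (HomSet.map f φ)).1 := fun a ha => by
          change f ((pc φ).1 a) = 0
          rw [show (pc φ).1 a = 0 from hν φ ha, map_zero]
        rw [indep (pc (HomSet.map f φ)) (hν _) hle, map_map]
        exact congrArg (fun g => F.map g (xs (ν φ))) ((lv (ν φ)).hom_ext (HomSet.ext' fun _ => rfl)) }
  have happ : ∀ {A : Art Λ k} (φ : HomSet R.carrier R.res A) {n : ℕ} (h : (lv n).J ≤ RingHom.ker (pc φ).1),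
      ξ.app A φ = F.map ((lv n).factor (pc φ) h) (xs n) := fun φ n h => indep _ (hν φ) h
  obtain ⟨π', hπ'⟩ := exists_quot_factor S J hJ π (iInf_le (fun n => (lv n).J) 0)
  have hξπ : ξ.app _ π' = enElt h0 heps θ := by
    have h : (lv 0).J ≤ RingHom.ker (pc π').1 := fun a ha => (hπ' a).trans ha
    rw [happ π' (n := 0) h, show (lv 0).factor (pc π') h = e0 from (lv 0).hom_ext (HomSet.ext' hπ'), ← hx0]
    rfl
  refine ⟨J, hJ, ξ, ?_, π', hπ', hξπ⟩
  refine Mor.smooth_of_criterion (Mor.ofFamily ξ) hbar heps (hR_h0 R.res) (hR_heps R.res) ?_ ?_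
  · intro y
    obtain ⟨TR⟩ := nonempty_tangentStr (hR_h0 R.res) (hR_heps R.res)
    obtain ⟨f, hf⟩ := Mor.exists_tangent_linear (TG := TR) (hR_h0 R.res) (hR_heps R.res) (Mor.ofFamily ξ)
    have hmem : TangentSpace.mk y ∈ LinearMap.range f := by
      refine (hθ.trans (Submodule.span_le.mpr (Set.union_subset ?_ ?_))) Submodule.mem_top
      · rintro _ ⟨i, rfl⟩
        refine ⟨HomSet.map (enProj i) π', ?_⟩
        rw [hf]
        change ξ.app _ (HomSet.map (enProj i) π') = θ i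
        rw [ξ.natural, hξπ, map_proj_enElt]
      · rintro _ ⟨σ, rfl⟩
        refine ⟨HomSet.map σ ⟨R.res, AlgHom.id_comp _⟩, ?_⟩
        rw [hf]
        change ξ.app _ (HomSet.map σ ⟨R.res, AlgHom.id_comp _⟩) = F.map σ h0.1.some
        rw [ξ.natural]
        exact congrArg (F.map σ) (@Subsingleton.elim _ h0.2 _ _)
    obtain ⟨x, hx⟩ := hmem
    exact ⟨x, (hf x).symm.trans hx⟩
  · intro B A μ hμ φ ⟨y, hy⟩
    let φ : HomSet R.carrier R.res A := φ
    obtain ⟨ψ, hψ⟩ := hS μ hμ (pc φ)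
    obtain ⟨-, t, ht0, htm, htk⟩ := (isSmallExt_iff μ).mp hμ
    let n := ν φ
    let f := (lv n).factor (pc φ) (hν φ)
    obtain ⟨Q, p₁, p₂, hQ⟩ := exists_fibreProd f μ hμ.1
    obtain ⟨w, hw1, -⟩ := (cmp_surjective_iff hQ).mp (hs1 p₁ p₂ f μ hQ hμ.1) (xs n) y hy.symm
    obtain ⟨g, hg1, hg2⟩ := (cmp_surjective_iff hQ).mp (hR_s1 S.res p₁ p₂ f μ hQ hμ.1) (lv n).proj ψ (by
      change HomSet.map f (lv n).proj = HomSet.map μ ψ
      rw [(lv n).map_factor, hψ])
    let g : HomSet S.carrier S.res Q := g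
    have hg1' : ∀ a, p₁ (g.1 a) = (lv n).proj.1 a := fun a =>
      congrArg (fun χ : HomSet S.carrier S.res (lv n).obj => χ.1 a) hg1
    have hg2' : ∀ a, p₂ (g.1 a) = ψ.1 a := fun a => congrArg (fun χ : HomSet S.carrier S.res B => χ.1 a) hg2
    suffices hJψ : J ≤ RingHom.ker ψ.1 by
      obtain ⟨z, hz⟩ := exists_quot_factor S J hJ ψ hJψ
      refine ⟨z, HomSet.ext' fun r => ?_⟩
      obtain ⟨a, rfl⟩ := quotProj_surjective S J hJ r
      change μ (z.1 (pr a)) = φ.1 (pr a)
      rw [hz]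
      exact congrArg (fun χ : HomSet S.carrier S.res A => χ.1 a) hψ
    by_cases h : (lv n).J ≤ RingHom.ker ψ.1
    · exact (iInf_le (fun n => (lv n).J) n).trans h
    obtain ⟨j, hj, hjψ⟩ := SetLike.not_le_iff_exists.mp h
    obtain ⟨-, τ, hτ0, hτm, hτk⟩ := (isSmallExt_iff p₁).mp (isSmallExt_fst hQ hμ)
    have hgj : g.1 j ∈ Ideal.span {τ} := by
      rw [← hτk]
      change p₁ (g.1 j) = 0
      rw [hg1']
      exact ((lv n).proj_eq_zero_iff j).mpr hj
    have hgj0 : g.1 j ≠ 0 := fun h0 => hjψ (by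
      change ψ.1 j = 0
      rw [← hg2', h0, map_zero])
    obtain ⟨r, hr⟩ := Ideal.mem_span_singleton.mp hgj
    have hru : IsUnit r := by
      by_contra hu
      exact hgj0 (by rw [hr, mul_comm]; exact hτm r ((mem_maximalIdeal r).mpr hu))
    have hsurj : Function.Surjective g.1 := fun q => by
      obtain ⟨a, ha⟩ := (lv n).proj_surjective (p₁ q)
      have : q - g.1 a ∈ Ideal.span {τ} := by
        rw [← hτk]
        change p₁ (q - g.1 a) = 0
        rw [map_sub, hg1', ha, sub_self]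
      obtain ⟨r', hr'⟩ := Ideal.mem_span_singleton.mp this
      obtain ⟨c, hc⟩ := S.res_surjective (Q.res (r' * (↑hru.unit⁻¹ : Q)))
      refine ⟨a + c * j, ?_⟩
      have e : g.1 c * τ = r' * (↑hru.unit⁻¹ : Q) * τ :=
        exists_lift_res Q _ (f := p₁) τ (g.1 c) hτm ((res_homSet g c).trans hc) |>.symm
      have e2 : g.1 c * g.1 j = r' * τ := by
        rw [hr, ← mul_assoc, e, mul_right_comm (r' * _) τ r, mul_assoc r', IsUnit.val_inv_mul, mul_one]
      rw [map_add, map_mul, e2, mul_comm r', ← hr', add_sub_cancel]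
    let K : Lvl S := Lvl.ofHom g
    have hK : K.J ≤ (lv n).J := fun a ha => ((lv n).proj_eq_zero_iff a).mp (by
      rw [← hg1', show g.1 a = 0 from ha, map_zero])
    have hmK : maximalIdeal S.carrier * (lv n).J ≤ K.J := Ideal.mul_le.mpr fun a ha b hb => by
      change g.1 (a * b) = 0
      have : g.1 b ∈ Ideal.span {τ} := by
        rw [← hτk]
        change p₁ (g.1 b) = 0
        rw [hg1']
        exact ((lv n).proj_eq_zero_iff b).mpr hb
      obtain ⟨s, hs⟩ := Ideal.mem_span_singleton.mp this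
      rw [map_mul, hs, ← mul_assoc]
      rw [show g.1 a * τ = 0 from hτm _ (by
        rw [mem_maximalIdeal_iff, res_homSet g]
        exact (CRing.mem_maximalIdeal_iff S a).mp ha), zero_mul]
    let eK : K.obj ⟶ Q := K.factor g le_rfl
    have : IsIso eK := by
      refine isIso_of_bijective _ ⟨(injective_iff_map_eq_zero _).mpr fun z hz => ?_, fun q => ?_⟩
      · obtain ⟨b, rfl⟩ := K.proj_surjective z
        exact (K.proj_eq_zero_iff b).mpr hz
      · obtain ⟨b, rfl⟩ := hsurj q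
        exact ⟨K.proj.1 b, rfl⟩
    obtain ⟨w', hw'⟩ := (map_bijective_of_isIso (F := F) eK).2 w
    have hle : (lv (n + 1)).J ≤ K.J := hnleast (lv n) (xs n) K hK hmK ⟨w', by
      rw [← hw1, ← hw', map_map]
      exact congrArg (fun q => F.map q w') (K.hom_ext (HomSet.ext' fun a => (hg1' a).symm))⟩
    exact fun a ha => show ψ.1 a = 0 by
      rw [← hg2', show g.1 a = 0 from hle (Ideal.mem_iInf.mp ha (n + 1)), map_zero]

/-- The free coefficient ring for `d` tangent directions. -/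
theorem exists_free_tangent (d : ℕ) :
    ∃ (r : ℕ) (S : CRing Λ k) (x : Fin r → S.carrier) (y : Fin d → S.carrier) (π : HomSet S.carrier S.res (En Λ k d)),
      Function.Surjective π.1 ∧
      (∀ ⦃B A : Art Λ k⦄ (μ : B ⟶ A), Function.Surjective μ → ∀ φ : HomSet S.carrier S.res A,
        ∃ ψ, HomSet.map μ ψ = φ) ∧
      (∀ i, TrivSqZeroExt.snd (π.1 (x i)) = 0) ∧
      (∀ i, π.1 (y i) = TrivSqZeroExt.inr (Pi.single i (1 : k))) ∧
      (∀ (A : Art Λ k) (φ ψ : HomSet S.carrier S.res A), (∀ i, φ.1 (x i) = ψ.1 (x i)) →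
        (∀ i, φ.1 (y i) = ψ.1 (y i)) → φ = ψ) ∧
      (∀ (v : Fin r → k), ∃ φ : HomSet S.carrier S.res (dual Λ k), ∀ i, TrivSqZeroExt.snd (φ.1 (x i)) = v i) := by
  obtain ⟨r, c, hc⟩ := exists_residue_generators (Λ := Λ) (k := k)
  let cc : ULift.{u} (Fin r ⊕ Fin d) → k := fun i => Sum.elim c 0 i.down
  have hcc : Algebra.adjoin Λ (Set.range cc) = ⊤ := top_le_iff.mp (hc ▸ Algebra.adjoin_mono
    (Set.range_subset_iff.mpr fun i => ⟨⟨Sum.inl i⟩, rfl⟩))
  obtain ⟨S, X, hX, hfree⟩ := exists_free _ cc hcc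
  let b : ULift.{u} (Fin r ⊕ Fin d) → TrivSqZeroExt k (Fin d → k) := fun i =>
    Sum.elim (fun i => TrivSqZeroExt.inl (c i)) (fun j => TrivSqZeroExt.inr (Pi.single j 1)) i.down
  obtain ⟨π, hπ, -⟩ := hfree (En Λ k d) b (by rintro ⟨i | i⟩ <;> rfl)
  refine ⟨r, S, fun i => X ⟨Sum.inl i⟩, fun i => X ⟨Sum.inr i⟩, π, ?_, ?_,
    fun i => by rw [hπ]; rfl, fun i => hπ _, ?_, fun v => ?_⟩
  · intro q
    have key : ∀ i (a : k), TrivSqZeroExt.inr (Pi.single i a) ∈ π.1.range := fun i a => by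
      obtain ⟨s, hs⟩ := S.res_surjective a
      refine ⟨s * X ⟨Sum.inr i⟩, ?_⟩
      change π.1 (s * X ⟨Sum.inr i⟩) = _
      rw [map_mul, hπ]
      refine TrivSqZeroExt.ext ?_ ?_
      · change TrivSqZeroExt.fst (π.1 s) * 0 = 0
        rw [mul_zero]
      · change TrivSqZeroExt.fst (π.1 s) • Pi.single i (1 : k) + MulOpposite.op (0 : k) • TrivSqZeroExt.snd (π.1 s) =
          Pi.single i a
        rw [MulOpposite.op_zero, zero_smul, add_zero, ← Pi.single_smul, smul_eq_mul, mul_one,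
          show TrivSqZeroExt.fst (π.1 s) = a from (res_homSet π s).trans hs]
    obtain ⟨s, hs⟩ := S.res_surjective (TrivSqZeroExt.fst q)
    let πs : TrivSqZeroExt k (Fin d → k) := π.1 s
    have : (q : TrivSqZeroExt k (Fin d → k)) = πs +
        ∑ i, TrivSqZeroExt.inr (Pi.single i ((TrivSqZeroExt.snd q - TrivSqZeroExt.snd πs) i)) := by
      rw [← TrivSqZeroExt.inr_sum, Finset.univ_sum_single]
      refine TrivSqZeroExt.ext ?_ ?_
      · exact ((res_homSet π s).trans hs).symm.trans (add_zero _).symm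
      · exact (add_sub_cancel _ _).symm
    change q ∈ π.1.range
    exact this.symm ▸ add_mem (s := π.1.range) ⟨s, rfl⟩ (sum_mem fun i _ => key i _)
  · intro B A μ hμ φ
    choose β hβ using fun i => hμ (φ.1 (X i))
    obtain ⟨ψ, hψ, -⟩ := hfree B β fun i => by rw [← Art.res_app μ, hβ, res_homSet, hX]
    refine ⟨ψ, ?_⟩
    obtain ⟨φ₀, -, huniq⟩ := hfree A (fun i => φ.1 (X i)) fun i => by rw [res_homSet, hX]
    rw [huniq φ fun _ => rfl]
    exact huniq _ fun i => (congrArg μ.toAlgHom (hψ i)).trans (hβ i)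
  · intro A φ ψ h1 h2
    obtain ⟨φ₀, -, huniq⟩ := hfree A (fun i => φ.1 (X i)) fun i => by rw [res_homSet, hX]
    rw [huniq φ fun _ => rfl, huniq ψ ?_]
    rintro ⟨i | i⟩
    · exact (h1 i).symm
    · exact (h2 i).symm
  · let β : ULift.{u} (Fin r ⊕ Fin d) → DualNumber k := fun i =>
      Sum.elim (fun i => TrivSqZeroExt.inl (c i) + TrivSqZeroExt.inr (v i)) 0 i.down
    obtain ⟨φ, hφ, -⟩ := hfree (dual Λ k) β (by
      rintro ⟨i | i⟩
      · exact add_zero (c i)
      · rfl)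
    exact ⟨φ, fun i => by rw [hφ]; exact zero_add (v i)⟩

lemma exists_basis [TangentStr F] (h3 : Hfin F) :
    ∃ (d : ℕ) (θ : Fin d → F.obj (dual Λ k)), LinearIndependent k (fun i => TangentSpace.mk (θ i)) ∧
      Submodule.span k (Set.range fun i => TangentSpace.mk (θ i)) = ⊤ := by
  have : Module.Finite k (TangentSpace F) := h3
  let b := Module.finBasis k (TangentSpace F)
  exact ⟨_, fun i => b i, b.linearIndependent, b.span_eq⟩

/-- A versal family exists. -/
theorem hasVersal [TangentStr F] (h0 : H0 F) (hbar : Hbar F) (heps : Heps F) (h3 : Hfin F) : HasVersal F := by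
  obtain ⟨d, θ, -, hθ⟩ := exists_basis h3
  obtain ⟨r, S, x, y, π, hπ, hS, -⟩ := exists_free_tangent (Λ := Λ) (k := k) d
  obtain ⟨J, hJ, ξ, hξ, -⟩ := exists_versal_quotient h0 hbar heps S (fun B A μ h => hS μ h.1) π hπ θ
    (hθ ▸ Submodule.span_mono Set.subset_union_left)
  exact ⟨⟨_, ξ, hξ⟩⟩

omit [Module.Finite Λ k] [IsNoetherianRing Λ] in
/-- The functional of a tangent vector of `h_S` on the maximal ideal. -/
lemma snd_mul_dual {S : CRing Λ k} (φ : HomSet S.carrier S.res (dual Λ k)) (a b : S.carrier) :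
    TrivSqZeroExt.snd (φ.1 (a * b)) = S.res a * TrivSqZeroExt.snd (φ.1 b) + S.res b * TrivSqZeroExt.snd (φ.1 a) := by
  rw [map_mul, ← res_homSet φ a, ← res_homSet φ b]
  change TrivSqZeroExt.fst (φ.1 a) • TrivSqZeroExt.snd (φ.1 b) +
    MulOpposite.op (TrivSqZeroExt.fst (φ.1 b)) • TrivSqZeroExt.snd (φ.1 a) = _
  rw [MulOpposite.smul_eq_mul_unop, MulOpposite.unop_op, smul_eq_mul, mul_comm (TrivSqZeroExt.snd _)]
  rfl

/-- Without derivations of `k`, a tangent vector is determined on the maximal ideal. -/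
lemma snd_eq_zero_of_maximalIdeal (hk : Subsingleton (Derivation Λ k k)) {S : CRing Λ k}
    (φ : HomSet S.carrier S.res (dual Λ k)) (h : ∀ a ∈ maximalIdeal S.carrier, TrivSqZeroExt.snd (φ.1 a) = 0)
    (s : S.carrier) : TrivSqZeroExt.snd (φ.1 s) = 0 := by
  choose σ hσ using S.res_surjective
  have hwd : ∀ a b, S.res a = S.res b → TrivSqZeroExt.snd (φ.1 a) = TrivSqZeroExt.snd (φ.1 b) := fun a b hab => by
    have := h (a - b) (by rw [CRing.mem_maximalIdeal_iff, map_sub, hab, sub_self])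
    rw [map_sub] at this
    exact sub_eq_zero.mp this
  let L : k →ₗ[Λ] k :=
    { toFun := fun c => TrivSqZeroExt.snd (φ.1 (σ c))
      map_add' := fun a b => by rw [hwd (σ (a + b)) (σ a + σ b) (by simp [hσ]), map_add]; rfl
      map_smul' := fun l a => by rw [hwd (σ (l • a)) (l • σ a) (by simp [hσ]), map_smul]; rfl }
  let D : Derivation Λ k k := Derivation.mk' L fun a b => by
    change TrivSqZeroExt.snd (φ.1 (σ (a * b))) = a • TrivSqZeroExt.snd (φ.1 (σ b)) + b • TrivSqZeroExt.snd (φ.1 (σ a))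
    rw [hwd (σ (a * b)) (σ a * σ b) (by simp [hσ]), snd_mul_dual, hσ, hσ]
    rfl
  have : D (S.res s) = (0 : Derivation Λ k k) (S.res s) := by rw [@Subsingleton.elim _ hk D 0]
  rw [hwd s (σ (S.res s)) (hσ _).symm]
  exact this

/-- A hull exists when `k` has no nonzero derivations over `Λ`. -/
theorem hasHull [TangentStr F] (hk : Subsingleton (Derivation Λ k k))
    (h0 : H0 F) (hbar : Hbar F) (heps : Heps F) (h3 : Hfin F) : HasHull F := by
  obtain ⟨d, θ, hind, hθ⟩ := exists_basis h3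
  obtain ⟨r, S, x, y, π, hπ, hS, hπx, hπy, hext, hval⟩ := exists_free_tangent (Λ := Λ) (k := k) d
  obtain ⟨T⟩ := nonempty_tangentStr (hR_h0 S.res) (hR_heps S.res)
  have := finite_tangent S (T := T)
  let V := TangentSpace (hR S.carrier S.res)
  let E : maximalIdeal S.carrier → (V →ₗ[k] k) := fun a =>
    { toFun := fun φ : HomSet S.carrier S.res (dual Λ k) => TrivSqZeroExt.snd (φ.1 a.1)
      map_add' := fun p q => by
        obtain ⟨z, hz1, hz2⟩ := (cmp_surjective_iff (isFibreProd_dual2 (Λ := Λ) (k := k))).mp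
          (hR_heps S.res _ _ isFibreProd_dual2).2 p q (@Subsingleton.elim _ (hR_h0 S.res).2 _ _)
        have e1 : p + q = TangentSpace.mk ((hR S.carrier S.res).map plus z) := by
          rw [← hz1, ← hz2]; exact T.add_eq z
        rw [e1, ← hz1, ← hz2]
        rfl
      map_smul' := fun c p => by
        have e1 : c • p = TangentSpace.mk ((hR S.carrier S.res).map (scale c) p) := T.smul_eq c p
        rw [e1]
        rfl }
  let W : Submodule k (Module.Dual k V) :=
    { carrier := Set.range E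
      add_mem' := by
        rintro _ _ ⟨a, rfl⟩ ⟨b, rfl⟩
        exact ⟨a + b, LinearMap.ext fun φ => congrArg TrivSqZeroExt.snd
          (map_add (φ : HomSet S.carrier S.res (dual Λ k)).1 a.1 b.1)⟩
      zero_mem' := ⟨0, LinearMap.ext fun φ => congrArg TrivSqZeroExt.snd
        (map_zero (φ : HomSet S.carrier S.res (dual Λ k)).1)⟩
      smul_mem' := by
        rintro c _ ⟨a, rfl⟩
        obtain ⟨s, hs⟩ := S.res_surjective c
        refine ⟨⟨s * a.1, Ideal.mul_mem_left _ _ a.2⟩, LinearMap.ext fun φ => ?_⟩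
        refine (snd_mul_dual φ s a.1).trans ?_
        rw [hs, (CRing.mem_maximalIdeal_iff S a.1).mp a.2, zero_mul, add_zero]
        rfl }
  have hW : W = ⊤ := by
    rw [← Subspace.dualCoannihilator_dualAnnihilator_eq (W := W),
      show W.dualCoannihilator = ⊥ from eq_bot_iff.mpr fun φ hφ => ?_, Submodule.dualAnnihilator_bot]
    let φ' : HomSet S.carrier S.res (dual Λ k) := φ
    obtain ⟨z, hz⟩ : ∃ z : HomSet S.carrier S.res (dual Λ k), ∀ s, TrivSqZeroExt.snd (z.1 s) = 0 :=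
      ⟨HomSet.map baseToDual ⟨S.res, AlgHom.id_comp _⟩, fun s => rfl⟩
    have h1 : φ' = z := HomSet.ext' fun s => TrivSqZeroExt.ext
      ((res_homSet φ' s).trans (res_homSet z s).symm) ((snd_eq_zero_of_maximalIdeal hk φ'
        (fun a ha => (Submodule.mem_dualCoannihilator φ).mp hφ (E ⟨a, ha⟩) ⟨_, rfl⟩) s).trans (hz s).symm)
    have h2 : (0 : V) = z := by
      rw [← zero_smul k (φ : V)]
      refine (T.smul_eq 0 φ).trans (HomSet.ext' fun s => TrivSqZeroExt.ext ?_ ?_)
      · exact (res_homSet φ' s).trans (res_homSet z s).symm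
      · rw [hz]
        exact zero_smul k (TrivSqZeroExt.snd (φ'.1 s))
    exact (Submodule.mem_bot k).mpr (h1.trans h2.symm)
  let coordx : Fin r → Module.Dual k V := fun i =>
    { toFun := fun φ : HomSet S.carrier S.res (dual Λ k) => TrivSqZeroExt.snd (φ.1 (x i))
      map_add' := fun p q => by
        obtain ⟨z, hz1, hz2⟩ := (cmp_surjective_iff (isFibreProd_dual2 (Λ := Λ) (k := k))).mp
          (hR_heps S.res _ _ isFibreProd_dual2).2 p q (@Subsingleton.elim _ (hR_h0 S.res).2 _ _)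
        have e1 : p + q = TangentSpace.mk ((hR S.carrier S.res).map plus z) := by
          rw [← hz1, ← hz2]; exact T.add_eq z
        rw [e1, ← hz1, ← hz2]
        rfl
      map_smul' := fun c p => by
        have e1 : c • p = TangentSpace.mk ((hR S.carrier S.res).map (scale c) p) := T.smul_eq c p
        rw [e1]
        rfl }
  have hmem : ∀ i, coordx i ∈ W := fun i => hW ▸ Submodule.mem_top
  choose a ha using hmem
  have ha' : ∀ i (φ : HomSet S.carrier S.res (dual Λ k)),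
      TrivSqZeroExt.snd (φ.1 (a i).1) = TrivSqZeroExt.snd (φ.1 (x i)) := fun i φ => LinearMap.congr_fun (ha i) φ
  let J₀ : Ideal S.carrier := Ideal.span (Set.range fun i => (a i).1)
  have hJ₀ : J₀ ≤ maximalIdeal S.carrier := Ideal.span_le.mpr (Set.range_subset_iff.mpr fun i => (a i).2)
  let S' := quotCRing S J₀ hJ₀
  let pc : ∀ {A : Art Λ k}, HomSet S'.carrier S'.res A → HomSet S.carrier S.res A := fun φ =>
    ⟨φ.1.comp (quotProj S J₀ hJ₀),
      AlgHom.ext fun s => (res_homSet φ _).trans (DFunLike.congr_fun (res_comp_quotProj S J₀ hJ₀) s)⟩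
  have hpc : ∀ {A : Art Λ k} (φ : HomSet S'.carrier S'.res A) i, (pc φ).1 (a i).1 = 0 := fun φ i => by
    change φ.1 (quotProj S J₀ hJ₀ (a i).1) = 0
    rw [(quotProj_eq_zero_iff S J₀ hJ₀ _).mpr (Ideal.subset_span (Set.mem_range_self i)), map_zero]
  obtain ⟨π', hπ'⟩ := exists_quot_factor S J₀ hJ₀ π (Ideal.span_le.mpr (Set.range_subset_iff.mpr fun i => by
    change π.1 (a i).1 = 0
    refine TrivSqZeroExt.ext ((res_homSet π _).trans ((CRing.mem_maximalIdeal_iff S _).mp (a i).2)) (funext fun j => ?_)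
    exact (ha' i (HomSet.map (enProj j) π)).trans (congrFun (hπx i) j)))
  have hπ's : Function.Surjective π'.1 := fun q => by
    obtain ⟨s, rfl⟩ := hπ q
    exact ⟨quotProj S J₀ hJ₀ s, hπ' s⟩
  have hS' : ∀ ⦃B A : Art Λ k⦄ (μ : B ⟶ A), IsSmallExt μ → ∀ φ : HomSet S'.carrier S'.res A,
      ∃ ψ, HomSet.map μ ψ = φ := by
    intro B A μ hμ φ
    obtain ⟨ψ, hψ⟩ := hS μ hμ.1 (pc φ)
    obtain ⟨-, t, ht0, htm, htk⟩ := (isSmallExt_iff μ).mp hμ
    have hψa : ∀ i, ∃ β : B, ψ.1 (a i).1 = β * t := fun i => by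
      have : ψ.1 (a i).1 ∈ RingHom.ker μ.toAlgHom := by
        change (HomSet.map μ ψ).1 (a i).1 = 0
        rw [hψ, hpc]
      rw [htk] at this
      obtain ⟨β, hβ⟩ := Ideal.mem_span_singleton.mp this
      exact ⟨β, hβ.trans (mul_comm _ _)⟩
    choose β hβ using hψa
    obtain ⟨D, hD⟩ := hval fun i => -B.res (β i)
    obtain ⟨Q, p₁, p₂, hQ⟩ := exists_fibreProd μ μ hμ.1
    obtain ⟨δ, hδ, hδ'⟩ := exists_diff ht0 htm htk hQ
    obtain ⟨z, hz1, hz2⟩ := (cmp_surjective_iff hδ).mp (hR_heps S.res p₁ δ hδ).2 ψ D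
      (@Subsingleton.elim _ (hR_h0 S.res).2 _ _)
    let z : HomSet S.carrier S.res Q := z
    let ψ' : HomSet S.carrier S.res B := HomSet.map p₂ z
    have hψ' : ∀ i, ψ'.1 (a i).1 = 0 := fun i => by
      have e1 : p₁ (z.1 (a i).1) = ψ.1 (a i).1 :=
        congrArg (fun χ : HomSet S.carrier S.res B => χ.1 (a i).1) hz1
      have e2 : δ (z.1 (a i).1) = D.1 (a i).1 :=
        congrArg (fun χ : HomSet S.carrier S.res (dual Λ k) => χ.1 (a i).1) hz2
      have e3 := hδ' (z.1 (a i).1) (-β i) (by rw [e2, ha' i D, hD, map_neg])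
      rw [e1, hβ] at e3
      change p₂ (z.1 (a i).1) = 0
      rw [← sub_add_cancel (p₂ (z.1 (a i).1)) (β i * t), e3, neg_mul, neg_add_cancel]
    obtain ⟨χ, hχ⟩ := exists_quot_factor S J₀ hJ₀ ψ' (Ideal.span_le.mpr (Set.range_subset_iff.mpr hψ'))
    refine ⟨χ, HomSet.ext' fun q => ?_⟩
    obtain ⟨s, rfl⟩ := quotProj_surjective S J₀ hJ₀ q
    change μ (χ.1 (quotProj S J₀ hJ₀ s)) = _
    rw [hχ]
    change μ (p₂ (z.1 s)) = _
    rw [← hQ.w_apply, show p₁ (z.1 s) = ψ.1 s from congrArg (fun χ : HomSet S.carrier S.res B => χ.1 s) hz1]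
    exact congrArg (fun χ : HomSet S.carrier S.res A => χ.1 s) hψ
  obtain ⟨J, hJ, ξ, hξ, π'', hπ'', hξπ⟩ := exists_versal_quotient h0 hbar heps S' hS' π' hπ's θ
    (hθ ▸ Submodule.span_mono Set.subset_union_left)
  let R := quotCRing S' J hJ
  have hfac : ∀ φ : HomSet R.carrier R.res (dual Λ k), ∃ l : (Fin d → k) →ₗ[k] k, φ = HomSet.map (enDual l) π'' := by
    intro φ
    let φ₁ : HomSet S.carrier S.res (dual Λ k) :=
      pc ⟨φ.1.comp (quotProj S' J hJ),
        AlgHom.ext fun s => (res_homSet φ _).trans (DFunLike.congr_fun (res_comp_quotProj S' J hJ) s)⟩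
    let l : (Fin d → k) →ₗ[k] k := Fintype.linearCombination k fun i => TrivSqZeroExt.snd (φ₁.1 (y i))
    refine ⟨l, HomSet.ext' fun q => ?_⟩
    obtain ⟨q, rfl⟩ := quotProj_surjective S' J hJ q
    obtain ⟨s, rfl⟩ := quotProj_surjective S J₀ hJ₀ q
    change φ₁.1 s = enDual l (π''.1 _)
    rw [hπ'', hπ']
    have : φ₁ = HomSet.map (enDual l) π := by
      refine hext _ _ _ (fun i => ?_) fun i => ?_
      · refine TrivSqZeroExt.ext ((res_homSet φ₁ _).trans (res_homSet (HomSet.map (enDual l) π) _).symm) ?_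
        rw [← ha' i φ₁, hpc]
        exact ((congrArg l (hπx i)).trans (map_zero l)).symm
      · refine TrivSqZeroExt.ext ((res_homSet φ₁ _).trans (res_homSet (HomSet.map (enDual l) π) _).symm) ?_
        change _ = l (TrivSqZeroExt.snd (π.1 (y i)))
        rw [hπy, TrivSqZeroExt.snd_inr, Fintype.linearCombination_apply_single, one_smul]
    exact congrArg (fun χ : HomSet S.carrier S.res (dual Λ k) => χ.1 s) this
  refine ⟨⟨R, ξ, hξ, fun φ φ' h => ?_, fun y => ?_⟩⟩
  · obtain ⟨l, rfl⟩ := hfac φ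
    obtain ⟨l', rfl⟩ := hfac φ'
    rw [ξ.natural, ξ.natural, hξπ] at h
    have h' : TangentSpace.mk (F.map (enDual l) (enElt h0 heps θ)) =
        TangentSpace.mk (F.map (enDual l') (enElt h0 heps θ)) := h
    rw [map_enDual_eq_sum h0 heps, map_enDual_eq_sum h0 heps] at h'
    simp only [map_proj_enElt] at h'
    have := Fintype.linearIndependent_iff.mp hind (fun i => l (Pi.single i 1) - l' (Pi.single i 1)) (by
      simp only [sub_smul, Finset.sum_sub_distrib, h', sub_self])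
    rw [show l = l' from LinearMap.pi_ext' fun i => LinearMap.ext_ring (sub_eq_zero.mp (this i))]
  · exact Mor.app_surjective (Mor.ofFamily ξ) hξ
      (fun z => ⟨(hR_h0 R.res).1.some, @Subsingleton.elim _ h0.2 _ _⟩) _ y

end Groth.Agent.ArtFunLib
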