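import Groth.Agent.ArtFunLib.Pro

/-!
# Hulls when the derivations of `k` embed into the tangent space
-/

set_option autoImplicit false
set_option linter.unusedSectionVars false
set_option maxHeartbeats 800000

open CategoryTheory ArtFun ArtFun.Art IsLocalRing

namespace Groth.Agent.ArtFunLib

universe u v

variable {Λ : Type u} {k : Type u} [CommRing Λ] [Field k] [Algebra Λ k] [Module.Finite Λ k] [IsNoetherianRing Λ]
variable {F : Art Λ k ⥤ Type v}

variable (Λ k) in
/-- The augmentation of `k` itself. -/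
abbrev idRes : k →ₐ[Λ] k := AlgHom.id Λ k

omit [Module.Finite Λ k] [IsNoetherianRing Λ] in
/-- The morphism `h_k → F` of an element over `k`. -/
def baseMor (x : F.obj (base Λ k)) : Mor (hR k (idRes Λ k)) F where
  app A σ := F.map (⟨σ.1, σ.2⟩ : base Λ k ⟶ A) x
  natural f σ := by rw [map_map]; rfl

omit [Module.Finite Λ k] [IsNoetherianRing Λ] in
/-- Precomposition with an augmentation. -/
def resMor (S : CRing Λ k) : Mor (hR k (idRes Λ k)) (hR S.carrier S.res) where
  app A σ := homPre S.res (AlgHom.id_comp _) σ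
  natural f σ := HomSet.ext' fun s => rfl

/-- Independent functionals are jointly surjective. -/
theorem pi_surj {K : Type u} [Field K] {V : Type u} [AddCommGroup V] [Module K V] {ι : Type} [Fintype ι] [DecidableEq ι] (a : ι → (V →ₗ[K] K))
    (hind : ∀ g : ι → K, ∑ i, g i • a i = 0 → ∀ i, g i = 0) :
    Function.Surjective fun φ i => a i φ := by
  let f : V →ₗ[K] (ι → K) := LinearMap.pi a
  have h : Function.Surjective f := by
    rw [← LinearMap.dualMap_injective_iff, injective_iff_map_eq_zero]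
    intro l hl
    have h := hind (fun i => l (Pi.single i 1)) (LinearMap.ext fun φ => by
      have h1 : l (f φ) = 0 := LinearMap.congr_fun hl φ
      rw [pi_eq_sum_univ' (f φ), map_sum] at h1
      rw [LinearMap.sum_apply, LinearMap.zero_apply, ← h1]
      exact Finset.sum_congr rfl fun i _ => by rw [map_smul, smul_eq_mul, LinearMap.smul_apply, smul_eq_mul, mul_comm]; rfl)
    exact LinearMap.pi_ext' fun i => LinearMap.ext_ring (h i)
  exact h

/-- Linear algebra: equations for a subspace taken from a given space of functionals. -/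
theorem exists_equations {K : Type u} [Field K] {V : Type u} [AddCommGroup V] [Module K V] [Module.Finite K V]
    (V' : Submodule K V) (W : Submodule K (Module.Dual K V)) (h : W.dualCoannihilator ≤ V') :
    ∃ (q : ℕ) (a : Fin q → Module.Dual K V), (∀ i, a i ∈ W) ∧ (∀ φ, φ ∈ V' ↔ ∀ i, a i φ = 0) ∧
      Function.Surjective fun φ i => a i φ := by
  have hAnn : V'.dualAnnihilator ≤ W :=
    (Submodule.dualAnnihilator_anti h).trans_eq Subspace.dualCoannihilator_dualAnnihilator_eq
  have : Module.Free K V'.dualAnnihilator := Module.Free.of_equiv (Submodule.dualQuotEquivDualAnnihilator V')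
  let b := Module.finBasis K V'.dualAnnihilator
  refine ⟨_, fun i => (b i : Module.Dual K V), fun i => hAnn (b i).2, fun φ => ⟨fun hφ i =>
    (Submodule.mem_dualAnnihilator _).mp (b i).2 φ hφ, fun hφ => ?_⟩, ?_⟩
  · rw [← Subspace.dualAnnihilator_dualCoannihilator_eq (W := V'), Submodule.mem_dualCoannihilator]
    intro l hl
    have hspan : (⟨l, hl⟩ : V'.dualAnnihilator) ∈ Submodule.span K (Set.range b) := b.span_eq ▸ Submodule.mem_top
    obtain ⟨c, hc⟩ := (Submodule.mem_span_range_iff_exists_fun _).mp hspan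
    have hl' : l = ∑ i, c i • (b i : Module.Dual K V) := by
      have := congrArg Subtype.val hc
      simp only [Submodule.coe_sum, Submodule.coe_smul_of_tower] at this
      exact this.symm
    rw [hl', LinearMap.sum_apply]
    exact Finset.sum_eq_zero fun i _ => by rw [LinearMap.smul_apply, hφ i, smul_zero]
  · refine pi_surj (fun i => (b i : Module.Dual K V)) fun g hg => ?_
    have hz : ∑ i, g i • b i = 0 := Subtype.ext (by simpa [Submodule.coe_sum] using hg)
    intro i
    have := congrArg (fun z => b.repr z i) hz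
    simpa [Module.Basis.repr_sum_self, Finsupp.single_apply, Finset.sum_ite_eq] using this

/-- A hull exists when derivations of `k` embed into the tangent space. -/
theorem hasHull_of_injective [TF : TangentStr F] (h0 : H0 F) (hbar : Hbar F) (heps : Heps F) (h3 : Hfin F)
    (hinj : Function.Injective fun σ : base Λ k ⟶ dual Λ k => F.map σ h0.1.some) : HasHull F := by
  classical
  have : Module.Finite k (TangentSpace F) := h3
  obtain ⟨Tk⟩ := nonempty_tangentStr (hR_h0 (idRes Λ k)) (hR_heps (idRes Λ k))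
  obtain ⟨f0, hf0⟩ := Mor.exists_tangent_linear (TG := Tk) (hR_h0 (idRes Λ k)) (hR_heps (idRes Λ k))
    (baseMor h0.1.some)
  have hf0inj : Function.Injective f0 := fun σ τ h => by
    rw [hf0, hf0] at h
    let σ' : HomSet k (idRes Λ k) (dual Λ k) := σ
    let τ' : HomSet k (idRes Λ k) (dual Λ k) := τ
    have := hinj (a₁ := ⟨σ'.1, σ'.2⟩) (a₂ := ⟨τ'.1, τ'.2⟩) h
    exact (Subtype.ext (congrArg Art.Hom.toAlgHom this) : σ' = τ')
  obtain ⟨Q, hQ⟩ := exists_isCompl (LinearMap.range f0)
  let bQ := Module.finBasis k Q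
  let d := Module.finrank k Q
  let θ : Fin d → F.obj (dual Λ k) := fun i => (bQ i : TangentSpace F)
  obtain ⟨r, S, xx, yy, π, hπ, hS, -, hπy, -, -⟩ := exists_free_tangent (Λ := Λ) (k := k) d
  obtain ⟨T⟩ := nonempty_tangentStr (hR_h0 S.res) (hR_heps S.res)
  have := finite_tangent S (T := T)
  let V := TangentSpace (hR S.carrier S.res)
  obtain ⟨j, hj⟩ := Mor.exists_tangent_linear (TG := Tk) (hR_h0 (idRes Λ k)) (hR_heps (idRes Λ k)) (resMor S)
  let V' : Submodule k V := LinearMap.range j ⊔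
    Submodule.span k (Set.range fun i => TangentSpace.mk (F := hR S.carrier S.res) (HomSet.map (enProj i) π))
  let E : maximalIdeal S.carrier → Module.Dual k V := fun a =>
    { toFun := fun φ : HomSet S.carrier S.res (dual Λ k) => TrivSqZeroExt.snd (φ.1 a.1)
      map_add' := fun p q => by
        obtain ⟨z, hz1, hz2⟩ := (cmp_surjective_iff (isFibreProd_dual2 (Λ := Λ) (k := k))).mp
          (hR_heps S.res _ _ isFibreProd_dual2).2 p q (@Subsingleton.elim _ (hR_h0 S.res).2 _ _)
        have e1 : p + q = TangentSpace.mk ((hR S.carrier S.res).map plus z) := by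
          rw [← hz1, ← hz2]; exact T.add_eq z
        rw [e1, ← hz1, ← hz2]
        rfl
      map_smul' := fun c p => by
        have e1 : c • p = TangentSpace.mk ((hR S.carrier S.res).map (scale c) p) := T.smul_eq c p
        rw [e1]
        rfl }
  let W : Submodule k (Module.Dual k V) :=
    { carrier := Set.range E
      add_mem' := by
        rintro _ _ ⟨a, rfl⟩ ⟨b, rfl⟩
        exact ⟨a + b, LinearMap.ext fun φ => congrArg TrivSqZeroExt.snd
          (map_add (φ : HomSet S.carrier S.res (dual Λ k)).1 a.1 b.1)⟩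
      zero_mem' := ⟨0, LinearMap.ext fun φ => congrArg TrivSqZeroExt.snd
        (map_zero (φ : HomSet S.carrier S.res (dual Λ k)).1)⟩
      smul_mem' := by
        rintro c _ ⟨a, rfl⟩
        obtain ⟨s, hs⟩ := S.res_surjective c
        refine ⟨⟨s * a.1, Ideal.mul_mem_left _ _ a.2⟩, LinearMap.ext fun φ => ?_⟩
        refine (snd_mul_dual φ s a.1).trans ?_
        rw [hs, (CRing.mem_maximalIdeal_iff S a.1).mp a.2, zero_mul, add_zero]
        rfl }
  have hW : W.dualCoannihilator ≤ V' := fun φ hφ => by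
    let φ' : HomSet S.carrier S.res (dual Λ k) := φ
    have hker : ∀ a ∈ RingHom.ker S.res, φ'.1 a = 0 := fun a ha => by
      have ha' : a ∈ maximalIdeal S.carrier := (CRing.mem_maximalIdeal_iff S a).mpr ha
      exact TrivSqZeroExt.ext ((res_homSet φ' a).trans ha)
        ((Submodule.mem_dualCoannihilator φ).mp hφ (E ⟨a, ha'⟩) ⟨_, rfl⟩)
    let e := Ideal.quotientKerAlgEquivOfSurjective S.res_surjective
    let σ : HomSet k (idRes Λ k) (dual Λ k) := ⟨(Ideal.Quotient.liftₐ (RingHom.ker S.res) φ'.1 hker).comp e.symm.toAlgHom,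
      AlgHom.ext fun c => by
        obtain ⟨s, rfl⟩ := S.res_surjective c
        have : e.symm (S.res s) = Ideal.Quotient.mk _ s := e.symm_apply_eq.mpr rfl
        change (dual Λ k).res (Ideal.Quotient.liftₐ _ φ'.1 hker (e.symm (S.res s))) = S.res s
        rw [this]
        exact res_homSet φ' s⟩
    refine Submodule.mem_sup_left ⟨σ, ?_⟩
    rw [hj]
    refine (HomSet.ext' fun s => ?_ : (resMor S).app _ σ = φ')
    have : e.symm (S.res s) = Ideal.Quotient.mk _ s := e.symm_apply_eq.mpr rfl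
    change Ideal.Quotient.liftₐ _ φ'.1 hker (e.symm (S.res s)) = φ'.1 s
    rw [this]
    rfl
  obtain ⟨q, bA, hbW, hbV', hsurjA⟩ := exists_equations (K := k) (V := V) V' W hW
  choose a ha using hbW
  have ha' : ∀ i (φ : HomSet S.carrier S.res (dual Λ k)),
      TrivSqZeroExt.snd (φ.1 (a i).1) = bA i φ := fun i φ => LinearMap.congr_fun (ha i) φ
  have hval : ∀ v : Fin q → k, ∃ φ : V, ∀ i, bA i φ = v i := fun v =>
    ⟨(hsurjA v).choose, fun i => congrFun (hsurjA v).choose_spec i⟩
  let J₀ : Ideal S.carrier := Ideal.span (Set.range fun i => (a i).1)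
  have hJ₀ : J₀ ≤ maximalIdeal S.carrier := Ideal.span_le.mpr (Set.range_subset_iff.mpr fun i => (a i).2)
  let S' := quotCRing S J₀ hJ₀
  let pr := quotProj S J₀ hJ₀
  have hpr : S'.res.comp pr = S.res := res_comp_quotProj S J₀ hJ₀
  have hpc : ∀ {A : Art Λ k} (φ : HomSet S'.carrier S'.res A) i, (homPre pr hpr φ).1 (a i).1 = 0 := fun φ i => by
    change φ.1 (quotProj S J₀ hJ₀ (a i).1) = 0
    rw [(quotProj_eq_zero_iff S J₀ hJ₀ _).mpr (Ideal.subset_span (Set.mem_range_self i)), map_zero]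
  obtain ⟨π', hπ'⟩ := exists_quot_factor S J₀ hJ₀ π (Ideal.span_le.mpr (Set.range_subset_iff.mpr fun i => by
    change π.1 (a i).1 = 0
    refine TrivSqZeroExt.ext ((res_homSet π _).trans ((CRing.mem_maximalIdeal_iff S _).mp (a i).2)) (funext fun l => ?_)
    exact (ha' i (HomSet.map (enProj l) π)).trans
      ((hbV' _).mp (Submodule.mem_sup_right (Submodule.subset_span ⟨l, rfl⟩)) i)))
  have hπ's : Function.Surjective π'.1 := fun q => by
    obtain ⟨s, rfl⟩ := hπ q
    exact ⟨quotProj S J₀ hJ₀ s, hπ' s⟩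
  have hS' : ∀ ⦃B A : Art Λ k⦄ (μ : B ⟶ A), IsSmallExt μ → ∀ φ : HomSet S'.carrier S'.res A,
      ∃ ψ, HomSet.map μ ψ = φ := by
    intro B A μ hμ φ
    obtain ⟨ψ, hψ⟩ := hS μ hμ.1 (homPre pr hpr φ)
    obtain ⟨-, t, ht0, htm, htk⟩ := (isSmallExt_iff μ).mp hμ
    have hψa : ∀ i, ∃ β : B, ψ.1 (a i).1 = β * t := fun i => by
      have : ψ.1 (a i).1 ∈ RingHom.ker μ.toAlgHom := by
        change (HomSet.map μ ψ).1 (a i).1 = 0
        rw [hψ, hpc]
      rw [htk] at this
      obtain ⟨β, hβ⟩ := Ideal.mem_span_singleton.mp this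
      exact ⟨β, hβ.trans (mul_comm _ _)⟩
    choose β hβ using hψa
    obtain ⟨D, hD⟩ := hval fun i => -B.res (β i)
    let D : HomSet S.carrier S.res (dual Λ k) := D
    obtain ⟨Q, p₁, p₂, hQ⟩ := exists_fibreProd μ μ hμ.1
    obtain ⟨δ, hδ, hδ'⟩ := exists_diff ht0 htm htk hQ
    obtain ⟨z, hz1, hz2⟩ := (cmp_surjective_iff hδ).mp (hR_heps S.res p₁ δ hδ).2 ψ D
      (@Subsingleton.elim _ (hR_h0 S.res).2 _ _)
    let z : HomSet S.carrier S.res Q := z
    let ψ' : HomSet S.carrier S.res B := HomSet.map p₂ z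
    have hψ' : ∀ i, ψ'.1 (a i).1 = 0 := fun i => by
      have e1 : p₁ (z.1 (a i).1) = ψ.1 (a i).1 :=
        congrArg (fun χ : HomSet S.carrier S.res B => χ.1 (a i).1) hz1
      have e2 : δ (z.1 (a i).1) = D.1 (a i).1 :=
        congrArg (fun χ : HomSet S.carrier S.res (dual Λ k) => χ.1 (a i).1) hz2
      have e3 := hδ' (z.1 (a i).1) (-β i) (by rw [e2, ha' i D, hD, map_neg])
      rw [e1, hβ] at e3
      change p₂ (z.1 (a i).1) = 0
      rw [← sub_add_cancel (p₂ (z.1 (a i).1)) (β i * t), e3, neg_mul, neg_add_cancel]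
    obtain ⟨χ, hχ⟩ := exists_quot_factor S J₀ hJ₀ ψ' (Ideal.span_le.mpr (Set.range_subset_iff.mpr hψ'))
    refine ⟨χ, HomSet.ext' fun q => ?_⟩
    obtain ⟨s, rfl⟩ := quotProj_surjective S J₀ hJ₀ q
    change μ (χ.1 (quotProj S J₀ hJ₀ s)) = _
    rw [hχ]
    change μ (p₂ (z.1 s)) = _
    rw [← hQ.w_apply, show p₁ (z.1 s) = ψ.1 s from congrArg (fun χ : HomSet S.carrier S.res B => χ.1 s) hz1]
    exact congrArg (fun χ : HomSet S.carrier S.res A => χ.1 s) hψ
  obtain ⟨J, hJ, ξ, hξ, π'', hπ'', hξπ⟩ := exists_versal_quotient h0 hbar heps S' hS' π' hπ's θ (by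
    rw [← hQ.sup_eq_top]
    refine sup_le ?_ (fun q hq => ?_)
    · rintro _ ⟨σ, rfl⟩
      rw [hf0]
      exact Submodule.subset_span (Or.inr ⟨_, rfl⟩)
    · have h1 := Submodule.mem_map_of_mem (f := Q.subtype)
        (bQ.span_eq ▸ Submodule.mem_top : (⟨q, hq⟩ : Q) ∈ Submodule.span k (Set.range bQ))
      rw [Submodule.map_span, ← Set.range_comp] at h1
      exact Submodule.span_mono Set.subset_union_left h1)
  let R := quotCRing S' J hJ
  let pR : S.carrier →ₐ[Λ] R.carrier := (quotProj S' J hJ).comp pr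
  have hpR : R.res.comp pR = S.res := by rw [← AlgHom.comp_assoc, res_comp_quotProj, hpr]
  let P : Mor (hR R.carrier R.res) (hR S.carrier S.res) :=
    { app := fun A φ => homPre pR hpR φ, natural := fun f φ => HomSet.ext' fun s => rfl }
  obtain ⟨TR⟩ := nonempty_tangentStr (hR_h0 R.res) (hR_heps R.res)
  obtain ⟨LP, hLP⟩ := Mor.exists_tangent_linear (TG := TR) (TF := T) (hR_h0 R.res) (hR_heps R.res) P
  obtain ⟨Lξ, hLξ⟩ := Mor.exists_tangent_linear (TG := TR) (TF := TF) (hR_h0 R.res) (hR_heps R.res) (Mor.ofFamily ξ)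
  obtain ⟨jR, hjR⟩ := Mor.exists_tangent_linear (TG := Tk) (TF := TR) (hR_h0 (idRes Λ k)) (hR_heps (idRes Λ k))
    (resMor R)
  have hLPinj : Function.Injective LP := fun φ ψ h => by
    rw [hLP, hLP] at h
    refine HomSet.ext' fun q => ?_
    obtain ⟨q, rfl⟩ := quotProj_surjective S' J hJ q
    obtain ⟨s, rfl⟩ := quotProj_surjective S J₀ hJ₀ q
    exact congrArg (fun χ : HomSet S.carrier S.res (dual Λ k) => χ.1 s) h
  let e : Fin d → TangentSpace (hR R.carrier R.res) := fun i => TangentSpace.mk (HomSet.map (enProj i) π'')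
  have hdecomp : ∀ φ : TangentSpace (hR R.carrier R.res), ∃ (σ : TangentSpace (hR k (idRes Λ k))) (c : Fin d → k), φ = jR σ + ∑ i, c i • e i := by
    intro φ
    have hmem : LP φ ∈ V' := by
      refine (hbV' _).mpr fun i => ?_
      rw [hLP]
      let φ' : HomSet R.carrier R.res (dual Λ k) := φ
      have h0' : (homPre pR hpR φ').1 (a i).1 = 0 :=
        hpc (homPre (quotProj S' J hJ) (res_comp_quotProj S' J hJ) φ') i
      have h2 := ha' i (homPre pR hpR φ')
      rw [h0'] at h2
      exact h2.symm.trans rfl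
    obtain ⟨u, ⟨σ, rfl⟩, w, hw, huw⟩ := Submodule.mem_sup.mp hmem
    obtain ⟨c, rfl⟩ := (Submodule.mem_span_range_iff_exists_fun _).mp hw
    refine ⟨σ, c, hLPinj ?_⟩
    rw [← huw, map_add, map_sum]
    refine congrArg₂ (· + ·) ?_ (Finset.sum_congr rfl fun i _ => ?_)
    · rw [hLP, hjR, hj]
      exact HomSet.ext' fun s => (congrArg σ.1 (DFunLike.congr_fun hpR s)).symm
    · rw [map_smul, hLP]
      refine congrArg (c i • ·) (HomSet.ext' fun s => ?_)
      exact congrArg (enProj i).toAlgHom ((hπ'' _).trans (hπ' s)).symm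
  refine ⟨⟨R, ξ, hξ, fun φ ψ h => ?_, fun y => ?_⟩⟩
  · let φt : TangentSpace (hR R.carrier R.res) := φ
    let ψt : TangentSpace (hR R.carrier R.res) := ψ
    have h' : Lξ φt = Lξ ψt := by rw [hLξ, hLξ]; exact h
    rw [← sub_eq_zero, ← map_sub] at h'
    change φt = ψt
    obtain ⟨σ, c, hsc⟩ := hdecomp (φt - ψt)
    rw [hsc, map_add, map_sum] at h'
    have e1 : Lξ (jR σ) = f0 σ := by
      rw [hjR, hLξ, hf0]
      let σ' : HomSet k (idRes Λ k) (dual Λ k) := σ
      refine (congrArg (ξ.app _) (HomSet.ext' fun q => rfl :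
        (resMor R).app _ σ' = HomSet.map (⟨σ'.1, σ'.2⟩ : base Λ k ⟶ dual Λ k) ⟨R.res, AlgHom.id_comp _⟩)).trans ?_
      rw [ξ.natural]
      exact congrArg _ (@Subsingleton.elim _ h0.2 _ _)
    have e2 : ∀ i, Lξ (e i) = (bQ i : TangentSpace F) := fun i => by
      rw [hLξ]
      change ξ.app _ (HomSet.map (enProj i) π'') = θ i
      rw [ξ.natural, hξπ, map_proj_enElt]
    simp only [map_smul, e1, e2] at h'
    have hq : ∑ i, c i • (bQ i : TangentSpace F) ∈ Q := sum_mem fun i _ => Submodule.smul_mem _ _ (bQ i).2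
    have hf0σ : f0 σ = 0 := (Submodule.mem_bot k).mp (hQ.inf_eq_bot ▸ Submodule.mem_inf.mpr
      ⟨⟨σ, rfl⟩, (eq_neg_of_add_eq_zero_left h') ▸ neg_mem hq⟩)
    have hc0 := Fintype.linearIndependent_iff.mp bQ.linearIndependent c (Subtype.ext (by
      rw [Submodule.coe_sum]
      simpa [hf0σ] using h'))
    rw [← map_zero f0] at hf0σ
    exact sub_eq_zero.mp (show φt - ψt = 0 by
      rw [hsc, hf0inj hf0σ, map_zero, zero_add]
      exact Finset.sum_eq_zero fun i _ => by rw [hc0 i, zero_smul])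
  · exact Mor.app_surjective (Mor.ofFamily ξ) hξ
      (fun z => ⟨(hR_h0 R.res).1.some, @Subsingleton.elim _ h0.2 _ _⟩) _ y

/-- The criterion for pro-representability, general residue field. -/
theorem prorepresentable_of_injective [TangentStr F] (h0 : H0 F) (hbar : Hbar F) (heps : Heps F) (h3 : Hfin F)
    (hsq : HSq F) (hinj : Function.Injective fun σ : base Λ k ⟶ dual Λ k => F.map σ h0.1.some) :
    IsProrepresentable F := by
  obtain ⟨P⟩ := hasHull_of_injective h0 hbar heps h3 hinj
  exact ⟨⟨P.ring, P.family, fun A => ⟨Mor.app_injective (Mor.ofFamily P.family) h0 hsq (hR_h0 _) (hR_hbar _)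
    (hR_heps _) P.miniversal.2.1 A, surjective_of_versal _ P.miniversal.1 h0 A⟩⟩⟩

end Groth.Agent.ArtFunLib
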