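import Mathlib

/-!
# Linear functors on finite dimensional vector spaces
-/

universe u

open CategoryTheory MonoidalCategory TensorProduct

noncomputable section

namespace Groth.Agent.ArtFunLib

variable (K : Type u) [Field K]

/-- The morphism `1 ↦ v`. -/
def spanHom (V : FGModuleCat.{u} K) (v : V.obj) : FGModuleCat.of K K ⟶ V :=
  ObjectProperty.homMk (ModuleCat.ofHom (LinearMap.toSpanSingleton K V.obj v))

theorem spanHom_add (V : FGModuleCat.{u} K) (v w : V.obj) :
    spanHom K V (v + w) = spanHom K V v + spanHom K V w := by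
  apply FGModuleCat.hom_ext
  refine LinearMap.ext_ring ?_
  show (1 : K) • (v + w) = (1 : K) • v + (1 : K) • w
  exact smul_add _ _ _

theorem spanHom_smul (V : FGModuleCat.{u} K) (c : K) (v : V.obj) :
    spanHom K V (c • v) = c • spanHom K V v := by
  apply FGModuleCat.hom_ext
  refine LinearMap.ext_ring ?_
  show (1 : K) • c • v = c • (1 : K) • v
  exact smul_comm _ _ _

theorem spanHom_comp {V W : FGModuleCat.{u} K} (v : V.obj) (f : V ⟶ W) :
    spanHom K V v ≫ f = spanHom K W (f.hom.hom v) := by
  apply FGModuleCat.hom_ext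
  exact LinearMap.ext_ring (by simp [spanHom])

variable (L : FGModuleCat.{u} K ⥤ ModuleCat.{u} K) [L.Additive] [Functor.Linear K L]

/-- The comparison map. -/
def cmpMap (V : FGModuleCat.{u} K) : L.obj (FGModuleCat.of K K) ⊗[K] V.obj →ₗ[K] L.obj V :=
  TensorProduct.lift (LinearMap.mk₂ K (fun x v => (L.map (spanHom K V v)).hom x)
    (fun x y v => map_add _ x y) (fun c x v => map_smul _ c x)
    (fun x v w => by simp [spanHom_add, L.map_add])
    (fun c x v => by simp [spanHom_smul]))

theorem cmpMap_tmul (V : FGModuleCat.{u} K) (x : L.obj (FGModuleCat.of K K)) (v : V.obj) :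
    cmpMap K L V (x ⊗ₜ v) = (L.map (spanHom K V v)).hom x := by
  rw [cmpMap, TensorProduct.lift.tmul]
  rfl

theorem bijective_cmpMap (V : FGModuleCat.{u} K) : Function.Bijective (cmpMap K L V) := by
  classical
  let b := Module.finBasis K V.obj
  let q (i) : V ⟶ FGModuleCat.of K K := ObjectProperty.homMk (ModuleCat.ofHom (b.coord i))
  let g : L.obj V →ₗ[K] L.obj (FGModuleCat.of K K) ⊗[K] V.obj :=
    ∑ i, ((TensorProduct.mk K _ V.obj).flip (b i)).comp (L.map (q i)).hom
  have hg : ∀ y, g y = ∑ i, (L.map (q i)).hom y ⊗ₜ b i := fun y => by simp [g]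
  have h1 : ∀ z, g (cmpMap K L V z) = z := fun z => by
    induction z using TensorProduct.induction_on with
    | zero => simp
    | add a c ha hc => simp [ha, hc]
    | tmul x v =>
      rw [hg, cmpMap_tmul]
      conv_rhs => rw [← b.sum_repr v, TensorProduct.tmul_sum]
      refine Finset.sum_congr rfl fun i _ => ?_
      have : spanHom K V v ≫ q i = b.repr v i • 𝟙 _ := by
        apply FGModuleCat.hom_ext
        refine LinearMap.ext_ring ?_
        show b.coord i ((1 : K) • v) = b.repr v i • (1 : K)
        simp
      rw [← LinearMap.comp_apply, ← ModuleCat.hom_comp, ← L.map_comp, this, L.map_smul,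
        CategoryTheory.Functor.map_id]
      simp [TensorProduct.smul_tmul]
  have h2 : ∀ y, cmpMap K L V (g y) = y := fun y => by
    have : ∑ i, q i ≫ spanHom K V (b i) = 𝟙 V := by
      apply (ModuleCat.isFG.{u} K).ι.map_injective
      rw [Functor.map_sum]
      ext w
      simp [q, spanHom, ModuleCat.hom_sum, b.sum_repr w]
    have h := congrArg (fun m => (L.map m).hom y) this
    simp [L.map_sum] at h
    rw [hg, map_sum]
    simp only [cmpMap_tmul]
    exact h
  exact ⟨Function.LeftInverse.injective h1, Function.RightInverse.surjective h2⟩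

theorem nonempty_iso_tensorLeft :
    Nonempty (L ≅ (ModuleCat.isFG.{u} K).ι ⋙ tensorLeft (L.obj (FGModuleCat.of K K))) := by
  refine ⟨(NatIso.ofComponents
    (fun V => (LinearEquiv.ofBijective _ (bijective_cmpMap K L V)).toModuleIso) ?_).symm⟩
  intro V W f
  ext z
  change cmpMap K L W (LinearMap.lTensor _ f.hom.hom z) = (L.map f).hom (cmpMap K L V z)
  induction z using TensorProduct.induction_on with
  | zero => simp
  | add a c ha hc => simp [ha, hc]
  | tmul x v =>
    rw [LinearMap.lTensor_tmul, cmpMap_tmul, cmpMap_tmul, ← spanHom_comp, L.map_comp]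
    rfl

end Groth.Agent.ArtFunLib
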