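import Groth.Agent.ArtFunLib.Pro

/-!
# Square-zero objects, cotangent criteria, fibrewise lemmas
-/

set_option autoImplicit false
set_option linter.unusedSectionVars false

open CategoryTheory ArtFun ArtFun.Art IsLocalRing

namespace Groth.Agent.ArtFunLib

universe u v

variable {Λ : Type u} {k : Type u} [CommRing Λ] [Field k] [Algebra Λ k]
variable {F : Art Λ k ⥤ Type v}

/-- An object whose maximal ideal squares to zero and which has a section from `k` is some `k ⊕ kⁿ`. -/
theorem exists_en_iso (E : Art Λ k) (σ : base Λ k ⟶ E) (hE : maximalIdeal E ^ 2 = ⊥) :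
    ∃ (n : ℕ) (e : En Λ k n ⟶ E), IsIso e := by
  let σa : k →ₐ[Λ] E := σ.toAlgHom
  have hσ : ∀ c : k, E.res (σa c) = c := fun c => res_app σ c
  let _ : Algebra k E := σa.toRingHom.toAlgebra
  have hsq : ∀ a b : E, a ∈ maximalIdeal E → b ∈ maximalIdeal E → a * b = 0 := fun a b ha hb => by
    have h := Ideal.mul_mem_mul ha hb
    rwa [← sq, hE, Ideal.mem_bot] at h
  obtain ⟨s, hs⟩ := IsNoetherian.noetherian (maximalIdeal E)
  let Mk : Submodule k E := (maximalIdeal E).restrictScalars k
  have hfg : Mk.FG := ⟨s, by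
    refine le_antisymm (Submodule.span_le.mpr fun x hx => show x ∈ maximalIdeal E from hs ▸ Submodule.subset_span hx)
      fun x hx => ?_
    have hx' : x ∈ Submodule.span E (s : Set E) := hs.symm ▸ hx
    obtain ⟨c, -, hc⟩ := Submodule.mem_span_finset.mp hx'
    rw [← hc]
    refine sum_mem fun j hj => ?_
    have hjm : j ∈ maximalIdeal E := hs ▸ Submodule.subset_span hj
    have e1 : c j • j = E.res (c j) • j := by
      rw [smul_eq_mul, Algebra.smul_def, ← sub_eq_zero, ← sub_mul]
      exact hsq _ _ (by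
        rw [mem_maximalIdeal_iff, map_sub]
        exact sub_eq_zero.mpr (hσ (E.res (c j))).symm) hjm
    rw [e1]
    exact Submodule.smul_mem _ _ (Submodule.subset_span hj)⟩
  have : Module.Finite k Mk := Module.Finite.iff_fg.mpr hfg
  let b := Module.finBasis k Mk
  let ι : (Fin (Module.finrank k Mk) → k) →ₗ[k] E := Mk.subtype ∘ₗ b.equivFun.symm.toLinearMap
  have hι : ∀ v, ι v ∈ maximalIdeal E := fun v => (b.equivFun.symm v).2
  let f : TrivSqZeroExt k (Fin (Module.finrank k Mk) → k) →ₐ[Λ] E :=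
    { toFun := fun x => σa x.fst + ι x.snd
      map_one' := by simp [map_zero]
      map_zero' := by simp
      map_add' := fun x y => by
        rw [TrivSqZeroExt.fst_add, TrivSqZeroExt.snd_add, map_add, map_add]; abel
      map_mul' := fun x y => by
        rw [TrivSqZeroExt.fst_mul, TrivSqZeroExt.snd_mul, op_smul_eq_smul, map_add, map_smul, map_smul, map_mul,
          Algebra.smul_def, Algebra.smul_def]
        have h0 := hsq _ _ (hι x.snd) (hι y.snd)
        change σa x.fst * σa y.fst + (σa x.fst * ι y.snd + σa y.fst * ι x.snd) =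
          (σa x.fst + ι x.snd) * (σa y.fst + ι y.snd)
        linear_combination -h0
      commutes' := fun r => by
        rw [TrivSqZeroExt.algebraMap_eq_inl', TrivSqZeroExt.fst_inl, TrivSqZeroExt.snd_inl, map_zero, add_zero,
          AlgHom.commutes] }
  have hres : E.res.comp f = TrivSqZeroExt.fstHom Λ k (Fin (Module.finrank k Mk) → k) := AlgHom.ext fun x => by
    change E.res (σa x.fst + ι x.snd) = x.fst
    rw [map_add, hσ, (mem_maximalIdeal_iff E _).mp (hι _), add_zero]
  refine ⟨_, ⟨f, hres⟩, isIso_of_bijective _ ⟨fun x y h => ?_, fun a => ?_⟩⟩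
  · have h1 : x.fst = y.fst := by
      have := congrArg E.res (h : f x = f y)
      change (E.res.comp f) x = (E.res.comp f) y at this
      rw [hres] at this
      exact this
    have h2 : ι x.snd = ι y.snd := by
      have h' : σa x.fst + ι x.snd = σa y.fst + ι y.snd := h
      rwa [h1, add_left_cancel_iff] at h'
    exact TrivSqZeroExt.ext h1 (b.equivFun.symm.injective (Subtype.ext h2))
  · have ha : a - σa (E.res a) ∈ maximalIdeal E := by
      rw [mem_maximalIdeal_iff, map_sub, hσ, sub_self]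
    refine ⟨((E.res a, b.equivFun ⟨_, ha⟩) : TrivSqZeroExt k _), ?_⟩
    change σa (E.res a) + (b.equivFun.symm (b.equivFun ⟨_, ha⟩) : E) = a
    rw [LinearEquiv.symm_apply_apply, add_sub_cancel]

/-- Maps into `k ⊕ kⁿ` are determined by the coordinates. -/
lemma en_ext {X : Type u} [CommRing X] [Algebra Λ X] {resX : X →ₐ[Λ] k} {n : ℕ}
    {φ ψ : HomSet X resX (En Λ k n)} (h : ∀ i, HomSet.map (enProj i) φ = HomSet.map (enProj i) ψ) : φ = ψ :=
  HomSet.ext' fun x => TrivSqZeroExt.ext ((res_homSet φ x).trans (res_homSet ψ x).symm) (funext fun i =>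
    congrArg (fun χ : HomSet X resX (dual Λ k) => TrivSqZeroExt.snd (χ.1 x)) (h i))

/-- A family injective on tangent vectors is injective on split square-zero objects. -/
theorem injective_of_sqZero {X : Type u} [CommRing X] [Algebra Λ X] {resX : X →ₐ[Λ] k} (ξ : Family X resX F)
    (hξ : Function.Injective (ξ.app (dual Λ k))) (E : Art Λ k) (σ : base Λ k ⟶ E) (hE : maximalIdeal E ^ 2 = ⊥) :
    Function.Injective (ξ.app E) := by
  obtain ⟨n, e, he⟩ := exists_en_iso E σ hE
  intro φ ψ h
  have h' : HomSet.map (inv e) φ = HomSet.map (inv e) ψ := en_ext fun i => hξ (by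
    rw [ξ.natural, ξ.natural, ξ.natural, ξ.natural, h])
  refine HomSet.ext' fun x => (bijective_of_isIso (inv e)).1 ?_
  exact congrArg (fun χ : HomSet X resX (En Λ k n) => χ.1 x) h'

section Finite

variable [Module.Finite Λ k]

/-- `(S2)` for all `k ⊕ kⁿ`. -/
theorem bijective_cmp_en (heps : Heps F) : ∀ (n : ℕ) {B A : Art Λ k} (p' : B ⟶ A) (p'' : B ⟶ En Λ k n)
    (h : IsFibreProd p' p'' (toBase A) (toBase (En Λ k n))), Function.Bijective (cmp F h) := by
  intro n
  induction n with
  | zero =>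
    intro B A p' p'' h
    have := isIso_toBase_en_zero (Λ := Λ) (k := k)
    exact cmp_bijective_of_isIso h
  | succ n ih =>
    intro B A p' p'' h
    let l : En Λ k (n + 1) ⟶ En Λ k n := enMap (LinearMap.funLeft k k Fin.succ)
    let j : En Λ k (n + 1) ⟶ dual Λ k := enProj 0
    have hE := isFibreProd_en (Λ := Λ) (k := k) n
    obtain ⟨B', q', q'', hq⟩ := exists_fibreProd (toBase A) (toBase (En Λ k n)) (En Λ k n).res_surjective
    obtain ⟨u, hu1, hu2⟩ := exists_lift hq p' (p'' ≫ l) (by rw [eq_toBase (p' ≫ _), eq_toBase ((_ ≫ _) ≫ _)])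
    have hu : IsFibreProd u (p'' ≫ j) (toBase B') (toBase (dual Λ k)) := by
      refine ⟨by rw [eq_toBase (u ≫ _), eq_toBase ((_ ≫ _) ≫ _)], fun x y e1 e2 => ?_, fun b c e => ?_⟩
      · refine h.inj x y ?_ (hE.inj _ _ ?_ e2)
        · rw [← hu1]; exact congrArg q'.toAlgHom e1
        · change (p'' ≫ l) x = (p'' ≫ l) y
          rw [← hu2]; exact congrArg q''.toAlgHom e1
      · have e' : B'.res b = TrivSqZeroExt.fst c := e
        obtain ⟨v, hv1, hv2⟩ := hE.surj (q'' b) c ((res_app q'' b).trans e')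
        obtain ⟨x, hx1, hx2⟩ := h.surj (q' b) v (by
          change A.res (q' b) = (En Λ k (n + 1)).res v
          rw [res_app, ← res_app l v, hv1, res_app])
        refine ⟨x, hq.inj _ _ ?_ ?_, ?_⟩
        · change (u ≫ q') x = q' b
          rw [hu1, hx1]
        · change (u ≫ q'') x = q'' b
          rw [hu2, Art.comp_apply, hx2, hv1]
        · change j (p'' x) = c
          rw [hx2, hv2]
    refine ⟨(cmp_injective_iff h).mpr fun x y e1 e2 => ?_, (cmp_surjective_iff h).mpr fun a e he => ?_⟩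
    · refine (cmp_injective_iff hu).mp (heps u _ hu).1 _ _ ((cmp_injective_iff hq).mp (ih q' q'' hq).1 _ _ ?_ ?_) ?_
      · rw [map_map, map_map, hu1, e1]
      · rw [map_map, map_map, hu2, ← map_map, ← map_map, e2]
      · rw [← map_map, ← map_map, e2]
    · obtain ⟨b, hb1, hb2⟩ := (cmp_surjective_iff hq).mp (ih q' q'' hq).2 a (F.map l e)
        (by rw [he, map_map, eq_toBase (l ≫ _)])
      obtain ⟨x, hx1, hx2⟩ := (cmp_surjective_iff hu).mp (heps u _ hu).2 b (F.map j e) (by
        rw [map_map, eq_toBase (j ≫ _), show toBase B' = q' ≫ toBase A from (eq_toBase _).symm, ← map_map, hb1, he])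
      refine ⟨x, by rw [← hu1, ← map_map, hx1, hb1], (cmp_injective_iff hE).mp (heps _ _ hE).1 _ _ ?_ ?_⟩
      · rw [map_map, ← hu2, ← map_map, hx1, hb2]
      · rw [map_map, hx2]

theorem bijective_cmp_sqZero (heps : Heps F) {E : Art Λ k} (σ : base Λ k ⟶ E) (hE : maximalIdeal E ^ 2 = ⊥)
    {B A : Art Λ k} (p' : B ⟶ A) (p'' : B ⟶ E) (h : IsFibreProd p' p'' (toBase A) (toBase E)) :
    Function.Bijective (cmp F h) := by
  obtain ⟨n, e, he⟩ := exists_en_iso E σ hE
  have hb := bijective_of_isIso (inv e)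
  have h' : IsFibreProd p' (p'' ≫ inv e) (toBase A) (toBase (En Λ k n)) := by
    refine ⟨by rw [eq_toBase (p' ≫ _), eq_toBase ((_ ≫ _) ≫ _)], fun x y e1 e2 => h.inj x y e1 (hb.1 e2), fun a c hac => ?_⟩
    obtain ⟨x, hx1, hx2⟩ := h.surj a (e c) (hac.trans (res_app e c).symm)
    refine ⟨x, hx1, ?_⟩
    change inv e (p'' x) = c
    rw [hx2]
    change (e ≫ inv e) c = c
    rw [IsIso.hom_inv_id]
    rfl
  obtain ⟨hi, hs⟩ := bijective_cmp_en heps n p' _ h'
  refine ⟨(cmp_injective_iff h).mpr fun x y e1 e2 => (cmp_injective_iff h').mp hi x y e1 (by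
    rw [← map_map, ← map_map, e2]), (cmp_surjective_iff h).mpr fun a c hac => ?_⟩
  obtain ⟨x, hx1, hx2⟩ := (cmp_surjective_iff h').mp hs a (F.map (inv e) c)
    (by rw [hac, map_map, eq_toBase (inv e ≫ _)])
  exact ⟨x, hx1, (map_bijective_of_isIso (inv e)).1 (by rw [← hx2, map_map])⟩

/-- Any two lifts along a small extension differ by a tangent vector. -/
theorem exists_tangent_diff (h0 : H0 F) (hbar : Hbar F) {B A Q : Art Λ k} {p : B ⟶ A}
    (hp : IsSmallExt p) {p₁ p₂ : Q ⟶ B} (hQ : IsFibreProd p₁ p₂ p p) {δ : Q ⟶ dual Λ k}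
    {y y' : F.obj B} (h : F.map p y = F.map p y') :
    ∃ (w : F.obj Q) (θ : F.obj (dual Λ k)), F.map p₁ w = y ∧ F.map p₂ w = y' ∧ F.map δ w = θ := by
  obtain ⟨w, h1, h2⟩ := (cmp_surjective_iff hQ).mp (hbar p₁ p₂ p p hQ hp) y y' h
  exact ⟨w, _, h1, h2, rfl⟩

/-- A functor with trivial tangent space has at most one element over each object. -/
theorem subsingleton_obj (h0 : H0 F) (hbar : Hbar F) (heps : Heps F) (ht : Subsingleton (F.obj (dual Λ k)))
    (A : Art Λ k) : Subsingleton (F.obj A) := by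
  refine surjective_induction (P := fun A B _ => Subsingleton (F.obj A) → Subsingleton (F.obj B))
    ?_ ?_ ?_ (toBase A) A.res_surjective h0.2
  · intro A B e _ hA
    exact ⟨fun x y => (map_bijective_of_isIso e).1 (@Subsingleton.elim _ hA _ _)⟩
  · intro A B p hp hA
    obtain ⟨-, t, ht0, htm, htk⟩ := (isSmallExt_iff p).mp hp
    obtain ⟨Q, p₁, p₂, hQ⟩ := exists_fibreProd p p hp.1
    obtain ⟨δ, hδ, -⟩ := exists_diff ht0 htm htk hQ
    obtain ⟨Δ, hΔ1, hΔ2⟩ := exists_lift hQ (𝟙 B) (𝟙 B) rfl
    refine ⟨fun x y => ?_⟩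
    obtain ⟨w, h1, h2⟩ := (cmp_surjective_iff hQ).mp (hbar p₁ p₂ p p hQ hp) x y (@Subsingleton.elim _ hA _ _)
    have : F.map Δ x = w := (cmp_injective_iff hδ).mp (heps p₁ δ hδ).1 _ _
      (by rw [map_map, hΔ1, map_id_apply, h1]) (@Subsingleton.elim _ ht _ _)
    rw [← h2, ← this, map_map, hΔ2, map_id_apply]
  · intro _ _ _ p q _ _ hp hq hA
    exact hp (hq hA)

end Finite

/-- Equality on the maximal ideal of the target is tested on the image. -/
theorem surjective_of_cotangent {R R' : CRing Λ k} (f : R'.carrier →ₐ[Λ] R.carrier) (hf : R.res.comp f = R'.res)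
    (h : maximalIdeal R.carrier ≤ Ideal.map (algebraMap Λ R.carrier) (RingHom.ker (algebraMap Λ k)) ⊔
      Ideal.map f (maximalIdeal R'.carrier) ⊔ maximalIdeal R.carrier ^ 2) : Function.Surjective f := by
  refine surjective_of_tangent_injective f hf fun φ φ' he => HomSet.ext' fun r => ?_
  have hres : ∀ x, TrivSqZeroExt.fst (φ.1 x) = TrivSqZeroExt.fst (φ'.1 x) := fun x =>
    (res_homSet φ x).trans (res_homSet φ' x).symm
  let D := AlgHom.equalizer φ.1 φ'.1
  have hmul : ∀ a x : R.carrier, x ∈ maximalIdeal R.carrier → x ∈ D → a * x ∈ D := fun a x hx hxD => by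
    refine TrivSqZeroExt.ext (hres _) ?_
    rw [snd_mul_dual, snd_mul_dual, (CRing.mem_maximalIdeal_iff R x).mp hx, zero_mul, zero_mul]
    rw [show φ.1 x = φ'.1 x from hxD]
  let I : Ideal R.carrier :=
    { carrier := {x | x ∈ maximalIdeal R.carrier ∧ x ∈ D}
      add_mem' := fun {a b} ha hb => ⟨add_mem (ha.1 : a ∈ _) hb.1, add_mem (s := D) ha.2 hb.2⟩
      zero_mem' := ⟨zero_mem _, zero_mem D⟩
      smul_mem' := fun c x hx => ⟨Ideal.mul_mem_left _ c hx.1, hmul c x hx.1 hx.2⟩ }
  have hI : maximalIdeal R.carrier ≤ I := by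
    refine h.trans (sup_le (sup_le ?_ ?_) ?_)
    · rw [Ideal.map_le_iff_le_comap]
      intro l hl
      refine ⟨?_, D.algebraMap_mem l⟩
      rw [CRing.mem_maximalIdeal_iff, AlgHom.commutes]
      exact hl
    · rw [Ideal.map_le_iff_le_comap]
      intro x hx
      refine ⟨?_, he x⟩
      change f x ∈ maximalIdeal R.carrier
      rw [CRing.mem_maximalIdeal_iff, res_comp_apply hf]
      exact (CRing.mem_maximalIdeal_iff R' x).mp hx
    · rw [sq, Ideal.mul_le]
      intro a ha b hb
      refine ⟨Ideal.mul_mem_left _ a hb, TrivSqZeroExt.ext (hres _) ?_⟩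
      rw [snd_mul_dual, snd_mul_dual, (CRing.mem_maximalIdeal_iff R a).mp ha, (CRing.mem_maximalIdeal_iff R b).mp hb]
      simp
  obtain ⟨s, hs⟩ := R'.res_surjective (R.res r)
  have hm : r - f s ∈ maximalIdeal R.carrier := by
    rw [CRing.mem_maximalIdeal_iff, map_sub, res_comp_apply hf, hs, sub_self]
  have hr : r ∈ D := by
    rw [← sub_add_cancel r (f s)]
    exact add_mem (s := D) (hI hm).2 (he s)
  exact hr

/-- The three cotangent conditions. -/
theorem cotangent_tfae {R R' : CRing Λ k} (f : R'.carrier →ₐ[Λ] R.carrier) (hf : R.res.comp f = R'.res) :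
    List.TFAE [Function.Surjective f,
      Ideal.map f (maximalIdeal R'.carrier) ⊔ maximalIdeal R.carrier ^ 2 = maximalIdeal R.carrier,
      Ideal.map (algebraMap Λ R.carrier) (RingHom.ker (algebraMap Λ k)) ⊔
        Ideal.map f (maximalIdeal R'.carrier) ⊔ maximalIdeal R.carrier ^ 2 = maximalIdeal R.carrier] := by
  have hp : Ideal.map (algebraMap Λ R.carrier) (RingHom.ker (algebraMap Λ k)) ≤ maximalIdeal R.carrier := by
    rw [Ideal.map_le_iff_le_comap]
    intro l hl
    rw [Ideal.mem_comap, CRing.mem_maximalIdeal_iff, AlgHom.commutes]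
    exact hl
  have hle := sup_le (map_maximal_le hf) (Ideal.pow_le_self (two_ne_zero) : maximalIdeal R.carrier ^ 2 ≤ _)
  tfae_have 1 → 2 := fun hs => le_antisymm hle fun x hx => Ideal.mem_sup_left (by
    obtain ⟨y, rfl⟩ := hs x
    refine Ideal.mem_map_of_mem _ ?_
    rw [CRing.mem_maximalIdeal_iff, ← res_comp_apply hf]
    exact (CRing.mem_maximalIdeal_iff R _).mp hx)
  tfae_have 2 → 3 := fun h => le_antisymm (by rw [sup_assoc]; exact sup_le hp hle)
    (by rw [sup_assoc, h]; exact le_sup_right)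
  tfae_have 3 → 1 := fun h => surjective_of_cotangent f hf h.ge
  tfae_finish

/-- An Artinian object as a coefficient ring. -/
noncomputable def artCRing (A : Art Λ k) : CRing Λ k :=
  { carrier := A
    res := A.res
    res_surjective := A.res_surjective
    isAdicComplete := by
      obtain ⟨N, hN⟩ := exists_pow_eq_bot A
      refine { toIsHausdorff := ⟨fun x hx => ?_⟩, toIsPrecomplete := ⟨fun g hg => ⟨g N, fun n => ?_⟩⟩ }
      · have := hx N
        rwa [SModEq.zero, smul_eq_mul, Ideal.mul_top, hN, Ideal.mem_bot] at this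
      · rcases le_total n N with h | h
        · exact hg h
        · have := hg h
          rw [SModEq.sub_mem, hN] at this
          rw [SModEq.sub_mem, ← neg_sub]
          refine neg_mem ?_
          simp only [smul_eq_mul, Ideal.bot_mul, Ideal.mem_bot] at this
          rw [this]; exact zero_mem _ }

end Groth.Agent.ArtFunLib
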