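import Groth.Agent.ArtFunLib.Misc

/-!
# Pullbacks of functors, lifting lemmas
-/

set_option autoImplicit false
set_option linter.unusedSectionVars false

open CategoryTheory ArtFun ArtFun.Art IsLocalRing

namespace Groth.Agent.ArtFunLib

universe u v w

variable {Λ : Type u} {k : Type u} [CommRing Λ] [Field k] [Algebra Λ k]
variable {F G H : Art Λ k ⥤ Type v}

lemma isPullback_obj (f : F ⟶ H) (g : G ⟶ H) (A : Art Λ k) :
    IsPullback ((Limits.pullback.fst f g).app A) ((Limits.pullback.snd f g).app A) (f.app A) (g.app A) :=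
  (IsPullback.of_hasPullback f g).map ((evaluation (Art Λ k) (Type v)).obj A)

lemma pullback_ext (f : F ⟶ H) (g : G ⟶ H) {A : Art Λ k} {x y : (Limits.pullback f g).obj A}
    (h1 : (Limits.pullback.fst f g).app A x = (Limits.pullback.fst f g).app A y)
    (h2 : (Limits.pullback.snd f g).app A x = (Limits.pullback.snd f g).app A y) : x = y := by
  let hl := (isPullback_obj f g A).isLimit
  let e := Limits.PullbackCone.IsLimit.equivPullbackObj hl
  refine e.injective (Subtype.ext (Prod.ext ?_ ?_))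
  · refine (Limits.PullbackCone.IsLimit.equivPullbackObj_apply_fst hl x).trans (.trans ?_
      (Limits.PullbackCone.IsLimit.equivPullbackObj_apply_fst hl y).symm)
    exact (h1)
  · refine (Limits.PullbackCone.IsLimit.equivPullbackObj_apply_snd hl x).trans (.trans ?_
      (Limits.PullbackCone.IsLimit.equivPullbackObj_apply_snd hl y).symm)
    exact (h2)

lemma pullback_exists (f : F ⟶ H) (g : G ⟶ H) {A : Art Λ k} (a : F.obj A) (b : G.obj A) (h : f.app A a = g.app A b) :
    ∃ x : (Limits.pullback f g).obj A, (Limits.pullback.fst f g).app A x = a ∧ (Limits.pullback.snd f g).app A x = b := by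
  let hl := (isPullback_obj f g A).isLimit
  let e := Limits.PullbackCone.IsLimit.equivPullbackObj hl
  exact ⟨e.symm ⟨(a, b), h⟩, Limits.PullbackCone.IsLimit.equivPullbackObj_symm_apply_fst hl _,
    Limits.PullbackCone.IsLimit.equivPullbackObj_symm_apply_snd hl _⟩

lemma pullback_condition (f : F ⟶ H) (g : G ⟶ H) {A : Art Λ k} (x : (Limits.pullback f g).obj A) :
    f.app A ((Limits.pullback.fst f g).app A x) = g.app A ((Limits.pullback.snd f g).app A x) := by
  have h := congrArg (fun η : Limits.pullback f g ⟶ H => η.app A x) (Limits.pullback.condition (f := f) (g := g))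
  exact h

/-- A projection of a pullback of a smooth morphism is smooth. -/
lemma isSmooth_snd (f : F ⟶ H) (g : G ⟶ H) (hf : IsSmooth f) : IsSmooth (Limits.pullback.snd f g) := by
  rw [isSmooth_iff] at hf ⊢
  intro B A μ hμ x y (hy : G.map μ y = (Limits.pullback.snd f g).app A x)
  obtain ⟨a, ha1, ha2⟩ := hf μ hμ ((Limits.pullback.fst f g).app A x) (g.app B y) (by
    refine (NatTrans.naturality_apply g μ y).symm.trans ?_
    rw [hy]
    exact (pullback_condition f g x).symm)
  obtain ⟨z, hz1, hz2⟩ := pullback_exists f g a y ha2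
  refine ⟨z, pullback_ext f g ?_ ?_, hz2⟩
  · rw [NatTrans.naturality_apply, hz1, ha1]
  · rw [NatTrans.naturality_apply, hz2, hy]

variable [Module.Finite Λ k]

/-- Injectivity on the fibres of small extensions. -/
theorem Mor.eq_of_tangent_injective {G : Art Λ k ⥤ Type w} (η : Mor G F) (hF : HSq F) (hG0 : H0 G)
    (hGbar : Hbar G) (hGeps : Heps G) (ht : Function.Injective (η.app (dual Λ k))) {B A : Art Λ k} {p : B ⟶ A}
    (hp : IsSmallExt p) {x y : G.obj B} (h1 : G.map p x = G.map p y) (h2 : η.app B x = η.app B y) : x = y := by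
  obtain ⟨-, t, ht0, htm, htk⟩ := (isSmallExt_iff p).mp hp
  obtain ⟨Q, p₁, p₂, hQ⟩ := exists_fibreProd p p hp.1
  obtain ⟨δ, hδ, -⟩ := exists_diff ht0 htm htk hQ
  obtain ⟨Δ, hΔ1, hΔ2⟩ := exists_lift hQ (𝟙 B) (𝟙 B) rfl
  obtain ⟨w, hw1, hw2⟩ := (cmp_surjective_iff hQ).mp (hGbar p₁ p₂ p p hQ hp) x y h1
  have hw : η.app Q w = F.map Δ (η.app B x) := by
    refine (cmp_injective_iff hQ).mp (hF p₁ p₂ p hQ hp).1 _ _ ?_ ?_
    · rw [← η.natural, hw1, map_map, hΔ1, map_id_apply]
    · rw [← η.natural, hw2, map_map, hΔ2, map_id_apply, h2]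
  have key : w = G.map Δ x := by
    refine (cmp_injective_iff hδ).mp (hGeps p₁ δ hδ).1 _ _ ?_ (ht ?_)
    · rw [hw1, map_map, hΔ1, map_id_apply]
    · rw [η.natural, hw, map_map, η.natural, η.natural, map_map]
  rw [← hw2, key, map_map, hΔ2, map_id_apply]

/-- The criterion for the composite situation: tangent-injective second map. -/
theorem smooth_of_smooth_comp {F G H : Art Λ k ⥤ Type v} (φ : F ⟶ G) (ψ : G ⟶ H)
    (hG0 : H0 G) (hGbar : Hbar G) (hGeps : Heps G) (hH : HSq H)
    (hψ : Function.Injective (ψ.app (dual Λ k))) (h : IsSmooth (φ ≫ ψ)) : IsSmooth φ := by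
  rw [isSmooth_iff] at h ⊢
  refine Mor.smooth_of_small _ fun B A μ hμ x y (hy : G.map μ y = φ.app A x) => ?_
  obtain ⟨z, hz1, hz2⟩ := h μ hμ.1 x (ψ.app B y) (by
    refine (NatTrans.naturality_apply ψ μ y).symm.trans ?_
    rw [hy]; rfl)
  refine ⟨z, hz1, Mor.eq_of_tangent_injective (Mor.ofNatTrans ψ) hH hG0 hGbar hGeps hψ hμ ?_ hz2⟩
  change G.map μ (φ.app B z) = G.map μ y
  rw [← NatTrans.naturality_apply, hz1, hy]

end Groth.Agent.ArtFunLib
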