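import Groth.Agent.ArtFunLib.Points

/-!
# Minimal presentations (`Λ → k` surjective)
-/

set_option autoImplicit false
set_option linter.unusedSectionVars false

open CategoryTheory ArtFun ArtFun.Art IsLocalRing

namespace Groth.Agent.ArtFunLib

universe u v

variable {Λ : Type u} {k : Type u} [CommRing Λ] [Field k] [Algebra Λ k] [IsNoetherianRing Λ]

/-- The ideal `m² + pS` of a coefficient ring. -/
noncomputable def linIdeal (S : CRing Λ k) : Ideal S.carrier :=
  maximalIdeal S.carrier ^ 2 ⊔ (RingHom.ker (algebraMap Λ k)).map (algebraMap Λ S.carrier)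

lemma linIdeal_le (S : CRing Λ k) : linIdeal S ≤ maximalIdeal S.carrier := by
  refine sup_le (Ideal.pow_le_self two_ne_zero) ?_
  rw [Ideal.map_le_iff_le_comap]
  intro l hl
  rw [Ideal.mem_comap, CRing.mem_maximalIdeal_iff, AlgHom.commutes]
  exact hl

lemma sub_algebraMap_mem {S : CRing Λ k} {x : S.carrier} {l : Λ} (h : algebraMap Λ k l = S.res x) :
    x - algebraMap Λ S.carrier l ∈ maximalIdeal S.carrier := by
  rw [CRing.mem_maximalIdeal_iff, map_sub, AlgHom.commutes, h, sub_self]

/-- The free ring on finitely many variables of residue `0`. -/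
theorem exists_free_zero (hk : Function.Surjective (algebraMap Λ k)) (σ : Type u) [Finite σ] :
    ∃ (S : CRing Λ k) (X : σ → S.carrier), (∀ i, S.res (X i) = 0) ∧
      maximalIdeal S.carrier ≤ linIdeal S ⊔ Ideal.span (Set.range X) ∧
      ∀ (A : Art Λ k) (b : σ → A), (∀ i, A.res (b i) = 0) →
        ∃! φ : HomSet S.carrier S.res A, ∀ i, φ.1 (X i) = b i := by
  have hc : Algebra.adjoin Λ (Set.range fun _ : σ => (0 : k)) = ⊤ := by
    rw [eq_top_iff]
    intro x _
    obtain ⟨l, rfl⟩ := hk x
    exact Subalgebra.algebraMap_mem _ l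
  obtain ⟨S, X, hX, hfree⟩ := exists_free σ (fun _ => (0 : k)) hc
  refine ⟨S, X, hX, ?_, hfree⟩
  let N := linIdeal S ⊔ Ideal.span (Set.range X)
  have hN : N ≤ maximalIdeal S.carrier := sup_le (linIdeal_le S) (Ideal.span_le.mpr (Set.range_subset_iff.mpr
    fun i => (CRing.mem_maximalIdeal_iff S _).mpr (hX i)))
  let L : Lvl S := ⟨N, hN, ⟨1, le_sup_of_le_left le_sup_left⟩⟩
  choose l hl using hk
  have hp : ∀ r, algebraMap Λ k r = 0 → algebraMap Λ L.obj r = 0 := fun r hr => by
    rw [← L.proj.1.commutes, L.proj_eq_zero_iff]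
    exact Ideal.mem_sup_left (Ideal.mem_sup_right (Ideal.mem_map_of_mem _ hr))
  have wd : ∀ r r', algebraMap Λ k r = algebraMap Λ k r' → algebraMap Λ L.obj r = algebraMap Λ L.obj r' :=
    fun r r' h => sub_eq_zero.mp (by rw [← map_sub]; exact hp _ (by rw [map_sub, h, sub_self]))
  let σa : k →ₐ[Λ] L.obj :=
    { toFun := fun c => algebraMap Λ L.obj (l c)
      map_one' := (wd _ 1 (by rw [hl, map_one])).trans (map_one _)
      map_zero' := (wd _ 0 (by rw [hl, map_zero])).trans (map_zero _)
      map_add' := fun a b => (wd _ (l a + l b) (by rw [hl, map_add, hl, hl])).trans (map_add _ _ _)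
      map_mul' := fun a b => (wd _ (l a * l b) (by rw [hl, map_mul, hl, hl])).trans (map_mul _ _ _)
      commutes' := fun r => wd _ _ (hl _) }
  let σh : base Λ k ⟶ L.obj := ⟨σa, AlgHom.ext fun c => (L.obj.res.commutes _).trans (hl c)⟩
  let φ₂ : HomSet S.carrier S.res L.obj := HomSet.map σh ⟨S.res, AlgHom.id_comp _⟩
  have h0 : ∀ i, L.obj.res (L.proj.1 (X i)) = 0 := fun i => (res_homSet _ _).trans (hX i)
  obtain ⟨φ₀, -, huniq⟩ := hfree L.obj (fun i => L.proj.1 (X i)) h0
  have e : L.proj = φ₂ := (huniq L.proj fun _ => rfl).trans (huniq φ₂ fun i => by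
    change σa (S.res (X i)) = _
    rw [hX, map_zero, eq_comm, L.proj_eq_zero_iff]
    exact Ideal.mem_sup_right (Ideal.subset_span (Set.mem_range_self i))).symm
  intro s hs
  refine (L.proj_eq_zero_iff s).mp ?_
  rw [e]
  change σa (S.res s) = 0
  rw [(CRing.mem_maximalIdeal_iff S s).mp hs, map_zero]

/-- A minimal presentation of a coefficient ring. -/
theorem exists_presentation (hk : Function.Surjective (algebraMap Λ k)) (R : CRing Λ k) :
    ∃ (d : ℕ) (S : CRing Λ k) (X : ULift.{u} (Fin d) → S.carrier) (π : S.carrier →ₐ[Λ] R.carrier)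
      (_ : R.res.comp π = S.res), Function.Surjective π ∧ RingHom.ker π ≤ linIdeal S ∧ (∀ i, S.res (X i) = 0) ∧
      ∀ (A : Art Λ k) (b : ULift.{u} (Fin d) → A), (∀ i, A.res (b i) = 0) →
        ∃! φ : HomSet S.carrier S.res A, ∀ i, φ.1 (X i) = b i := by
  classical
  have hex : ∃ d, ∃ x : Fin d → R.carrier, (∀ i, x i ∈ maximalIdeal R.carrier) ∧
      maximalIdeal R.carrier ≤ linIdeal R ⊔ Ideal.span (Set.range x) := by
    obtain ⟨d, x, hx⟩ := Submodule.fg_iff_exists_fin_generating_family.mp (IsNoetherian.noetherian (maximalIdeal R.carrier))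
    exact ⟨d, x, fun i => hx ▸ Submodule.subset_span (Set.mem_range_self i), le_sup_of_le_right hx.ge⟩
  obtain ⟨x, hxm, hxs⟩ := Nat.find_spec hex
  obtain ⟨S, X, hX, hSgen, hfree⟩ := exists_free_zero hk (ULift.{u} (Fin (Nat.find hex)))
  let d := Nat.find hex
  choose ψ hψ hψu using fun n => hfree (R.trunc n) (fun i => (R.truncHom n).1 (x i.down)) fun i =>
    (res_homSet _ _).trans ((CRing.mem_maximalIdeal_iff R _).mp (hxm _))
  obtain ⟨π, hπ, hπn⟩ := exists_lift_trunc ψ fun n => hψu n _ fun i => by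
    change R.truncMap n ((ψ (n + 1)).1 (X i)) = _
    rw [hψ]; rfl
  have hπX : ∀ i, π (X i) = x i.down := fun i => eq_of_forall_truncHom fun n => (hπn n _).trans (hψ n i)
  refine ⟨d, S, X, π, hπ, ?_, fun s hs => ?_, hX, hfree⟩
  · refine surjective_of_cotangent π hπ (hxs.trans (sup_le (sup_le le_sup_right ?_) ?_))
    · exact le_sup_of_le_left le_sup_left
    · refine Ideal.span_le.mpr (Set.range_subset_iff.mpr fun i => Ideal.mem_sup_left (Ideal.mem_sup_right ?_))
      rw [← hπX ⟨i⟩]
      exact Ideal.mem_map_of_mem _ ((CRing.mem_maximalIdeal_iff S _).mpr (hX _))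
  · have hs' : π s = 0 := hs
    have hsm : s ∈ maximalIdeal S.carrier := by
      rw [CRing.mem_maximalIdeal_iff, ← res_comp_apply hπ, hs', map_zero]
    obtain ⟨n, hn, w, hw, rfl⟩ := Submodule.mem_sup.mp (hSgen hsm)
    obtain ⟨c, rfl⟩ := (Submodule.mem_span_range_iff_exists_fun _).mp hw
    refine add_mem hn (sum_mem fun j _ => ?_)
    rw [smul_eq_mul]
    by_cases hcj : c j ∈ maximalIdeal S.carrier
    · refine Ideal.mem_sup_left ?_
      rw [sq]
      exact Ideal.mul_mem_mul hcj ((CRing.mem_maximalIdeal_iff S _).mpr (hX j))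
    exfalso
    have hmap : (linIdeal S).map π ≤ linIdeal R := by
      rw [linIdeal, Ideal.map_sup]
      refine sup_le_sup ?_ ?_
      · rw [Ideal.map_pow]
        exact Ideal.pow_right_mono (map_maximal_le hπ) 2
      · rw [Ideal.map_le_iff_le_comap, Ideal.map_le_iff_le_comap]
        intro r hr
        rw [Ideal.mem_comap, Ideal.mem_comap, AlgHom.commutes]
        exact Ideal.mem_map_of_mem _ hr
    have hu : IsUnit (π (c j)) := (notMem_maximalIdeal.mp hcj).map π
    have heq : π n + ∑ i, π (c i) * x i.down = 0 := by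
      have := hs'
      simpa [map_sum, hπX] using this
    obtain ⟨e', he'⟩ : ∃ e', Nat.find hex = e' + 1 := ⟨Nat.find hex - 1, by have := j.down.isLt; omega⟩
    let emb : Fin e' → Fin (Nat.find hex) := fun i => Fin.cast he'.symm ((Fin.cast he' j.down).succAbove i)
    refine Nat.find_min hex (m := e') (by omega) ⟨x ∘ emb, fun i => hxm _, hxs.trans (sup_le le_sup_left ?_)⟩
    refine Ideal.span_le.mpr (Set.range_subset_iff.mpr fun i => ?_)
    by_cases hij : i = j.down
    · subst hij
      have hxj : π (c j) * x j.down ∈ linIdeal R ⊔ Ideal.span (Set.range (x ∘ emb)) := by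
        rw [← Finset.add_sum_erase Finset.univ _ (Finset.mem_univ j), add_left_comm, add_eq_zero_iff_eq_neg] at heq
        rw [heq]
        refine neg_mem (add_mem (Ideal.mem_sup_left (hmap (Ideal.mem_map_of_mem _ hn))) (sum_mem fun i hi => ?_))
        refine Ideal.mem_sup_right (Ideal.mul_mem_left _ _ (Ideal.subset_span ?_))
        have hne : Fin.cast he' i.down ≠ Fin.cast he' j.down := fun h =>
          (Finset.mem_erase.mp hi).1 (ULift.ext _ _ (Fin.cast_injective _ h))
        obtain ⟨i', hi'⟩ := Fin.exists_succAbove_eq hne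
        exact ⟨i', congrArg x (by simp [emb, hi'])⟩
      exact (Ideal.unit_mul_mem_iff_mem _ hu).mp hxj
    · obtain ⟨i', hi'⟩ := Fin.exists_succAbove_eq (y := Fin.cast he' j.down) (x := Fin.cast he' i)
        (fun h => hij (Fin.cast_injective _ h))
      exact Ideal.mem_sup_right (Ideal.subset_span ⟨i', congrArg x (by simp [emb, hi'])⟩)

end Groth.Agent.ArtFunLib
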