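import Groth.Agent.ArtFunLib.Hull

/-!
# Versal, miniversal and universal families
-/

set_option autoImplicit false
set_option linter.unusedSectionVars false

open CategoryTheory ArtFun ArtFun.Art IsLocalRing

namespace Groth.Agent.ArtFunLib

universe u v

variable {Λ : Type u} {k : Type u} [CommRing Λ] [Field k] [Algebra Λ k]
variable {F : Art Λ k ⥤ Type v} {R : CRing Λ k}

/-- The class in `h_R(A)` of the composite with a map of coefficient rings. -/
def homPre {R S : Type u} [CommRing R] [CommRing S] [Algebra Λ R] [Algebra Λ S] {resR : R →ₐ[Λ] k}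
    {resS : S →ₐ[Λ] k} {A : Art Λ k} (g : R →ₐ[Λ] S) (hg : resS.comp g = resR) (φ : HomSet S resS A) :
    HomSet R resR A :=
  ⟨φ.1.comp g, by rw [← AlgHom.comp_assoc, φ.2, hg]⟩

lemma along_app {R S : Type u} [CommRing R] [CommRing S] [Algebra Λ R] [Algebra Λ S] {resR : R →ₐ[Λ] k}
    {resS : S →ₐ[Λ] k} (ξ : Family R resR F) (g : R →ₐ[Λ] S) (hg : resS.comp g = resR) {A : Art Λ k}
    (φ : HomSet S resS A) : (ξ.along g hg).app A φ = ξ.app A (homPre g hg φ) := rfl

lemma trunc_zero_isIso (S : CRing Λ k) : IsIso (toBase (S.trunc 0)) := by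
  refine isIso_of_bijective _ ⟨(injective_iff_map_eq_zero _).mpr fun z hz => ?_, (S.trunc 0).res_surjective⟩
  obtain ⟨a, rfl⟩ := truncHom_surjective 0 z
  refine (truncHom_eq_zero_iff 0 a).mpr ?_
  rw [zero_add, pow_one, CRing.mem_maximalIdeal_iff]
  exact hz

lemma hom_to_trunc_zero_subsingleton {X : Type u} [CommRing X] [Algebra Λ X] {resX : X →ₐ[Λ] k} (S : CRing Λ k)
    (φ ψ : HomSet X resX (S.trunc 0)) : φ = ψ := by
  have := trunc_zero_isIso S
  exact HomSet.ext' fun s => (bijective_of_isIso (toBase (S.trunc 0))).1 ((res_homSet φ s).trans (res_homSet ψ s).symm)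

lemma truncMap_surjective (S : CRing Λ k) (n : ℕ) : Function.Surjective (S.truncMap n) := fun x => by
  obtain ⟨a, rfl⟩ := truncHom_surjective n x
  exact ⟨(S.truncHom (n + 1)).1 a, rfl⟩

/-- A versal family classifies every formal element. -/
theorem exists_along_eq (h0 : H0 F) (ξ : Family R.carrier R.res F) (hξ : IsVersal ξ) (S : CRing Λ k)
    (η : FormalElt F S) :
    ∃ (g : R.carrier →ₐ[Λ] S.carrier) (hg : S.res.comp g = R.res), (ξ.along g hg).toFormalElt = η := by
  have := trunc_zero_isIso S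
  have hstart : ∃ ψ : HomSet R.carrier R.res (S.trunc 0), ξ.app _ ψ = η.elt 0 := by
    obtain ⟨ψ, -, h⟩ := hξ (toBase (S.trunc 0)) (bijective_of_isIso (toBase (S.trunc 0))).2
      ((hR_h0 R.res).1.some) (η.elt 0) (@Subsingleton.elim _ h0.2 _ _)
    exact ⟨ψ, h⟩
  have hstep : ∀ n (ψ : HomSet R.carrier R.res (S.trunc n)), ξ.app _ ψ = η.elt n →
      ∃ ψ' : HomSet R.carrier R.res (S.trunc (n + 1)), HomSet.map (S.truncMap n) ψ' = ψ ∧ ξ.app _ ψ' = η.elt (n + 1) :=
    fun n ψ h => hξ (S.truncMap n) (truncMap_surjective S n) ψ (η.elt (n + 1)) (by rw [η.compat, h])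
  choose ψ₀ hψ₀ using hstart
  choose next hnext1 hnext2 using hstep
  let seq : ∀ n, {ψ : HomSet R.carrier R.res (S.trunc n) // ξ.app _ ψ = η.elt n} :=
    Nat.rec ⟨ψ₀, hψ₀⟩ fun n p => ⟨next n p.1 p.2, hnext2 n p.1 p.2⟩
  obtain ⟨g, hg, hgn⟩ := exists_lift_trunc (fun n => (seq n).1) fun n => hnext1 n (seq n).1 (seq n).2
  refine ⟨g, hg, FormalElt.ext' fun n => ?_⟩
  exact (congrArg (ξ.app _) (HomSet.ext' (hgn n) : homPre g hg (S.truncHom n) = (seq n).1)).trans (seq n).2

/-- Two maps classifying the same formal element through an injective family agree. -/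
theorem eq_of_injective (ξ : Family R.carrier R.res F) (hξ : ∀ A, Function.Injective (ξ.app A)) {S : CRing Λ k}
    {g₁ g₂ : R.carrier →ₐ[Λ] S.carrier} {hg₁ : S.res.comp g₁ = R.res} {hg₂ : S.res.comp g₂ = R.res}
    (h : (ξ.along g₁ hg₁).toFormalElt = (ξ.along g₂ hg₂).toFormalElt) : g₁ = g₂ :=
  algHom_ext_trunc fun n s => congrArg (fun φ : HomSet R.carrier R.res (S.trunc n) => φ.1 s)
    (hξ _ (congrArg (fun w : FormalElt F S => w.elt n) h))

lemma along_id (ξ : Family R.carrier R.res F) (h : R.res.comp (AlgHom.id Λ R.carrier) = R.res) :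
    ξ.along (AlgHom.id Λ R.carrier) h = ξ := family_ext' fun _ _ => rfl

lemma along_along {R S T : CRing Λ k} (ξ : Family R.carrier R.res F) (g : R.carrier →ₐ[Λ] S.carrier)
    (hg : S.res.comp g = R.res) (h : S.carrier →ₐ[Λ] T.carrier) (hh : T.res.comp h = S.res)
    (hgh : T.res.comp (h.comp g) = R.res) : (ξ.along g hg).along h hh = ξ.along (h.comp g) hgh :=
  family_ext' fun _ _ => rfl

/-- A pro-representing pair is unique up to unique isomorphism. -/
theorem existsUnique_proRep_equiv (P Q : ProRep F) :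
    ∃! e : P.ring.carrier ≃ₐ[Λ] Q.ring.carrier,
      ∃ he : Q.ring.res.comp e.toAlgHom = P.ring.res, P.family.along e.toAlgHom he = Q.family := by
  have hinj : ∀ (T : ProRep F) A, Function.Injective (T.family.app A) := fun T A => (T.universal A).1
  have h0 : H0 F := ⟨⟨P.family.app _ (hR_h0 P.ring.res).1.some⟩, ⟨fun x y => by
    obtain ⟨a, rfl⟩ := (P.universal _).2 x
    obtain ⟨b, rfl⟩ := (P.universal _).2 y
    rw [@Subsingleton.elim (HomSet P.ring.carrier P.ring.res (Art.base Λ k)) (hR_h0 P.ring.res).2 a b]⟩⟩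
  have hver : ∀ T : ProRep F, IsVersal T.family := fun T B A μ _ φ y hy => by
    obtain ⟨ψ, rfl⟩ := (T.universal B).2 y
    exact ⟨ψ, (T.universal A).1 (by rw [T.family.natural, hy]), rfl⟩
  have ex : ∀ T U : ProRep F, ∃ (g : T.ring.carrier →ₐ[Λ] U.ring.carrier) (hg : U.ring.res.comp g = T.ring.res),
      T.family.along g hg = U.family := fun T U => by
    obtain ⟨g, hg, h⟩ := exists_along_eq h0 T.family (hver T) U.ring U.family.toFormalElt
    exact ⟨g, hg, bijective_toFormalElt.1 h⟩
  obtain ⟨g, hg, hg'⟩ := ex P Q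
  obtain ⟨g', hh, hh'⟩ := ex Q P
  have e1 : g'.comp g = AlgHom.id Λ _ := eq_of_injective P.family (hinj P)
    (hg₁ := by rw [← AlgHom.comp_assoc, hh, hg]) (hg₂ := AlgHom.comp_id _)
    (by rw [← along_along P.family g hg g' hh, hg', hh', along_id])
  have e2 : g.comp g' = AlgHom.id Λ _ := eq_of_injective Q.family (hinj Q)
    (hg₁ := by rw [← AlgHom.comp_assoc, hg, hh]) (hg₂ := AlgHom.comp_id _)
    (by rw [← along_along Q.family g' hh g hg, hh', hg', along_id])
  refine ⟨AlgEquiv.ofAlgHom g g' e2 e1, ⟨hg, hg'⟩, fun e ⟨he, he'⟩ => ?_⟩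
  have : e.toAlgHom = g := eq_of_injective P.family (hinj P) (hg₁ := he) (hg₂ := hg) (by rw [he', hg'])
  exact AlgEquiv.ext fun x => DFunLike.congr_fun this x

lemma toFormalElt_along {R' : CRing Λ k} (ξ : Family R'.carrier R'.res F) (f : R'.carrier →ₐ[Λ] R.carrier)
    (hf : R.res.comp f = R'.res) (n : ℕ) :
    (ξ.along f hf).toFormalElt.elt n =
      ξ.app _ (homPre f hf (R.truncHom n)) := rfl

/-- A map of coefficient rings which is injective on tangent vectors is surjective. -/
theorem surjective_of_tangent_injective {R' : CRing Λ k} (g : R'.carrier →ₐ[Λ] R.carrier)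
    (hg : R.res.comp g = R'.res)
    (hinj : ∀ φ φ' : HomSet R.carrier R.res (dual Λ k), (∀ r, φ.1 (g r) = φ'.1 (g r)) → φ = φ') :
    Function.Surjective g := by
  refine surjective_of_surjective_sq g hg fun q => ?_
  let p : R'.carrier →ₐ[Λ] R.trunc 1 := (R.truncHom 1).1.comp g
  let C : Subalgebra Λ (R.trunc 1) := p.range
  have hpres : ∀ r, (R.trunc 1).res (p r) = R'.res r := fun r =>
    (res_homSet (R.truncHom 1) (g r)).trans (DFunLike.congr_fun hg r)
  have hsq : ∀ a b : R.trunc 1, (R.trunc 1).res a = 0 → (R.trunc 1).res b = 0 → a * b = 0 := fun a b ha hb => by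
    obtain ⟨x, rfl⟩ := truncHom_surjective 1 a
    obtain ⟨y, rfl⟩ := truncHom_surjective 1 b
    rw [res_homSet, ← CRing.mem_maximalIdeal_iff] at ha hb
    rw [← map_mul, truncHom_eq_zero_iff]
    change x * y ∈ maximalIdeal R.carrier ^ 2
    rw [sq]
    exact Ideal.mul_mem_mul ha hb
  choose σ hσ using R'.res_surjective
  have hsmul : ∀ (c c' : R'.carrier) (a : R.trunc 1), R'.res c = R'.res c' → (R.trunc 1).res a = 0 → p c * a = p c' * a :=
    fun c c' a h ha => by
      rw [← sub_eq_zero, ← sub_mul]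
      exact hsq _ _ (by rw [map_sub, hpres, hpres, h, sub_self]) ha
  let M : AddSubgroup (R.trunc 1) :=
    { carrier := {a | (R.trunc 1).res a = 0}
      add_mem' := fun {a b} (ha : _ = 0) (hb : _ = 0) => show (R.trunc 1).res (a + b) = 0 by
        rw [map_add, ha, hb, add_zero]
      zero_mem' := map_zero (R.trunc 1).res
      neg_mem' := fun {a} (ha : _ = 0) => show (R.trunc 1).res (-a) = 0 by rw [map_neg, ha, neg_zero] }
  let _ : SMul k M := ⟨fun c a => ⟨p (σ c) * a.1, show (R.trunc 1).res (p (σ c) * a.1) = 0 by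
    rw [map_mul, show (R.trunc 1).res a.1 = 0 from a.2, mul_zero]⟩⟩
  let _ : Module k M :=
    { one_smul := fun a => Subtype.ext (by
        change p (σ 1) * a.1 = a.1
        rw [hsmul _ 1 a.1 (by rw [hσ, map_one]) a.2, map_one, one_mul])
      mul_smul := fun c d a => Subtype.ext (by
        change p (σ (c * d)) * a.1 = p (σ c) * (p (σ d) * a.1)
        rw [hsmul _ (σ c * σ d) a.1 (by rw [hσ, map_mul, hσ, hσ]) a.2, map_mul, mul_assoc])
      smul_zero := fun c => Subtype.ext (mul_zero _)
      smul_add := fun c a b => Subtype.ext (mul_add _ _ _)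
      add_smul := fun c d a => Subtype.ext (by
        change p (σ (c + d)) * a.1 = p (σ c) * a.1 + p (σ d) * a.1
        rw [hsmul _ (σ c + σ d) a.1 (by rw [hσ, map_add, hσ, hσ]) a.2, map_add, add_mul])
      zero_smul := fun a => Subtype.ext (by
        change p (σ 0) * a.1 = 0
        rw [hsmul _ 0 a.1 (by rw [hσ, map_zero]) a.2, map_zero, zero_mul]) }
  let W : Submodule k M :=
    { carrier := {a | a.1 ∈ C}
      add_mem' := fun {a b} ha hb => add_mem (s := C) ha hb
      zero_mem' := zero_mem C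
      smul_mem' := fun c a ha => mul_mem (s := C) ⟨σ c, rfl⟩ ha }
  have key : ∀ a : M, a.1 ∈ C := by
    intro a
    by_contra ha
    obtain ⟨l, hl, hlW⟩ := W.exists_dual_map_eq_bot_of_notMem (x := a) ha inferInstance
    have hlW' : ∀ b : M, b.1 ∈ C → l b = 0 := fun b hb => by
      have : l b ∈ W.map l := Submodule.mem_map_of_mem hb
      rwa [hlW, Submodule.mem_bot] at this
    let pr : R.trunc 1 → M := fun x => ⟨x - p (σ ((R.trunc 1).res x)), show (R.trunc 1).res _ = 0 by
      rw [map_sub, hpres, hσ, sub_self]⟩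
    have hpr : ∀ (x : R.trunc 1) (c : R'.carrier) (h : (R.trunc 1).res (x - p c) = 0),
        l (pr x) = l ⟨x - p c, h⟩ := fun x c h => by
      refine sub_eq_zero.mp ?_
      rw [← map_sub]
      refine hlW' _ ?_
      change x - p (σ _) - (x - p c) ∈ C
      rw [sub_sub_sub_cancel_left]
      exact ⟨c - σ _, map_sub p _ _⟩
    let d : R.trunc 1 → DualNumber k := fun x => ((R.trunc 1).res x, l (pr x))
    have hd : ∀ (x : R.trunc 1) (c : R'.carrier) (h : (R.trunc 1).res (x - p c) = 0),
        d x = ((R.trunc 1).res x, l ⟨x - p c, h⟩) := fun x c h => Prod.ext rfl (hpr x c h)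
    have hcd : ∀ x c, (R.trunc 1).res x = R'.res c → (R.trunc 1).res (x - p c) = 0 := fun x c h => by
      rw [map_sub, hpres, h, sub_self]
    have hC : ∀ c, l (pr (p c)) = 0 := fun c => hlW' _ (show p c - p _ ∈ C from sub_mem ⟨c, rfl⟩ ⟨_, rfl⟩)
    let D : R.trunc 1 →ₐ[Λ] DualNumber k :=
      { toFun := d
        map_one' := TrivSqZeroExt.ext (map_one _) (by rw [show (1 : R.trunc 1) = p 1 from (map_one p).symm]; exact hC 1)
        map_zero' := TrivSqZeroExt.ext (map_zero _) (by rw [show (0 : R.trunc 1) = p 0 from (map_zero p).symm]; exact hC 0)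
        map_add' := fun x y => by
          refine TrivSqZeroExt.ext (map_add _ x y) ?_
          refine (hpr (x + y) (σ ((R.trunc 1).res x) + σ ((R.trunc 1).res y))
            (hcd _ _ (by rw [map_add, map_add, hσ, hσ]))).trans ?_
          rw [show (⟨x + y - p _, _⟩ : M) = pr x + pr y from Subtype.ext (by
            change x + y - p (_ + _) = (x - p _) + (y - p _)
            rw [map_add, add_sub_add_comm]), map_add]
          rfl
        map_mul' := fun x y => by
          refine TrivSqZeroExt.ext (map_mul _ x y) ?_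
          refine (hpr (x * y) (σ ((R.trunc 1).res x) * σ ((R.trunc 1).res y))
            (hcd _ _ (by rw [map_mul, map_mul, hσ, hσ]))).trans ?_
          rw [show (⟨x * y - p _, _⟩ : M) = (R.trunc 1).res x • pr y + (R.trunc 1).res y • pr x from Subtype.ext (by
            change x * y - p (_ * _) = p (σ _) * (y - p (σ _)) + p (σ _) * (x - p (σ _))
            have := hsq _ _ (pr x).2 (pr y).2
            change (x - p (σ _)) * (y - p (σ _)) = 0 at this
            rw [map_mul]
            linear_combination this), map_add, map_smul, map_smul]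
          change _ = (R.trunc 1).res x • l (pr y) + MulOpposite.op ((R.trunc 1).res y) • l (pr x)
          rw [MulOpposite.smul_eq_mul_unop, MulOpposite.unop_op, smul_eq_mul, smul_eq_mul,
            mul_comm ((R.trunc 1).res y) (l (pr x))]
        commutes' := fun r => TrivSqZeroExt.ext ((R.trunc 1).res.commutes r) (by
          rw [← p.commutes r]; exact hC _) }
    let D' : R.trunc 1 ⟶ dual Λ k := ⟨D, AlgHom.ext fun _ => rfl⟩
    let φ := HomSet.map D' (R.truncHom 1)
    let φ' : HomSet R.carrier R.res (dual Λ k) := HomSet.map baseToDual ⟨R.res, AlgHom.id_comp _⟩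
    have heq := hinj φ φ' fun r => TrivSqZeroExt.ext ((res_homSet φ _).trans (res_homSet φ' _).symm) (hC r)
    obtain ⟨x, hx⟩ := truncHom_surjective 1 a.1
    have h2 : l (pr ((R.truncHom 1).1 x)) = 0 :=
      congrArg (fun χ : HomSet R.carrier R.res (dual Λ k) => TrivSqZeroExt.snd (χ.1 x)) heq
    rw [hx, hpr a.1 0 (by rw [map_zero, sub_zero]; exact a.2)] at h2
    exact hl ((congrArg l (Subtype.ext (show a.1 = a.1 - p 0 by simp))).trans h2)
  obtain ⟨r, hr⟩ := key ⟨q - p (σ ((R.trunc 1).res q)), show (R.trunc 1).res _ = 0 by rw [map_sub, hpres, hσ, sub_self]⟩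
  exact ⟨r + σ ((R.trunc 1).res q), by
    change p (r + _) = q
    rw [map_add, show p r = q - p (σ ((R.trunc 1).res q)) from hr, sub_add_cancel]⟩

section Conditions

variable {X : Type u} [CommRing X] [Algebra Λ X] {resX : X →ₐ[Λ] k}

/-- A miniversal family forces `H0`. -/
lemma h0_of_bijective_dual (ξ : Family X resX F) (h : Function.Surjective (ξ.app (dual Λ k))) : H0 F := by
  refine ⟨⟨ξ.app _ (hR_h0 resX).1.some⟩, ⟨fun x y => ?_⟩⟩
  have : ∀ z : F.obj (base Λ k), z = ξ.app _ ((hR_h0 resX).1.some) := fun z => by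
    obtain ⟨φ, hφ⟩ := h (F.map baseToDual z)
    have e : baseToDual ≫ toBase (dual Λ k) = 𝟙 (base Λ k) := Art.hom_ext (AlgHom.ext fun _ => rfl)
    rw [← map_id_apply (F := F) _ z, ← e, ← map_map, ← hφ, ← ξ.natural]
    exact congrArg (ξ.app _) (@Subsingleton.elim (HomSet X resX (base Λ k)) (hR_h0 resX).2 _ _)
  rw [this x, this y]

/-- Surjective versal families give `(S1)`. -/
lemma s1_of_versal_surjective (ξ : Family X resX F) (hξ : IsVersal ξ) (hs : ∀ A, Function.Surjective (ξ.app A)) :
    S1 F := by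
  intro B A A' A'' p' p'' f' f'' h hf
  refine (cmp_surjective_iff h).mpr fun a' a'' e => ?_
  obtain ⟨α, rfl⟩ := hs A' a'
  obtain ⟨β, hβ1, rfl⟩ := hξ f'' hf (HomSet.map f' α) a'' (by rw [ξ.natural, e])
  obtain ⟨γ, h1, h2⟩ := (cmp_surjective_iff h).mp (hR_isLeftExact resX p' p'' f' f'' h).2 α β hβ1.symm
  exact ⟨ξ.app B γ, (ξ.natural p' γ).symm.trans (congrArg (ξ.app A') h1),
    (ξ.natural p'' γ).symm.trans (congrArg (ξ.app A'') h2)⟩

lemma surjective_of_versal (ξ : Family X resX F) (hξ : IsVersal ξ) (h0 : H0 F) (A : Art Λ k) :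
    Function.Surjective (ξ.app A) :=
  Mor.app_surjective (Mor.ofFamily ξ) hξ (fun _ => ⟨(hR_h0 resX).1.some, @Subsingleton.elim _ h0.2 _ _⟩) A

/-- Miniversal families give `(S2)`. -/
lemma heps_of_miniversal (ξ : Family X resX F) (hξ : IsMiniversal ξ) : Heps F := by
  have h0 := h0_of_bijective_dual ξ hξ.2.2
  have hs := surjective_of_versal ξ hξ.1 h0
  intro B A' p' p'' h
  refine ⟨(cmp_injective_iff h).mpr fun x y e1 e2 => ?_,
    s1_of_versal_surjective ξ hξ.1 hs p' p'' _ _ h (dual Λ k).res_surjective⟩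
  obtain ⟨γ, rfl⟩ := hs B x
  obtain ⟨γ', hγ', rfl⟩ := hξ.1 p' (surjective_fst h (dual Λ k).res_surjective) (HomSet.map p' γ) y
    (by rw [ξ.natural, e1])
  have e3 : HomSet.map p'' γ = HomSet.map p'' γ' := hξ.2.1 (by rw [ξ.natural, ξ.natural, e2])
  rw [show γ = γ' from (cmp_injective_iff h).mp (hR_heps resX p' p'' h).1 _ _ hγ'.symm e3]

end Conditions

section Finite

variable [Module.Finite Λ k] [IsNoetherianRing Λ]

theorem conditions_of_hasHull [TangentStr F] (h : HasHull F) : H0 F ∧ S1 F ∧ Heps F ∧ Hfin F := by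
  obtain ⟨P⟩ := h
  have h0 := h0_of_bijective_dual P.family P.miniversal.2.2
  exact ⟨h0, s1_of_versal_surjective P.family P.miniversal.1 (surjective_of_versal _ P.miniversal.1 h0),
    heps_of_miniversal P.family P.miniversal, hfin_of_surjective P.ring P.family P.miniversal.2.2⟩

omit [IsNoetherianRing Λ] in
lemma hbar_of_s1 (h : S1 F) : Hbar F := fun _ _ _ _ p' p'' f' f'' hp hs => h p' p'' f' f'' hp hs.1

theorem conditions_of_proRep [TangentStr F] (h : IsProrepresentable F) :
    H0 F ∧ IsLeftExact F ∧ Hfin F := by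
  obtain ⟨P⟩ := h
  refine ⟨h0_of_bijective_dual P.family (P.universal _).2, ?_, hfin_of_surjective P.ring P.family (P.universal _).2⟩
  intro B A A' A'' p' p'' f' f'' hp
  refine ⟨(cmp_injective_iff hp).mpr fun x y e1 e2 => ?_, (cmp_surjective_iff hp).mpr fun a' a'' e => ?_⟩
  · obtain ⟨γ, rfl⟩ := (P.universal B).2 x
    obtain ⟨γ', rfl⟩ := (P.universal B).2 y
    rw [← P.family.natural, ← P.family.natural] at e1 e2
    exact congrArg (P.family.app B) ((cmp_injective_iff hp).mp (hR_isLeftExact P.ring.res p' p'' f' f'' hp).1 _ _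
      ((P.universal A').1 e1) ((P.universal A'').1 e2))
  · obtain ⟨α, rfl⟩ := (P.universal A').2 a'
    obtain ⟨β, rfl⟩ := (P.universal A'').2 a''
    rw [← P.family.natural, ← P.family.natural] at e
    obtain ⟨γ, h1, h2⟩ := (cmp_surjective_iff hp).mp (hR_isLeftExact P.ring.res p' p'' f' f'' hp).2 α β
      ((P.universal A).1 e)
    exact ⟨P.family.app B γ, (P.family.natural p' γ).symm.trans (congrArg (P.family.app A') h1),
      (P.family.natural p'' γ).symm.trans (congrArg (P.family.app A'') h2)⟩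

/-- The criterion for pro-representability. -/
theorem prorepresentable_of_conditions [TangentStr F] (hk : Subsingleton (Derivation Λ k k)) (h0 : H0 F)
    (hbar : Hbar F) (heps : Heps F) (h3 : Hfin F) (hsq : HSq F) : IsProrepresentable F := by
  obtain ⟨P⟩ := hasHull hk h0 hbar heps h3
  exact ⟨⟨P.ring, P.family, fun A => ⟨Mor.app_injective (Mor.ofFamily P.family) h0 hsq (hR_h0 _) (hR_hbar _)
    (hR_heps _) P.miniversal.2.1 A, surjective_of_versal _ P.miniversal.1 h0 A⟩⟩⟩

omit [IsNoetherianRing Λ] in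
/-- Over a surjection `Λ → k` there are no derivations of `k`. -/
lemma subsingleton_derivation (hk : Function.Surjective (algebraMap Λ k)) : Subsingleton (Derivation Λ k k) :=
  ⟨fun D D' => Derivation.ext fun c => by
    obtain ⟨l, rfl⟩ := hk c
    rw [Derivation.map_algebraMap, Derivation.map_algebraMap]⟩

end Finite

end Groth.Agent.ArtFunLib
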