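import Groth.Agent.ArtFunLib.Formal

/-!
# Smooth coefficient rings are power series rings
-/

set_option autoImplicit false
set_option linter.unusedSectionVars false

open CategoryTheory ArtFun ArtFun.Art IsLocalRing

namespace Groth.Agent.ArtFunLib

universe u v

variable {Λ : Type u} {k : Type u} [CommRing Λ] [Field k] [Algebra Λ k] [Module.Finite Λ k] [IsNoetherianRing Λ]
  [IsLocalRing Λ] [IsAdicComplete (maximalIdeal Λ) Λ]

/-- A coefficient ring has smooth `h_R` if and only if it is a power series ring. -/
theorem isSmoothFunctor_iff_powerSeries (hk : Function.Surjective (algebraMap Λ k)) (R : CRing Λ k) :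
    IsSmoothFunctor (hR R.carrier R.res) ↔ ∃ n : ℕ, Nonempty (R.carrier ≃ₐ[Λ] MvPowerSeries (Fin n) Λ) := by
  constructor
  · intro h
    obtain ⟨d, S, X, π, hπ, hπs, hker, hX, hfree⟩ := exists_presentation hk R
    obtain ⟨s, hs, hsec⟩ := exists_lift_of_smooth R h S R π hπ hπs (AlgHom.id Λ _) (AlgHom.comp_id _)
    have hsπ : S.res.comp (s.comp π) = S.res := by rw [← AlgHom.comp_assoc, hs, hπ]
    have hsurj : Function.Surjective (s.comp π) := surjective_of_tangent_injective _ hsπ fun φ φ' he => by
      have key : ∀ (χ : HomSet S.carrier S.res (dual Λ k)), ∀ z ∈ linIdeal S, χ.1 z = 0 := fun χ z hz => by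
        have hle : linIdeal S ≤ RingHom.ker χ.1 := by
          refine sup_le ?_ ?_
          · refine fun w hw => ?_
            have := apply_mem_pow χ hw
            rwa [maximalIdeal_dual_sq, Ideal.mem_bot] at this
          · rw [Ideal.map_le_iff_le_comap]
            intro l hl
            change χ.1 (algebraMap Λ S.carrier l) = 0
            rw [AlgHom.commutes]
            change ((algebraMap Λ (DualNumber k)) l) = 0
            rw [TrivSqZeroExt.algebraMap_eq_inl', show algebraMap Λ k l = 0 from hl, TrivSqZeroExt.inl_zero]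
        exact hle hz
      refine HomSet.ext' fun z => ?_
      have hz : z - s (π z) ∈ linIdeal S := hker (by
        rw [RingHom.mem_ker, map_sub, show π (s (π z)) = π z from DFunLike.congr_fun hsec (π z), sub_self])
      have e1 := key φ _ hz
      have e2 := key φ' _ hz
      rw [map_sub, sub_eq_zero] at e1 e2
      rw [e1, e2]
      exact he z
    have hb := bijective_of_surjective_endo (s.comp π).toRingHom hsurj
    have hπb : Function.Bijective π := ⟨fun a b hab => hb.1 (congrArg s hab), hπs⟩
    obtain ⟨res, hres, hresX, hcomp⟩ := exists_psCRing (Λ := Λ) (k := k) hk d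
    let P : CRing Λ k := { carrier := MvPowerSeries (Fin d) Λ, res := res, res_surjective := hres, isAdicComplete := hcomp }
    choose ψ hψ hψu using fun n => hfree (P.trunc n) (fun i => (P.truncHom n).1 (MvPowerSeries.X i.down))
      fun i => (res_homSet _ _).trans (hresX _)
    obtain ⟨g, hg, hgn⟩ := exists_lift_trunc (R := P) ψ fun n => hψu n _ fun i => by
      change P.truncMap n ((ψ (n + 1)).1 (X i)) = _
      rw [hψ]; rfl
    have hgX : ∀ i, g (X i) = MvPowerSeries.X i.down := fun i =>
      eq_of_forall_truncHom (R := P) fun n => (hgn n _).trans (hψ n i)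
    have := S.isAdicComplete
    obtain ⟨g', hg'⟩ := ps_exists_lift (Λ := Λ) (σ := Fin d) (maximalIdeal S.carrier) (fun i => X ⟨i⟩)
      fun i => (CRing.mem_maximalIdeal_iff S _).mpr (hX _)
    have hg'res : S.res.comp g' = res := by
      have : IsAdicComplete (⊥ : Ideal k) k := {}
      refine ps_ext (⊥ : Ideal k) (fun i => ?_) fun i => ?_
      · rw [AlgHom.comp_apply, hg', hX]; exact zero_mem _
      · rw [AlgHom.comp_apply, hg', hX, hresX]
    have e1 : g'.comp g = AlgHom.id Λ _ := by
      refine algHom_ext_trunc fun n z => ?_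
      obtain ⟨φ₀, -, huniq⟩ := hfree (S.trunc n) (fun i => (S.truncHom n).1 (X i)) fun i => (res_homSet _ _).trans (hX i)
      have h1 : homPre (g'.comp g) (by rw [← AlgHom.comp_assoc, hg'res]; exact hg) (S.truncHom n) = S.truncHom n :=
        (huniq _ fun i => by
          change (S.truncHom n).1 (g' (g (X i))) = _
          rw [hgX, hg']).trans (huniq _ fun i => rfl).symm
      exact congrArg (fun χ : HomSet S.carrier S.res (S.trunc n) => χ.1 z) h1
    have e2 : g.comp g' = AlgHom.id Λ _ := by
      have := P.isAdicComplete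
      refine ps_ext (maximalIdeal P.carrier) (fun i => ?_) fun i => ?_
      · rw [AlgHom.comp_apply, hg', hgX]
        exact (CRing.mem_maximalIdeal_iff P _).mpr (hresX i)
      · rw [AlgHom.comp_apply, hg', hgX]
        rfl
    exact ⟨d, ⟨(AlgEquiv.ofBijective π hπb).symm.trans (AlgEquiv.ofAlgHom g g' e2 e1)⟩⟩
  · rintro ⟨n, ⟨e⟩⟩ B A μ hμ (φ : HomSet R.carrier R.res A)
    let resP := R.res.comp e.symm.toAlgHom
    have hres : ∀ i, resP (MvPowerSeries.X i) = 0 := fun i => by
      change R.res (e.symm (MvPowerSeries.X i)) = 0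
      rw [← CRing.mem_maximalIdeal_iff, IsLocalRing.mem_maximalIdeal]
      intro hu
      have h := hu.map e
      rw [e.apply_symm_apply, MvPowerSeries.isUnit_iff_constantCoeff, MvPowerSeries.constantCoeff_X] at h
      exact not_isUnit_zero h
    choose b hb using fun i => hμ (φ.1 (e.symm (MvPowerSeries.X i)))
    obtain ⟨ψ, hψ, -⟩ := ps_existsUnique hk hres B b fun i => by
      rw [← Art.res_app μ, hb, res_homSet φ]
      exact hres i
    obtain ⟨φ₀, -, huniq⟩ := ps_existsUnique hk hres A (fun i => φ.1 (e.symm (MvPowerSeries.X i))) fun i =>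
      (res_homSet φ _).trans (hres i)
    have key : HomSet.map μ ψ = homPre e.symm.toAlgHom rfl φ :=
      (huniq _ fun i => (congrArg μ.toAlgHom (hψ i)).trans (hb i)).trans (huniq _ fun i => rfl).symm
    refine ⟨homPre (resS := resP) e.toAlgHom (AlgHom.ext fun r => congrArg R.res (e.symm_apply_apply r)) ψ,
      HomSet.ext' fun r => ?_⟩
    refine (congrArg (fun χ : HomSet _ resP A => χ.1 (e r)) key).trans ?_
    exact congrArg φ.1 (e.symm_apply_apply r)

end Groth.Agent.ArtFunLib
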