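import Groth.Agent.ArtFunLib.Functor

/-!
# The tangent space
-/

set_option autoImplicit false
set_option linter.unusedSectionVars false

open CategoryTheory ArtFun ArtFun.Art IsLocalRing

namespace Groth.Agent.ArtFunLib

universe u v w

variable {Λ : Type u} {k : Type u} [CommRing Λ] [Field k] [Algebra Λ k]
variable {F : Art Λ k ⥤ Type v} {G : Art Λ k ⥤ Type w}

variable (Λ k) in
/-- The object `k ⊕ kⁿ`. -/
noncomputable def En (n : ℕ) : Art Λ k :=
  { carrier := TrivSqZeroExt k (Fin n → k)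
    isLocalRing := isLocalRing_tsze k (Fin n → k)
    isArtinianRing := isArtinianRing_tsze k (Fin n → k)
    res := TrivSqZeroExt.fstHom Λ k (Fin n → k)
    res_surjective := fun a => ⟨TrivSqZeroExt.inl a, rfl⟩ }

/-- A linear map `kⁿ → kᵐ` as a morphism. -/
noncomputable def enMap {n m : ℕ} (l : (Fin n → k) →ₗ[k] (Fin m → k)) : En Λ k n ⟶ En Λ k m :=
  ⟨tszeMap l, AlgHom.ext fun _ => rfl⟩

/-- A linear functional as a morphism to the dual numbers. -/
noncomputable def enDual {n : ℕ} (l : (Fin n → k) →ₗ[k] k) : En Λ k n ⟶ dual Λ k :=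
  ⟨tszeMap l, AlgHom.ext fun _ => rfl⟩

/-- The `i`-th coordinate. -/
noncomputable abbrev enProj {n : ℕ} (i : Fin n) : En Λ k n ⟶ dual Λ k :=
  enDual (LinearMap.proj i)

lemma enMap_enDual {n m : ℕ} (l : (Fin n → k) →ₗ[k] (Fin m → k)) (l' : (Fin m → k) →ₗ[k] k) :
    (enMap l ≫ enDual l' : En Λ k n ⟶ _) = enDual (l' ∘ₗ l) :=
  Art.hom_ext (AlgHom.ext fun _ => rfl)

lemma enDual_scale {n : ℕ} (l : (Fin n → k) →ₗ[k] k) (c : k) :
    (enDual l ≫ scale c : En Λ k n ⟶ _) = enDual (c • l) :=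
  Art.hom_ext (AlgHom.ext fun _ => rfl)

lemma isFibreProd_en (n : ℕ) :
    IsFibreProd (enMap (LinearMap.funLeft k k Fin.succ) : En Λ k (n + 1) ⟶ En Λ k n) (enProj 0)
      (toBase (En Λ k n)) (toBase (dual Λ k)) where
  w := by rw [eq_toBase (enMap _ ≫ toBase _), eq_toBase (enProj _ ≫ toBase _)]
  inj a b h1 h2 := by
    have e1 : a.fst = b.fst := congrArg (fun x : DualNumber k => TrivSqZeroExt.fst x) h2
    have e2 : a.snd 0 = b.snd 0 := congrArg (fun x : DualNumber k => TrivSqZeroExt.snd x) h2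
    have e3 : (fun i : Fin n => a.snd i.succ) = fun i => b.snd i.succ :=
      congrArg (fun x : TrivSqZeroExt k (Fin n → k) => TrivSqZeroExt.snd x) h1
    exact TrivSqZeroExt.ext e1 (funext fun i => Fin.cases e2 (fun j => congrFun e3 j) i)
  surj a b h := by
    have h' : a.fst = b.fst := h
    exact ⟨((a.fst, Fin.cons b.snd a.snd) : TrivSqZeroExt k (Fin (n + 1) → k)), TrivSqZeroExt.ext rfl (funext fun i => by
      change Fin.cons (α := fun _ => k) b.snd a.snd i.succ = a.snd i
      rw [Fin.cons_succ]), TrivSqZeroExt.ext h' (Fin.cons_zero (α := fun _ => k) b.snd a.snd)⟩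

lemma isIso_toBase_en_zero : IsIso (toBase (En Λ k 0)) := by
  refine isIso_of_bijective _ ⟨fun a b h => TrivSqZeroExt.ext h (Subsingleton.elim _ _), fun c => ?_⟩
  exact ⟨TrivSqZeroExt.inl c, rfl⟩

/-- Elements of `F(k ⊕ kⁿ)` are tuples of tangent vectors. -/
theorem existsUnique_en (h0 : H0 F) (h2 : Heps F) :
    ∀ (n : ℕ) (θ : Fin n → F.obj (dual Λ k)), ∃! z : F.obj (En Λ k n), ∀ i, F.map (enProj i) z = θ i := by
  intro n
  induction n with
  | zero =>
    intro θ
    have := isIso_toBase_en_zero (Λ := Λ) (k := k)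
    obtain ⟨z, -⟩ := (map_bijective_of_isIso (F := F) (toBase (En Λ k 0))).2 h0.1.some
    exact ⟨z, fun i => i.elim0, fun z' _ => (map_bijective_of_isIso (F := F) (toBase (En Λ k 0))).1 (@Subsingleton.elim _ h0.2 _ _)⟩
  | succ n ih =>
    intro θ
    obtain ⟨y, hy, hyu⟩ := ih fun i => θ i.succ
    have hcomp : ∀ i : Fin n, (enMap (LinearMap.funLeft k k Fin.succ) ≫ enProj i : En Λ k (n + 1) ⟶ _) =
        enProj i.succ := fun i => Art.hom_ext (AlgHom.ext fun _ => rfl)
    obtain ⟨z, hz1, hz2⟩ := (cmp_surjective_iff (isFibreProd_en n)).mp (h2 _ _ (isFibreProd_en n)).2 y (θ 0)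
      (@Subsingleton.elim _ h0.2 _ _)
    refine ⟨z, fun i => ?_, fun z' hz' => (cmp_injective_iff (isFibreProd_en n)).mp (h2 _ _ (isFibreProd_en n)).1 _ _ ?_
      (by rw [hz2]; exact hz' 0)⟩
    · induction i using Fin.cases with
      | zero => exact hz2
      | succ i => rw [← hcomp i, ← map_map, hz1, hy]
    · rw [hz1]
      exact hyu _ fun i => by rw [map_map, hcomp, hz' i.succ]

/-- The element of `F(k ⊕ kⁿ)` with given coordinates. -/
noncomputable def enElt (h0 : H0 F) (h2 : Heps F) {n : ℕ} (θ : Fin n → F.obj (dual Λ k)) : F.obj (En Λ k n) :=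
  (existsUnique_en h0 h2 n θ).exists.choose

lemma map_proj_enElt (h0 : H0 F) (h2 : Heps F) {n : ℕ} (θ : Fin n → F.obj (dual Λ k)) (i : Fin n) :
    F.map (enProj i) (enElt h0 h2 θ) = θ i :=
  (existsUnique_en h0 h2 n θ).exists.choose_spec i

lemma map_enMap_enElt (h0 : H0 F) (h2 : Heps F) {n m : ℕ} (θ : Fin n → F.obj (dual Λ k))
    (l : (Fin n → k) →ₗ[k] (Fin m → k)) :
    F.map (enMap l) (enElt h0 h2 θ) = enElt h0 h2 fun i => F.map (enDual (LinearMap.proj i ∘ₗ l)) (enElt h0 h2 θ) :=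
  (existsUnique_en h0 h2 m _).unique (fun i => by rw [map_map, enMap_enDual]) (map_proj_enElt h0 h2 _)

/-- Addition on the tangent space. -/
noncomputable def tAdd (h0 : H0 F) (h2 : Heps F) (x y : F.obj (dual Λ k)) : F.obj (dual Λ k) :=
  F.map (enDual ((LinearMap.proj 0 : (Fin 2 → k) →ₗ[k] k) + LinearMap.proj 1)) (enElt h0 h2 ![x, y])

/-- The zero tangent vector. -/
noncomputable def tZero (h0 : H0 F) : F.obj (dual Λ k) := F.map baseToDual h0.1.some

lemma map_enDual_zero (h0 : H0 F) {n : ℕ} (z : F.obj (En Λ k n)) :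
    F.map (enDual (0 : (Fin n → k) →ₗ[k] k)) z = tZero h0 := by
  have : (enDual (0 : (Fin n → k) →ₗ[k] k) : En Λ k n ⟶ _) = toBase _ ≫ baseToDual :=
    Art.hom_ext (AlgHom.ext fun _ => rfl)
  rw [this, ← map_map, @Subsingleton.elim _ h0.2 (F.map (toBase _) z) h0.1.some]
  rfl

lemma map_enDual_add (h0 : H0 F) (h2 : Heps F) {n : ℕ} (z : F.obj (En Λ k n)) (l l' : (Fin n → k) →ₗ[k] k) :
    F.map (enDual (l + l')) z = tAdd h0 h2 (F.map (enDual l) z) (F.map (enDual l') z) := by
  have e : F.map (enMap (LinearMap.pi ![l, l'])) z = enElt h0 h2 ![F.map (enDual l) z, F.map (enDual l') z] := by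
    refine (existsUnique_en h0 h2 2 _).unique (fun i => ?_) (map_proj_enElt h0 h2 _)
    rw [map_map, enMap_enDual]
    fin_cases i <;> simp [LinearMap.proj_pi]
  rw [tAdd, ← e, map_map, enMap_enDual]
  congr 2

lemma scale_apply_enElt (h0 : H0 F) (h2 : Heps F) {n : ℕ} (θ : Fin n → F.obj (dual Λ k)) (c : k) (i : Fin n) :
    F.map (scale c) (θ i) = F.map (enDual (c • LinearMap.proj i)) (enElt h0 h2 θ) := by
  conv_lhs => rw [← map_proj_enElt h0 h2 θ i, map_map, enDual_scale]

lemma exists_tuple (h0 : H0 F) (h2 : Heps F) (a b c : F.obj (dual Λ k)) :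
    ∃ z : F.obj (En Λ k 3), F.map (enProj 0) z = a ∧ F.map (enProj 1) z = b ∧ F.map (enProj 2) z = c :=
  ⟨enElt h0 h2 ![a, b, c], map_proj_enElt h0 h2 _ 0, map_proj_enElt h0 h2 _ 1, map_proj_enElt h0 h2 _ 2⟩

/-- A tangent structure exists. -/
theorem nonempty_tangentStr (h0 : H0 F) (h2 : Heps F) : Nonempty (TangentStr F) := by
  have hadd := fun {n} (z : F.obj (En Λ k n)) l l' => map_enDual_add h0 h2 z l l'
  have hzero := fun {n} (z : F.obj (En Λ k n)) => map_enDual_zero h0 z
  have hsc : ∀ {n} (z : F.obj (En Λ k n)) (l : (Fin n → k) →ₗ[k] k) (c : k),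
      F.map (enDual (c • l)) z = F.map (scale c) (F.map (enDual l) z) := fun z l c => by
    rw [map_map, enDual_scale]
  have ex := exists_tuple h0 h2
  let Z : Zero (F.obj (dual Λ k)) := ⟨tZero h0⟩
  let A : Add (F.obj (dual Λ k)) := ⟨tAdd h0 h2⟩
  let N : Neg (F.obj (dual Λ k)) := ⟨F.map (scale (-1))⟩
  have hassoc : ∀ a b c : F.obj (dual Λ k), a + b + c = a + (b + c) := fun a b c => by
    obtain ⟨z, rfl, rfl, rfl⟩ := ex a b c
    change tAdd h0 h2 (tAdd h0 h2 _ _) _ = tAdd h0 h2 _ (tAdd h0 h2 _ _)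
    rw [← hadd, ← hadd, ← hadd, ← hadd, add_assoc]
  have hcomm : ∀ a b : F.obj (dual Λ k), a + b = b + a := fun a b => by
    obtain ⟨z, rfl, rfl, -⟩ := ex a b b
    change tAdd h0 h2 _ _ = tAdd h0 h2 _ _
    rw [← hadd, ← hadd, add_comm]
  have hza : ∀ a : F.obj (dual Λ k), 0 + a = a := fun a => by
    obtain ⟨z, rfl, -, -⟩ := ex a a a
    change tAdd h0 h2 (tZero h0) _ = _
    rw [← hzero z, ← hadd, zero_add]
  have hneg : ∀ a : F.obj (dual Λ k), -a + a = 0 := fun a => by
    obtain ⟨z, rfl, -, -⟩ := ex a a a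
    change tAdd h0 h2 (F.map (scale (-1)) _) _ = tZero h0
    rw [← hsc, ← hadd]
    convert hzero z using 4
    ext x
    simp
  letI acg : AddCommGroup (F.obj (dual Λ k)) :=
    { add_assoc := hassoc, add_comm := hcomm, zero_add := hza, neg_add_cancel := hneg,
      add_zero := fun a => (hcomm a 0).trans (hza a), nsmul := nsmulRec, zsmul := zsmulRec }
  have h1 : ∀ a : F.obj (dual Λ k), F.map (scale 1) a = a := fun a => by
    obtain ⟨z, rfl, -, -⟩ := ex a a a
    rw [← hsc, one_smul]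
  letI mod : Module k (F.obj (dual Λ k)) :=
    { smul := fun c => F.map (scale c)
      one_smul := h1
      mul_smul := fun c c' a => by
        obtain ⟨z, rfl, -, -⟩ := ex a a a
        change F.map (scale (c * c')) _ = F.map (scale c) (F.map (scale c') _)
        rw [← hsc, ← hsc, ← hsc, mul_smul]
      smul_zero := fun c => by
        obtain ⟨z, -, -, -⟩ := ex 0 0 0
        change F.map (scale c) (tZero h0) = tZero h0
        rw [← hzero z, ← hsc, smul_zero]
      smul_add := fun c a b => by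
        obtain ⟨z, rfl, rfl, -⟩ := ex a b b
        change F.map (scale c) (tAdd h0 h2 _ _) = tAdd h0 h2 (F.map (scale c) _) (F.map (scale c) _)
        rw [← hadd, ← hsc, ← hsc, ← hsc, ← hadd, smul_add]
      add_smul := fun c c' a => by
        obtain ⟨z, rfl, -, -⟩ := ex a a a
        change F.map (scale (c + c')) _ = tAdd h0 h2 (F.map (scale c) _) (F.map (scale c') _)
        rw [← hsc, ← hsc, ← hsc, ← hadd, add_smul]
      zero_smul := fun a => by
        obtain ⟨z, rfl, -, -⟩ := ex a a a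
        change F.map (scale 0) _ = tZero h0
        rw [← hsc, zero_smul, hzero] }
  refine ⟨{ addCommGroup := acg, module := mod, smul_eq := fun _ _ => rfl, add_eq := fun w => ?_ }⟩
  let e : dual2 Λ k ⟶ En Λ k 2 :=
    ⟨tszeMap (LinearMap.pi ![LinearMap.fst k k k, LinearMap.snd k k k]), AlgHom.ext fun _ => rfl⟩
  have e1 : e ≫ enProj 0 = pr₁ := Art.hom_ext (AlgHom.ext fun _ => rfl)
  have e2 : e ≫ enProj 1 = pr₂ := Art.hom_ext (AlgHom.ext fun _ => rfl)
  have e3 : e ≫ enDual ((LinearMap.proj 0 : (Fin 2 → k) →ₗ[k] k) + LinearMap.proj 1) = plus :=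
    Art.hom_ext (AlgHom.ext fun _ => rfl)
  change tAdd h0 h2 (F.map pr₁ w) (F.map pr₂ w) = F.map plus w
  rw [← e1, ← e2, ← e3, ← map_map, ← map_map, ← map_map, hadd]

/-- Evaluation of `F(k ⊕ kⁿ)` at a functional is linear in the functional. -/
theorem map_enDual_eq_sum [T : TangentStr F] (h0 : H0 F) (h2 : Heps F) {n : ℕ} (z : F.obj (En Λ k n))
    (l : (Fin n → k) →ₗ[k] k) :
    TangentSpace.mk (F.map (enDual l) z) =
      ∑ i, l (Pi.single i 1) • TangentSpace.mk (F.map (enProj i) z) := by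
  classical
  have hadd : ∀ a b : (Fin n → k) →ₗ[k] k, TangentSpace.mk (F.map (enDual (a + b)) z) =
      TangentSpace.mk (F.map (enDual a) z) + TangentSpace.mk (F.map (enDual b) z) := by
    intro a b
    let e : En Λ k n ⟶ dual2 Λ k := ⟨tszeMap (a.prod b), AlgHom.ext fun _ => rfl⟩
    have e1 : e ≫ pr₁ = enDual a := Art.hom_ext (AlgHom.ext fun _ => rfl)
    have e2 : e ≫ pr₂ = enDual b := Art.hom_ext (AlgHom.ext fun _ => rfl)
    have e3 : e ≫ plus = enDual (a + b) := Art.hom_ext (AlgHom.ext fun _ => rfl)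
    rw [← e1, ← e2, ← e3, ← map_map, ← map_map, ← map_map]
    exact (T.add_eq _).symm
  let L : ((Fin n → k) →ₗ[k] k) →ₗ[k] TangentSpace F :=
    { toFun := fun a => TangentSpace.mk (F.map (enDual a) z)
      map_add' := hadd
      map_smul' := fun c a => by
        change F.map (enDual (c • a)) z = T.module.toSMul.smul c (F.map (enDual a) z)
        rw [← enDual_scale, ← map_map]
        exact (T.smul_eq c _).symm }
  have hl : l = ∑ i, l (Pi.single i 1) • (LinearMap.proj i : (Fin n → k) →ₗ[k] k) := by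
    refine LinearMap.ext fun x => ?_
    conv_lhs => rw [pi_eq_sum_univ' x]
    simp [map_sum, mul_comm]
  change L l = _
  conv_lhs => rw [hl, map_sum]
  exact Finset.sum_congr rfl fun i _ => by rw [map_smul]; rfl

/-- A morphism of functors is linear on tangent spaces. -/
theorem Mor.exists_tangent_linear [TG : TangentStr G] [TF : TangentStr F] (hG0 : H0 G) (hG2 : Heps G) (η : Mor G F) :
    ∃ f : TangentSpace G →ₗ[k] TangentSpace F, ∀ x, f x = TangentSpace.mk (η.app (dual Λ k) x) := by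
  refine ⟨{ toFun := fun x => TangentSpace.mk (η.app (dual Λ k) x), map_add' := fun x y => ?_, map_smul' := fun c x => ?_ },
    fun _ => rfl⟩
  · obtain ⟨z, hz1, hz2⟩ := (cmp_surjective_iff (isFibreProd_dual2 (Λ := Λ) (k := k))).mp
      (hG2 _ _ isFibreProd_dual2).2 x y (@Subsingleton.elim _ hG0.2 _ _)
    have e1 : x + y = TangentSpace.mk (G.map plus z) := by
      rw [← hz1, ← hz2]; exact TG.add_eq z
    rw [e1]
    change η.app _ (G.map plus z) = TF.addCommGroup.toAdd.add (η.app _ x) (η.app _ y)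
    rw [η.natural, ← hz1, ← hz2, η.natural, η.natural]
    exact (TF.add_eq _).symm
  · have e1 : c • x = TangentSpace.mk (G.map (scale c) x) := TG.smul_eq c x
    rw [e1]
    change η.app _ (G.map (scale c) x) = TF.module.toSMul.smul c (η.app _ x)
    rw [η.natural]
    exact (TF.smul_eq c _).symm

end Groth.Agent.ArtFunLib
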